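import Groth.Agent.Lib.LC.BaseChange
import Groth.Agent.Lib.InjMod.FlatTensor

/-! Flat base change for local cohomology. -/

universe u

open CategoryTheory TensorProduct

namespace GrothLib.LC

variable {R : Type u} [CommRing R] {R' : Type u} [CommRing R'] [Algebra R R'] (I : Ideal R)

variable (R') in
theorem baseChange_mem_torsionSub {M : Type u} [AddCommGroup M] [Module R M]
    (w : R' ⊗[R] DRing.torsionSub I M) :
    (DRing.torsionSub I M).subtype.baseChange R' w ∈
      DRing.torsionSub (I.map (algebraMap R R')) (R' ⊗[R] M) := by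
  induction w using TensorProduct.induction_on with
  | zero => rw [map_zero]; exact Submodule.zero_mem _
  | tmul r m =>
    rw [LinearMap.baseChange_tmul]
    refine (mem_torsionSub_map_iff (R' := R') I (R' ⊗[R] M) _).2 ?_
    obtain ⟨n, hn⟩ := m.2
    exact ⟨n, fun a ha => by rw [← TensorProduct.tmul_smul, Submodule.subtype_apply, hn a ha, tmul_zero]⟩
  | add x y hx hy => rw [map_add]; exact Submodule.add_mem _ hx hy

variable (R') in
/-- `R' ⊗ Γ_I M → Γ_(IR') (R' ⊗ M)`. -/
noncomputable def torsionBaseChange (M : Type u) [AddCommGroup M] [Module R M] :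
    R' ⊗[R] DRing.torsionSub I M →ₗ[R']
      DRing.torsionSub (I.map (algebraMap R R')) (R' ⊗[R] M) :=
  LinearMap.codRestrict _ ((DRing.torsionSub I M).subtype.baseChange R')
    (baseChange_mem_torsionSub R' I)

variable (R') in
theorem torsionBaseChange_bijective [IsNoetherianRing R] [Module.Flat R R'] (M : Type u)
    [AddCommGroup M] [Module R M] : Function.Bijective (torsionBaseChange R' I M) := by
  classical
  constructor
  · intro x y h
    exact Module.Flat.lTensor_preserves_injective_linearMap (M := R') _
      (DRing.torsionSub I M).injective_subtype (congrArg Subtype.val h)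
  · rintro ⟨z, hz⟩
    obtain ⟨n, hn⟩ := (mem_torsionSub_map_iff (R' := R') I (R' ⊗[R] M) z).1 hz
    obtain ⟨s, a, ha⟩ := Submodule.fg_iff_exists_fin_generating_family.1
      (IsNoetherian.noetherian (I ^ n))
    let A : M →ₗ[R] (Fin s → M) := LinearMap.pi fun j => a j • LinearMap.id
    have hker : LinearMap.ker A ≤ DRing.torsionSub I M := fun m hm => ⟨n, fun b hb => by
      have hle : (I ^ n : Ideal R) ≤ (Submodule.span R {m}).annihilator := by
        rw [← ha, Submodule.span_le]
        rintro _ ⟨j, rfl⟩
        exact (Submodule.mem_annihilator_span_singleton m _).2 (congrFun (LinearMap.mem_ker.1 hm) j)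
      exact (Submodule.mem_annihilator_span_singleton m b).1 (hle hb)⟩
    have hA : ∀ w : R' ⊗[R] M, TensorProduct.piRight R R R' (fun _ : Fin s => M)
        (LinearMap.lTensor R' A w) = fun j => a j • w := by
      intro w
      induction w using TensorProduct.induction_on with
      | zero => ext j; simp
      | tmul r m => ext j; simp [A, TensorProduct.tmul_smul]
      | add x y hx hy => ext j; simp [map_add, hx, hy, smul_add]
    have h0 : LinearMap.lTensor R' A z = 0 := by
      apply (TensorProduct.piRight R R R' (fun _ : Fin s => M)).injective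
      rw [hA, map_zero]
      funext j
      exact hn _ (ha ▸ Submodule.subset_span ⟨j, rfl⟩)
    obtain ⟨w, hw⟩ := ((Module.Flat.lTensor_exact R' (LinearMap.exact_subtype_ker_map A)) z).1 h0
    refine ⟨LinearMap.lTensor R' (Submodule.inclusion hker) w, Subtype.ext ?_⟩
    show LinearMap.lTensor R' (DRing.torsionSub I M).subtype
      (LinearMap.lTensor R' (Submodule.inclusion hker) w) = z
    rw [← LinearMap.lTensor_comp_apply, Submodule.subtype_comp_inclusion, hw]

theorem exists_equiv_of_surjective {S : Type u} [CommRing S] {A' H' A H : Type u} [AddCommGroup A']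
    [AddCommGroup H'] [AddCommGroup A] [AddCommGroup H] [Module S A'] [Module S H'] [Module S A]
    [Module S H] (q' : A' →ₗ[S] H') (q : A →ₗ[S] H) (e : A' ≃ₗ[S] A) (hq' : Function.Surjective q')
    (hq : Function.Surjective q) (hker : ∀ a, q' a = 0 ↔ q (e a) = 0) : Nonempty (H' ≃ₗ[S] H) :=
  ⟨(q'.quotKerEquivOfSurjective hq').symm ≪≫ₗ Submodule.Quotient.equiv _ _ e (by
      ext x
      rw [Submodule.mem_map_equiv, LinearMap.mem_ker, LinearMap.mem_ker, hker, e.apply_symm_apply])
    ≪≫ₗ q.quotKerEquivOfSurjective hq⟩

theorem nonempty_baseChange_equiv [IsNoetherianRing R] [IsNoetherianRing R'] [Module.Flat R R']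
    (i : ℕ) : ∀ (M : Type u) [AddCommGroup M] [Module R M],
      Nonempty (R' ⊗[R] (localCohomology I i).obj (ModuleCat.of R M) ≃ₗ[R']
        (localCohomology (I.map (algebraMap R R')) i).obj (ModuleCat.of R' (R' ⊗[R] M))) := by
  induction i using Nat.strong_induction_on with
  | _ i ih =>
  intro M _ _
  rcases i with - | i
  · exact ⟨(torsionEquiv I (ModuleCat.of R M)).symm.baseChange R R' _ _ ≪≫ₗ
      LinearEquiv.ofBijective _ (torsionBaseChange_bijective R' I M) ≪≫ₗ
      torsionEquiv (I.map (algebraMap R R')) (ModuleCat.of R' (R' ⊗[R] M))⟩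
  · obtain ⟨E, _, _, ι, hE, hι⟩ := GrothLib.InjMod.exists_embedding_injective (R := R) M
    let C := E ⧸ LinearMap.range ι
    have hS : (ShortComplex.mk (X₁ := ModuleCat.of R M) (X₂ := ModuleCat.of R E)
        (X₃ := ModuleCat.of R C) (ModuleCat.ofHom ι) (ModuleCat.ofHom (LinearMap.range ι).mkQ)
        (ModuleCat.hom_ext (LinearMap.range_mkQ_comp ι))).ShortExact :=
      { exact := (ShortComplex.moduleCat_exact_iff _).2 fun x hx =>
          (Submodule.Quotient.mk_eq_zero _).1 hx
        mono_f := (ModuleCat.mono_iff_injective _).2 hι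
        epi_g := (ModuleCat.epi_iff_surjective _).2 (Submodule.mkQ_surjective _) }
    have hex : Function.Exact ι (LinearMap.range ι).mkQ := LinearMap.exact_map_mkQ_range ι
    have hS' : (ShortComplex.mk (X₁ := ModuleCat.of R' (R' ⊗[R] M))
        (X₂ := ModuleCat.of R' (R' ⊗[R] E)) (X₃ := ModuleCat.of R' (R' ⊗[R] C))
        (ModuleCat.ofHom (ι.baseChange R')) (ModuleCat.ofHom ((LinearMap.range ι).mkQ.baseChange R'))
        (ModuleCat.hom_ext (LinearMap.ext fun x =>
          ((lTensor_exact R' hex (Submodule.mkQ_surjective _)) _).2 ⟨x, rfl⟩))).ShortExact :=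
      { exact := (ShortComplex.moduleCat_exact_iff _).2 fun x hx =>
          ((lTensor_exact R' hex (Submodule.mkQ_surjective _)) x).1 hx
        mono_f := (ModuleCat.mono_iff_injective _).2
          (Module.Flat.lTensor_preserves_injective_linearMap (M := R') ι hι)
        epi_g := (ModuleCat.epi_iff_surjective _).2
          (LinearMap.lTensor_surjective R' (Submodule.mkQ_surjective _)) }
    have : Injective (ModuleCat.of R E) := Module.injective_object_of_injective_module R E
    have := GrothLib.InjMod.injective_tensor_of_flat (R := R) R' E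
    have : Injective (ModuleCat.of R (R' ⊗[R] E)) := Module.injective_object_of_injective_module R _
    have hEI := fun j => subsingleton_of_injective I (ModuleCat.of R E) j
    have hE' := fun j => (subsingleton_map_iff (R' := R') I (j + 1) (R' ⊗[R] E)).2
      (subsingleton_of_injective I (ModuleCat.of R (R' ⊗[R] E)) j)
    rcases i with - | i
    · refine exists_equiv_of_surjective ((torsionδ I hS).baseChange R')
        (torsionδ (I.map (algebraMap R R')) hS')
        (LinearEquiv.ofBijective _ (torsionBaseChange_bijective R' I C))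
        (LinearMap.lTensor_surjective R' (torsionδ_surjective I hS hEI))
        (torsionδ_surjective _ hS' hE') fun c => ?_
      let g : DRing.torsionSub I E →ₗ[R] DRing.torsionSub I C :=
        (LinearMap.range ι).mkQ.restrict fun x hx => DRing.map_mem_torsionSub I (LinearMap.range ι).mkQ hx
      have hexq : Function.Exact g (torsionδ I hS) := fun x => by
        rw [mem_ker_torsionδ I hS x]
        exact ⟨fun ⟨e, he, h⟩ => ⟨⟨e, he⟩, Subtype.ext h⟩,
          fun ⟨⟨e, he⟩, h⟩ => ⟨e, he, congrArg Subtype.val h⟩⟩
      have hnat : ∀ w, ((LinearEquiv.ofBijective _ (torsionBaseChange_bijective R' I C))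
          (LinearMap.lTensor R' g w)).1 =
            LinearMap.lTensor R' (LinearMap.range ι).mkQ
              (torsionBaseChange R' I E w).1 := by
        intro w
        show LinearMap.lTensor R' (DRing.torsionSub I C).subtype (LinearMap.lTensor R' g w) =
          LinearMap.lTensor R' (LinearMap.range ι).mkQ
            (LinearMap.lTensor R' (DRing.torsionSub I E).subtype w)
        rw [← LinearMap.lTensor_comp_apply, ← LinearMap.lTensor_comp_apply]
        rfl
      refine ((lTensor_exact R' hexq (torsionδ_surjective I hS hEI)) c).trans ?_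
      rw [mem_ker_torsionδ (I.map (algebraMap R R')) hS']
      constructor
      · rintro ⟨w, rfl⟩
        exact ⟨_, (torsionBaseChange R' I E w).2, (hnat w).symm⟩
      · rintro ⟨z, hz, h⟩
        obtain ⟨w, hw⟩ := (torsionBaseChange_bijective R' I E).2 ⟨z, hz⟩
        refine ⟨w, (LinearEquiv.ofBijective _ (torsionBaseChange_bijective R' I C)).injective
          (Subtype.ext ((hnat w).trans ?_))⟩
        rw [hw]
        exact h
    · obtain ⟨φ⟩ := ih (i + 1) (Nat.lt_succ_self _) C
      exact ⟨(shiftEquiv I hS hEI i).symm.baseChange R R' _ _ ≪≫ₗ φ ≪≫ₗ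
        shiftEquiv (I.map (algebraMap R R')) hS' hE' i⟩

end GrothLib.LC
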