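import Groth.Prelude.Def_Wider
import Mathlib.RingTheory.Artinian.Module
import Mathlib.RingTheory.HopkinsLevitzki
import Mathlib.RingTheory.Ideal.Operations
import Mathlib.RingTheory.Nakayama

/-! Artinian modules: Melkersson's criterion and surjectivity of multiplication by generic
elements. -/

universe u

open Pointwise

namespace GrothLib.LC

variable {R : Type u} [CommRing R] {M : Type u} [AddCommGroup M] [Module R M]

/-- `x^j (N ∩ ker x^(j+1))`, as a submodule of `ker x`. -/
noncomputable def layer (x : R) (N : Submodule R M) (j : ℕ) :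
    Submodule R (LinearMap.ker (x • LinearMap.id : M →ₗ[R] M)) :=
  Submodule.comap (Submodule.subtype _)
    ((N ⊓ LinearMap.ker ((x ^ (j + 1)) • LinearMap.id : M →ₗ[R] M)).map ((x ^ j) • LinearMap.id))

theorem mem_layer {x : R} {N : Submodule R M} {j : ℕ}
    {a : LinearMap.ker (x • LinearMap.id : M →ₗ[R] M)} :
    a ∈ layer x N j ↔ ∃ m ∈ N, x ^ (j + 1) • m = 0 ∧ x ^ j • m = (a : M) := by
  simp only [layer, Submodule.mem_comap, Submodule.mem_map, Submodule.mem_inf, LinearMap.mem_ker,
    LinearMap.smul_apply, LinearMap.id_coe, id_eq, Submodule.subtype_apply, and_assoc]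

theorem layer_mono (x : R) {N N' : Submodule R M} (h : N ≤ N') (j : ℕ) :
    layer x N j ≤ layer x N' j := fun a ha => by
  obtain ⟨m, hm, h1, h2⟩ := mem_layer.1 ha
  exact mem_layer.2 ⟨m, h hm, h1, h2⟩

theorem layer_succ_le (x : R) (N : Submodule R M) (j : ℕ) : layer x N (j + 1) ≤ layer x N j :=
  fun a ha => by
  obtain ⟨m, hm, h1, h2⟩ := mem_layer.1 ha
  refine mem_layer.2 ⟨x • m, N.smul_mem x hm, ?_, ?_⟩
  · rw [smul_smul, ← pow_succ]; exact h1
  · rw [smul_smul, ← pow_succ]; exact h2

/-- A module which is `x`-power torsion and whose `x`-torsion is Artinian is Artinian. -/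
theorem isArtinian_of_ker_smul (x : R) (htors : ∀ m : M, ∃ j : ℕ, x ^ j • m = 0)
    [IsArtinian R (LinearMap.ker (x • LinearMap.id : M →ₗ[R] M))] : IsArtinian R M := by
  refine monotone_stabilizes_iff_artinian.1 fun f => ?_
  let L : ℕ → ℕ → Submodule R (LinearMap.ker (x • LinearMap.id : M →ₗ[R] M)) := fun n j =>
    layer x (OrderDual.ofDual (f n)) j
  have hn : ∀ {n n'}, n ≤ n' → ∀ j, L n' j ≤ L n j := fun h j => layer_mono x (f.monotone h) j
  have hj : ∀ n {j j'}, j ≤ j' → L n j' ≤ L n j := fun n => fun h =>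
    antitone_nat_of_succ_le (fun j => layer_succ_le x (OrderDual.ofDual (f n)) j) h
  obtain ⟨_, ⟨⟨n₀, j₀⟩, rfl⟩, hmin⟩ := IsArtinian.set_has_minimal
    (Set.range fun p : ℕ × ℕ => L p.1 p.2) (Set.range_nonempty _)
  have hbig : ∀ n ≥ n₀, ∀ j ≥ j₀, L n j = L n₀ j₀ := fun n h1 j h2 =>
    eq_of_le_of_not_lt ((hn h1 j).trans (hj n₀ h2)) (hmin _ ⟨(n, j), rfl⟩)
  have hsmall : ∀ j, ∃ k, ∀ n ≥ k, L n j = L k j := fun j => by
    obtain ⟨k, hk⟩ := IsArtinian.monotone_stabilizes
      ⟨fun n => OrderDual.toDual (L n j), fun _ _ h => hn h j⟩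
    exact ⟨k, fun n h => (hk n h).symm⟩
  choose k hk using hsmall
  let n₁ := max n₀ ((Finset.range j₀).sup k)
  refine ⟨n₁, fun n hn₁ => ?_⟩
  have heq : ∀ j, L n₁ j ≤ L n j := fun j => by
    rcases le_or_gt j₀ j with h | h
    · rw [hbig n₁ (le_max_left _ _) j h, hbig n ((le_max_left _ _).trans hn₁) j h]
    · have := le_trans (Finset.le_sup (f := k) (Finset.mem_range.2 h)) (le_max_right n₀ _)
      rw [hk j n₁ this, hk j n (this.trans hn₁)]
  have key : ∀ (j : ℕ) (m : M), m ∈ OrderDual.ofDual (f n₁) → x ^ j • m = 0 →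
      m ∈ OrderDual.ofDual (f n) := by
    intro j
    induction j with
    | zero =>
      intro m _ h0
      rw [pow_zero, one_smul] at h0
      rw [h0]
      exact zero_mem _
    | succ j ih =>
      intro m hm h0
      let a : LinearMap.ker (x • LinearMap.id : M →ₗ[R] M) :=
        ⟨x ^ j • m, by show x • (x ^ j • m) = 0; rw [smul_smul, ← pow_succ']; exact h0⟩
      obtain ⟨m', hm', h1, h2⟩ := mem_layer.1 (heq j (mem_layer.2 ⟨m, hm, h0, rfl⟩ : a ∈ L n₁ j))
      have hle : (OrderDual.ofDual (f n)) ≤ OrderDual.ofDual (f n₁) := f.monotone hn₁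
      have := ih (m - m') (sub_mem hm (hle hm')) (by rw [smul_sub, h2, sub_self])
      simpa using add_mem this hm'
  refine OrderDual.ofDual.injective (le_antisymm (fun m hm => ?_) (f.monotone hn₁))
  obtain ⟨j, hj⟩ := htors m
  exact key j m hm hj

/-- Melkersson: an `I`-power torsion module whose `I`-torsion is Artinian is Artinian. -/
theorem isArtinian_of_isPowerTorsion {I : Ideal R} (hI : I.FG)
    (htors : LocCoh.IsPowerTorsion I M) [hA : IsArtinian R (LocCoh.torsionBy I M)] :
    IsArtinian R M := by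
  classical
  obtain ⟨s, rfl⟩ := hI
  suffices ∀ (t : Finset R), t ⊆ s → IsArtinian R
      ↥(Submodule.torsionBySet R M ((s \ t : Finset R) : Set R)) by
    have h := this s subset_rfl
    rw [Finset.sdiff_self, Finset.coe_empty] at h
    have : Submodule.torsionBySet R M (∅ : Set R) = ⊤ :=
      eq_top_iff.2 fun m _ => (Submodule.mem_torsionBySet_iff _ _).2 fun a => a.2.elim
    rw [this] at h
    exact isArtinian_of_linearEquiv Submodule.topEquiv
  intro t
  induction t using Finset.induction_on with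
  | empty =>
    intro _
    rw [Finset.sdiff_empty]
    have : Submodule.torsionBySet R M (s : Set R) = LocCoh.torsionBy (Ideal.span (s : Set R)) M :=
      Submodule.torsionBySet_eq_torsionBySet_span (R := R) (M := M) (s : Set R)
    rw [this]
    exact hA
  | insert a t hat ih =>
    intro hts
    have := ih ((Finset.subset_insert _ _).trans hts)
    let N := Submodule.torsionBySet R M ((s \ insert a t : Finset R) : Set R)
    let g : LinearMap.ker (a • LinearMap.id : N →ₗ[R] N) →ₗ[R] M := N.subtype ∘ₗ Submodule.subtype _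
    have hg : ∀ z, g z ∈ Submodule.torsionBySet R M ((s \ t : Finset R) : Set R) := fun z => by
      refine (Submodule.mem_torsionBySet_iff _ _).2 fun b => ?_
      by_cases hb : (b : R) = a
      · rw [hb]
        exact congrArg Subtype.val z.2
      · have hb' := b.2
        simp only [Finset.coe_sdiff, Set.mem_sdiff, Finset.mem_coe] at hb'
        exact (Submodule.mem_torsionBySet_iff _ _).1 z.1.2 ⟨b, by
          simp [hb, hb'.1, hb'.2]⟩
    have : IsArtinian R (LinearMap.ker (a • LinearMap.id : N →ₗ[R] N)) :=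
      isArtinian_of_injective (LinearMap.codRestrict _ g hg)
        (fun p q h => Subtype.ext (Subtype.ext (congrArg Subtype.val h :)))
    refine isArtinian_of_ker_smul a fun m => ?_
    obtain ⟨j, hj⟩ := htors (m : M)
    exact ⟨j, Subtype.ext (hj _ (Ideal.pow_mem_pow
      (Ideal.subset_span (Finset.mem_coe.2 (hts (Finset.mem_insert_self a t)))) j))⟩

/-- A finitely generated module killed by a power of a maximal ideal is Artinian, and conversely. -/
theorem finite_iff_isArtinian_of_pow_smul [IsNoetherianRing R] (m : Ideal R) [hm : m.IsMaximal]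
    {N : ℕ} (h : ∀ a ∈ m ^ N, ∀ x : M, a • x = 0) :
    Module.Finite R M ↔ IsArtinian R M := by
  letI : Module (R ⧸ m ^ N) M :=
    Module.IsTorsionBySet.module (I := m ^ N) fun x a => h a.1 a.2 x
  haveI : IsScalarTower R (R ⧸ m ^ N) M := Module.IsTorsionBySet.isScalarTower _
  haveI : IsArtinianRing (R ⧸ m ^ N) := by
    refine isArtinianRing_iff_isNoetherianRing_krullDimLE_zero.2
      ⟨inferInstance, Ring.krullDimLE_zero_iff.2 fun P hP => ?_⟩
    have h1 : m ≤ P.comap (Ideal.Quotient.mk (m ^ N)) := by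
      intro y hy
      haveI : (P.comap (Ideal.Quotient.mk (m ^ N))).IsPrime := Ideal.IsPrime.comap _
      refine this.mem_of_pow_mem N (Ideal.mem_comap.2 ?_)
      rw [(Ideal.Quotient.eq_zero_iff_mem.2 (Ideal.pow_mem_pow hy N))]
      exact zero_mem _
    have h2 := hm.eq_of_le (Ideal.IsPrime.comap _).ne_top h1
    haveI : (P.comap (Ideal.Quotient.mk (m ^ N))).IsMaximal := h2 ▸ hm
    exact Ideal.isMaximal_of_isIntegral_of_isMaximal_comap' _ (RingHom.IsIntegral.of_finite
      (RingHom.Finite.of_surjective _ Ideal.Quotient.mk_surjective)) P this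
  have hsurj : Function.Surjective (algebraMap R (R ⧸ m ^ N)) := Ideal.Quotient.mk_surjective
  constructor
  · intro hf
    haveI : Module.Finite (R ⧸ m ^ N) M := Module.Finite.of_restrictScalars_finite R _ M
    exact isArtinian_of_surjective_algebraMap hsurj
  · intro ha
    haveI : IsArtinian (R ⧸ m ^ N) M := isArtinian_of_tower R ha
    haveI : IsNoetherian (R ⧸ m ^ N) M := IsSemiprimaryRing.isNoetherian_iff_isArtinian.2 ‹_›
    exact Module.Finite.trans (R ⧸ m ^ N) M

/-- For an Artinian module `A` over a local ring, multiplication by a sufficiently generic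
`x ∈ 𝔪` is surjective up to a power of `𝔪`. -/
theorem exists_finset_pow_smul_le [IsLocalRing R] [IsNoetherianRing R] [IsArtinian R M] :
    ∃ S : Finset (Ideal R), (∀ P ∈ S, P.IsPrime ∧ P ≠ IsLocalRing.maximalIdeal R) ∧
      ∀ x : R, (∀ P ∈ S, x ∉ P) →
        ∃ N : ℕ, (IsLocalRing.maximalIdeal R ^ N) • (⊤ : Submodule R M) ≤ x • (⊤ : Submodule R M) := by
  classical
  suffices ∀ B : Submodule R M, ∃ S : Finset (Ideal R),
      (∀ P ∈ S, P.IsPrime ∧ P ≠ IsLocalRing.maximalIdeal R) ∧ ∀ x : R, (∀ P ∈ S, x ∉ P) →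
        ∃ N : ℕ, (IsLocalRing.maximalIdeal R ^ N) • B ≤ x • B by
    exact this ⊤
  intro B
  induction B using WellFoundedLT.induction with
  | ind B ih =>
  set 𝔪 := IsLocalRing.maximalIdeal R
  by_cases hB0 : B = ⊥
  · exact ⟨∅, by simp, fun x _ => ⟨0, by simp [hB0]⟩⟩
  by_cases hred : ∃ C D, C < B ∧ D < B ∧ B = C ⊔ D
  · obtain ⟨C, D, hC, hD, rfl⟩ := hred
    obtain ⟨S, hS, hS'⟩ := ih C hC
    obtain ⟨T, hT, hT'⟩ := ih D hD
    refine ⟨S ∪ T, fun P hP => (Finset.mem_union.1 hP).elim (hS P) (hT P), fun x hx => ?_⟩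
    obtain ⟨N, hN⟩ := hS' x fun P hP => hx P (Finset.mem_union_left _ hP)
    obtain ⟨N', hN'⟩ := hT' x fun P hP => hx P (Finset.mem_union_right _ hP)
    refine ⟨max N N', ?_⟩
    rw [Submodule.smul_sup]
    exact sup_le
      (((Submodule.smul_mono_left (Ideal.pow_le_pow_right (le_max_left N N'))).trans hN).trans
        (smul_mono_right x (le_sup_left : C ≤ C ⊔ D)))
      (((Submodule.smul_mono_left (Ideal.pow_le_pow_right (le_max_right N N'))).trans hN').trans
        (smul_mono_right x (le_sup_right : D ≤ C ⊔ D)))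
  push Not at hred
  -- each element is surjective or nilpotent on `B`
  have dich : ∀ y : R, y • B = B ∨ ∃ n : ℕ, y ^ n ∈ B.annihilator := by
    intro y
    obtain ⟨n, hn⟩ := IsArtinian.monotone_stabilizes
      ⟨fun n => OrderDual.toDual ((y ^ n) • B), fun a b hab => by
        obtain ⟨c, rfl⟩ := Nat.le.dest hab
        intro z hz
        obtain ⟨w, hw, rfl⟩ := (Submodule.mem_smul_pointwise_iff_exists _ _ _).1 hz
        exact (Submodule.mem_smul_pointwise_iff_exists _ _ _).2
          ⟨y ^ c • w, B.smul_mem _ hw, by rw [smul_smul, ← pow_add]⟩⟩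
    have hn2 : (y ^ n) • B = (y ^ (n + n)) • B := OrderDual.toDual.injective (hn (n + n) (by omega))
    let K : Submodule R M := B ⊓ LinearMap.ker ((y ^ n) • LinearMap.id : M →ₗ[R] M)
    have hyB : (y ^ n) • B ≤ B := Submodule.smul_le_self_of_tower _ _
    have hsup : B = (y ^ n) • B ⊔ K := by
      refine le_antisymm (fun b hb => ?_) (sup_le hyB inf_le_left)
      have : y ^ n • b ∈ (y ^ (n + n)) • B := hn2 ▸ Submodule.smul_mem_pointwise_smul _ _ _ hb
      obtain ⟨c, hc, hc'⟩ := (Submodule.mem_smul_pointwise_iff_exists _ _ _).1 this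
      refine Submodule.mem_sup.2 ⟨y ^ n • c, Submodule.smul_mem_pointwise_smul _ _ _ hc,
        b - y ^ n • c, ⟨sub_mem hb (B.smul_mem _ hc), ?_⟩, by abel⟩
      simp [smul_sub, smul_smul, ← pow_add, ← hc']
    rcases (hyB.lt_or_eq) with hlt | heq
    · rcases (inf_le_left : K ≤ B).lt_or_eq with hK | hK
      · exact absurd hsup (hred _ _ hlt hK)
      · exact Or.inr ⟨n, Submodule.mem_annihilator.2 fun b hb =>
          LinearMap.mem_ker.1 (inf_eq_left.1 hK hb)⟩
    · rcases Nat.eq_zero_or_pos n with rfl | hpos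
      · left
        have h1 : B = y • B := by
          have := OrderDual.toDual.injective (hn 1 (Nat.zero_le 1))
          rwa [pow_zero, pow_one, one_smul] at this
        exact h1.symm
      · left
        refine le_antisymm (Submodule.smul_le_self_of_tower _ _) (heq.ge.trans fun z hz => ?_)
        obtain ⟨w, hw, rfl⟩ := (Submodule.mem_smul_pointwise_iff_exists _ _ _).1 hz
        exact (Submodule.mem_smul_pointwise_iff_exists _ _ _).2
          ⟨y ^ (n - 1) • w, B.smul_mem _ hw, by rw [smul_smul, ← pow_succ', Nat.sub_add_cancel hpos]⟩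
  by_cases hnil : 𝔪 ≤ B.annihilator.radical
  · obtain ⟨N, hN⟩ := Ideal.exists_pow_le_of_le_radical_of_fg hnil (IsNoetherian.noetherian _)
    refine ⟨∅, by simp, fun x _ => ⟨N, ?_⟩⟩
    refine Submodule.smul_le.2 fun r hr b hb => ?_
    rw [Submodule.mem_annihilator.1 (hN hr) b hb]
    exact zero_mem _
  have hP : B.annihilator.radical.IsPrime := by
    refine ⟨fun htop => hB0 ?_, fun {a b} hab => ?_⟩
    · rw [Ideal.radical_eq_top] at htop
      exact Submodule.annihilator_eq_top_iff.1 htop
    · by_contra hc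
      push Not at hc
      have ha : a • B = B := (dich a).resolve_right fun ⟨k, hk⟩ => hc.1 ⟨k, hk⟩
      have hb : b • B = B := (dich b).resolve_right fun ⟨k, hk⟩ => hc.2 ⟨k, hk⟩
      have hab' : ∀ k : ℕ, (a * b) ^ k • B = B := by
        intro k
        induction k with
        | zero => rw [pow_zero, one_smul]
        | succ k ihk => rw [pow_succ', mul_smul, ihk, mul_smul, hb, ha]
      obtain ⟨k, hk⟩ := hab
      refine hB0 (le_bot_iff.1 ((hab' k).ge.trans fun z hz => ?_))
      obtain ⟨w, hw, rfl⟩ := (Submodule.mem_smul_pointwise_iff_exists _ _ _).1 hz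
      rw [Submodule.mem_annihilator.1 hk w hw]
      exact zero_mem _
  refine ⟨{B.annihilator.radical}, fun P hP' => ?_, fun x hx => ⟨0, ?_⟩⟩
  · rw [Finset.mem_singleton] at hP'
    subst hP'
    exact ⟨hP, fun h => hnil h.ge⟩
  · have hx' := (dich x).resolve_right fun ⟨k, hk⟩ => hx _ (Finset.mem_singleton_self _) ⟨k, hk⟩
    rw [hx', pow_zero, Ideal.one_eq_top, Submodule.top_smul]

/-- A nonzero ideal not contained in finitely many primes has an element outside all of them. -/
theorem exists_mem_forall_notMem {I : Ideal R} {S : Set (Ideal R)} (hS : S.Finite)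
    (hprime : ∀ P ∈ S, P.IsPrime) (h : ∀ P ∈ S, ¬ I ≤ P) : ∃ x ∈ I, ∀ P ∈ S, x ∉ P := by
  by_contra hc
  push Not at hc
  have : (I : Set R) ⊆ ⋃ P ∈ (hS.toFinset : Set (Ideal R)), (P : Set R) := fun x hx => by
    obtain ⟨P, hP, hxP⟩ := hc x hx
    exact Set.mem_biUnion (hS.mem_toFinset.2 hP) hxP
  obtain ⟨P, hP, hle⟩ := (Ideal.subset_union_prime (f := fun P : Ideal R => P) ⊥ ⊥
    fun P hP _ _ => hprime P (hS.mem_toFinset.1 hP)).1 this
  exact h P (hS.mem_toFinset.1 hP) hle

end GrothLib.LC
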