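import Groth.Agent.Lib.LC.DTExt
import Mathlib.CategoryTheory.Limits.Types.Filtered

/-! `Γ_I`, `D_I` and `H^i_I` commute with filtered colimits over Noetherian rings. -/

universe u

open CategoryTheory Limits Opposite Abelian

namespace GrothLib.LC

set_option linter.unusedSectionVars false

variable {R : Type u} [CommRing R] {J : Type u} [SmallCategory J] [IsFiltered J]

/-- Preservation of filtered colimits from element-wise conditions. -/
theorem preservesColimitsOfShape_of_elements (G : ModuleCat.{u} R ⥤ ModuleCat.{u} R)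
    (hsurj : ∀ (F : J ⥤ ModuleCat.{u} R) (c : Cocone F), IsColimit c →
      ∀ x : G.obj c.pt, ∃ j y, G.map (c.ι.app j) y = x)
    (hinj : ∀ (F : J ⥤ ModuleCat.{u} R) (c : Cocone F), IsColimit c →
      ∀ j (y : G.obj (F.obj j)), G.map (c.ι.app j) y = 0 → ∃ k, ∃ f : j ⟶ k, G.map (F.map f) y = 0) :
    PreservesColimitsOfShape J G := by
  refine ⟨fun {F} => ⟨fun {c} hc => ⟨?_⟩⟩⟩
  apply isColimitOfReflects (forget (ModuleCat.{u} R))
  refine Types.FilteredColimit.isColimitOf' _ _ (fun x => ?_) (fun j y y' h => ?_)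
  · obtain ⟨j, y, hy⟩ := hsurj F c hc x
    exact ⟨j, y, hy.symm⟩
  · obtain ⟨k, f, hf⟩ := hinj F c hc j (y - y') (by rw [map_sub]; exact sub_eq_zero.2 h)
    refine ⟨k, f, sub_eq_zero.1 ?_⟩
    exact (map_sub (G.map (F.map f)).hom y y').symm.trans hf

variable {F : J ⥤ ModuleCat.{u} R} {c : Cocone F}

theorem exists_rep (hc : IsColimit c) (x : c.pt) : ∃ j y, c.ι.app j y = x :=
  Concrete.isColimit_exists_rep _ hc x

theorem exists_map_eq_zero (hc : IsColimit c) {j : J} (y : F.obj j) (h : c.ι.app j y = 0) :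
    ∃ k, ∃ f : j ⟶ k, F.map f y = 0 := by
  rw [← map_zero (c.ι.app j).hom] at h
  obtain ⟨k, f, g, hk⟩ := (Concrete.isColimit_rep_eq_iff_exists _ hc _ _).1 h
  exact ⟨k, f, hk.trans (map_zero _)⟩

theorem ι_map {j k : J} (f : j ⟶ k) (y : F.obj j) : c.ι.app k (F.map f y) = c.ι.app j y :=
  ConcreteCategory.congr_hom (c.w f) y

theorem map_map {j k l : J} (f : j ⟶ k) (g : k ⟶ l) (y : F.obj j) :
    F.map g (F.map f y) = F.map (f ≫ g) y := by
  rw [CategoryTheory.Functor.map_comp, ConcreteCategory.comp_apply]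

theorem exists_common_rep (hc : IsColimit c) {ι : Type*} (s : Finset ι) (x : ι → c.pt) :
    ∃ (j : J) (y : ι → F.obj j), ∀ i ∈ s, c.ι.app j (y i) = x i := by
  classical
  induction s using Finset.induction_on with
  | empty =>
    obtain ⟨j⟩ := IsFiltered.nonempty (C := J)
    exact ⟨j, 0, by simp⟩
  | insert a s _ ih =>
    obtain ⟨j, y, hy⟩ := ih
    obtain ⟨k, z, hz⟩ := exists_rep hc (x a)
    refine ⟨IsFiltered.max j k, Function.update (fun i => F.map (IsFiltered.leftToMax j k) (y i)) a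
      (F.map (IsFiltered.rightToMax j k) z), fun i hi => ?_⟩
    rcases eq_or_ne i a with rfl | hne
    · rw [Function.update_self, ι_map, hz]
    · rw [Function.update_of_ne hne, ι_map, hy i ((Finset.mem_insert.1 hi).resolve_left hne)]

theorem exists_common_zero (hc : IsColimit c) {j : J} {ι : Type*} (s : Finset ι) (y : ι → F.obj j)
    (h : ∀ i ∈ s, c.ι.app j (y i) = 0) : ∃ k, ∃ f : j ⟶ k, ∀ i ∈ s, F.map f (y i) = 0 := by
  classical
  induction s using Finset.induction_on with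
  | empty => exact ⟨j, 𝟙 j, by simp⟩
  | insert a s _ ih =>
    obtain ⟨k, f, hf⟩ := ih fun i hi => h i (Finset.mem_insert_of_mem hi)
    obtain ⟨l, g, hg⟩ := exists_map_eq_zero hc (F.map f (y a))
      (by rw [ι_map]; exact h a (Finset.mem_insert_self a s))
    refine ⟨l, f ≫ g, fun i hi => ?_⟩
    rw [← map_map]
    rcases Finset.mem_insert.1 hi with rfl | hi
    · exact hg
    · rw [hf i hi, map_zero]

theorem hom_zero (hc : IsColimit c) {N : ModuleCat.{u} R} [Module.Finite R N] {j : J}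
    (f : N ⟶ F.obj j) (h : f ≫ c.ι.app j = 0) : ∃ k, ∃ g : j ⟶ k, f ≫ F.map g = 0 := by
  obtain ⟨r, s, hs⟩ := Module.Finite.exists_fin (R := R) (M := N)
  obtain ⟨k, g, hg⟩ := exists_common_zero hc Finset.univ (fun i => f (s i))
    (fun i _ => ConcreteCategory.congr_hom h (s i))
  refine ⟨k, g, ModuleCat.hom_ext (LinearMap.ext_on_range hs fun i => hg i (Finset.mem_univ i))⟩

variable [IsNoetherianRing R]

theorem hom_lift (hc : IsColimit c) {N : ModuleCat.{u} R} [Module.Finite R N] (f : N ⟶ c.pt) :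
    ∃ j, ∃ g : N ⟶ F.obj j, g ≫ c.ι.app j = f := by
  classical
  obtain ⟨r, π, hπ⟩ := Module.Finite.exists_fin' R N
  obtain ⟨j, y, hy⟩ := exists_common_rep hc Finset.univ fun i => f (π (Pi.single i 1))
  let g₀ : (Fin r → R) →ₗ[R] F.obj j := (Pi.basisFun R (Fin r)).constr R y
  have hg₀ : (c.ι.app j).hom ∘ₗ g₀ = f.hom ∘ₗ π :=
    (Pi.basisFun R (Fin r)).ext fun i => by
      rw [LinearMap.comp_apply, Module.Basis.constr_basis, Pi.basisFun_apply]
      exact hy i (Finset.mem_univ i)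
  obtain ⟨s, hs⟩ := IsNoetherian.noetherian (LinearMap.ker π)
  obtain ⟨k, h, hk⟩ := exists_common_zero hc s (fun z => g₀ z) fun z hz => by
    have : z ∈ LinearMap.ker π := hs ▸ Submodule.subset_span hz
    exact (LinearMap.congr_fun hg₀ z).trans (by rw [LinearMap.comp_apply, LinearMap.mem_ker.1 this, map_zero])
  have hker : LinearMap.ker π ≤ LinearMap.ker ((F.map h).hom ∘ₗ g₀) := by
    rw [← hs, Submodule.span_le]
    exact fun z hz => LinearMap.mem_ker.2 (hk z hz)
  refine ⟨k, ModuleCat.ofHom ((LinearMap.ker π).liftQ _ hker ∘ₗ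
    (π.quotKerEquivOfSurjective hπ).symm.toLinearMap), ModuleCat.hom_ext (LinearMap.ext fun x => ?_)⟩
  obtain ⟨z, rfl⟩ := hπ x
  have : (π.quotKerEquivOfSurjective hπ).symm (π z) = Submodule.Quotient.mk z := by
    rw [LinearEquiv.symm_apply_eq]; rfl
  show c.ι.app k ((LinearMap.ker π).liftQ _ hker ((π.quotKerEquivOfSurjective hπ).symm (π z))) = _
  rw [this]
  exact (ι_map h (g₀ z)).trans (LinearMap.congr_fun hg₀ z)

theorem exists_presentation (N : ModuleCat.{u} R) [Module.Finite R N] :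
    ∃ S : ShortComplex (ModuleCat.{u} R), ∃ (_ : S.ShortExact), S.X₃ = N ∧ Projective S.X₂ ∧
      Module.Finite R S.X₂ ∧ Module.Finite R S.X₁ := by
  obtain ⟨r, π, hπ⟩ := Module.Finite.exists_fin' R N
  let S : ShortComplex (ModuleCat.{u} R) := ShortComplex.mk
    (X₁ := ModuleCat.of R (LinearMap.ker π)) (X₂ := ModuleCat.of R (Fin r → R)) (X₃ := N)
    (ModuleCat.ofHom (LinearMap.ker π).subtype) (ModuleCat.ofHom π)
    (ModuleCat.hom_ext (LinearMap.ext fun x => x.2))
  exact ⟨S,
    { exact := (ShortComplex.moduleCat_exact_iff _).2 fun x hx => ⟨⟨x, hx⟩, rfl⟩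
      mono_f := (ModuleCat.mono_iff_injective _).2 (LinearMap.ker π).injective_subtype
      epi_g := (ModuleCat.epi_iff_surjective _).2 hπ }, rfl,
    (IsProjective.iff_projective (Fin r → R)).1 inferInstance,
    inferInstanceAs (Module.Finite R (Fin r → R)),
    inferInstanceAs (Module.Finite R (LinearMap.ker π))⟩

theorem ext_colimit (hc : IsColimit c) (i : ℕ) : ∀ (N : ModuleCat.{u} R), Module.Finite R N →
    (∀ e : Ext N c.pt i, ∃ j, ∃ e' : Ext N (F.obj j) i, e'.comp (Ext.mk₀ (c.ι.app j)) (add_zero i) = e) ∧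
    (∀ j (e : Ext N (F.obj j) i), e.comp (Ext.mk₀ (c.ι.app j)) (add_zero i) = 0 →
      ∃ k, ∃ f : j ⟶ k, e.comp (Ext.mk₀ (F.map f)) (add_zero i) = 0) := by
  induction i with
  | zero =>
    intro N hN
    constructor
    · intro e
      obtain ⟨j, g, hg⟩ := hom_lift hc (Ext.addEquiv₀ e)
      exact ⟨j, Ext.mk₀ g, by rw [Ext.mk₀_comp_mk₀, hg, Ext.mk₀_addEquiv₀_apply]⟩
    · intro j e he
      rw [← Ext.mk₀_addEquiv₀_apply e, Ext.mk₀_comp_mk₀] at he
      obtain ⟨k, f, hf⟩ := hom_zero hc (Ext.addEquiv₀ e)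
        (Ext.addEquiv₀.symm.injective (he.trans (map_zero Ext.addEquiv₀.symm).symm))
      exact ⟨k, f, by rw [← Ext.mk₀_addEquiv₀_apply e, Ext.mk₀_comp_mk₀, hf, Ext.mk₀_zero]⟩
  | succ i ih =>
    intro N hN
    obtain ⟨S, hS, rfl, hP, hF, hK⟩ := exists_presentation N
    have h0 : ∀ {Y : ModuleCat.{u} R} (x : Ext S.X₃ Y (i + 1)),
        ∃ y : Ext S.X₁ Y i, hS.extClass.comp y (Nat.add_comm 1 i) = x := fun x =>
      Ext.contravariant_sequence_exact₃ hS _ x (Ext.eq_zero_of_projective _) _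
    have hcomp : ∀ {Y Y' : ModuleCat.{u} R} (y : Ext S.X₁ Y i) (g : Y ⟶ Y'),
        (hS.extClass.comp y (Nat.add_comm 1 i)).comp (Ext.mk₀ g) (add_zero (i + 1)) =
          hS.extClass.comp (y.comp (Ext.mk₀ g) (add_zero i)) (Nat.add_comm 1 i) := fun y g =>
      Ext.comp_assoc_of_third_deg_zero _ _ _ _
    constructor
    · intro e
      obtain ⟨y, rfl⟩ := h0 e
      obtain ⟨j, y', rfl⟩ := (ih S.X₁ hK).1 y
      exact ⟨j, _, hcomp y' _⟩
    · intro j e he
      obtain ⟨y, rfl⟩ := h0 e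
      rw [hcomp] at he
      obtain ⟨g, hg⟩ := Ext.contravariant_sequence_exact₁ hS _ _ _ he
      obtain ⟨l, g', rfl⟩ := (ih S.X₂ hF).1 g
      let m := IsFiltered.max j l
      let a := IsFiltered.leftToMax j l
      let b := IsFiltered.rightToMax j l
      let d : Ext S.X₁ (F.obj m) i := y.comp (Ext.mk₀ (F.map a)) (add_zero i) +
        -((Ext.mk₀ S.f).comp g' (zero_add i)).comp (Ext.mk₀ (F.map b)) (add_zero i)
      obtain ⟨k, f, hf⟩ := (ih S.X₁ hK).2 m d (by
        rw [Ext.add_comp, Ext.neg_comp, add_neg_eq_zero, Ext.comp_assoc_of_third_deg_zero, Ext.comp_assoc_of_third_deg_zero,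
          Ext.mk₀_comp_mk₀, Ext.mk₀_comp_mk₀, c.w, c.w, Ext.comp_assoc_of_third_deg_zero, hg])
      refine ⟨k, a ≫ f, ?_⟩
      rw [Ext.add_comp, Ext.neg_comp, add_neg_eq_zero, Ext.comp_assoc_of_third_deg_zero, Ext.mk₀_comp_mk₀,
        ← CategoryTheory.Functor.map_comp] at hf
      rw [hcomp, hf, Ext.comp_assoc_of_third_deg_zero, Ext.comp_assoc_of_third_deg_zero,
        ShortComplex.ShortExact.extClass_comp_assoc]

variable (I : Ideal R)

theorem finite_quotPow (n : ℕ) : Module.Finite R (quotPow I n) :=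
  inferInstanceAs (Module.Finite R (R ⧸ I ^ n))

/-- `H^i_I` commutes with filtered colimits. -/
theorem preservesColimitsOfShape_localCohomology (i : ℕ) :
    PreservesColimitsOfShape J (localCohomology I i) := by
  refine preservesColimitsOfShape_of_elements _ (fun F c hc x => ?_) (fun F c hc j x hx => ?_)
  · obtain ⟨n, e, rfl⟩ := exists_toH I x
    obtain ⟨j, e', rfl⟩ := (ext_colimit hc i _ (finite_quotPow I n)).1 e
    exact ⟨j, toH I i n _ e', map_toH I _ _⟩
  · obtain ⟨n, e, rfl⟩ := exists_toH I x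
    rw [map_toH, toH_eq_zero_iff] at hx
    obtain ⟨m, hm, h⟩ := hx
    rw [← Ext.comp_assoc_of_third_deg_zero] at h
    obtain ⟨k, f, hf⟩ := (ext_colimit hc i _ (finite_quotPow I m)).2 j _ h
    refine ⟨k, f, ?_⟩
    rw [map_toH, toH_eq_zero_iff]
    exact ⟨m, hm, by rw [← Ext.comp_assoc_of_third_deg_zero, hf]⟩

/-- `D_I` commutes with filtered colimits. -/
theorem preservesColimitsOfShape_idealTransform :
    PreservesColimitsOfShape J (LocCoh.idealTransform I) := by
  have hfin : ∀ n, Module.Finite R (powI I n) := fun n =>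
    Module.Finite.iff_fg.2 (IsNoetherian.noetherian (I ^ n))
  refine preservesColimitsOfShape_of_elements _ (fun F c hc x => ?_) (fun F c hc j x hx => ?_)
  · obtain ⟨n, g, rfl⟩ := exists_toD I x
    have := hfin n
    obtain ⟨j, g', rfl⟩ := hom_lift hc g
    exact ⟨j, toD I n _ g', map_toD I _ _⟩
  · obtain ⟨n, g, rfl⟩ := exists_toD I x
    rw [map_toD, ← map_zero (toD I n _), toD_eq_toD_iff] at hx
    obtain ⟨m, hm, hm', h⟩ := hx
    rw [comp_zero, ← Category.assoc] at h
    have := hfin m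
    obtain ⟨k, f, hf⟩ := hom_zero hc _ h
    refine ⟨k, f, ?_⟩
    rw [map_toD, ← toD_restrict I hm, ← Category.assoc, hf, map_zero]

/-- `Γ_I` commutes with filtered colimits. -/
theorem preservesColimitsOfShape_gammaI :
    PreservesColimitsOfShape J (DRing.gammaI I) := by
  refine preservesColimitsOfShape_of_elements _ (fun F c hc x => ?_) (fun F c hc j x hx => ?_)
  · obtain ⟨m, n, hn⟩ := x
    obtain ⟨j, y, hy⟩ := exists_rep hc m
    obtain ⟨s, hs⟩ := IsNoetherian.noetherian (I ^ n)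
    obtain ⟨k, f, hf⟩ := exists_common_zero hc s (fun a => a • y) fun a ha => by
      rw [map_smul, hy]
      exact hn a (hs ▸ Submodule.subset_span ha)
    refine ⟨k, ⟨F.map f y, n, fun a ha => ?_⟩, Subtype.ext ((ι_map f y).trans hy)⟩
    rw [← hs] at ha
    induction ha using Submodule.span_induction with
    | mem a ha => rw [← map_smul]; exact hf a ha
    | zero => exact zero_smul R _
    | add a b _ _ ha hb => rw [add_smul, ha, hb, add_zero]
    | smul r a _ ha => rw [smul_eq_mul, mul_smul, ha, smul_zero]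
  · obtain ⟨k, f, hf⟩ := exists_map_eq_zero hc x.1 (congrArg Subtype.val hx)
    exact ⟨k, f, Subtype.ext hf⟩

end GrothLib.LC
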