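import Groth.Agent.Lib.LC.Basic
import Mathlib.Algebra.Homology.DerivedCategory.Ext.ExactSequences
import Mathlib.Algebra.Homology.DerivedCategory.Ext.EnoughInjectives

/-! The long exact sequence of local cohomology. -/

universe u

open CategoryTheory Limits Opposite Abelian

namespace GrothLib.LC

variable {R : Type u} [CommRing R] (I : Ideal R)
variable {S : ShortComplex (ModuleCat.{u} R)} (hS : S.ShortExact)

theorem comp_extClass_restrict {i n k : ℕ} (h : n ≤ k) (e : Ext (quotPow I n) S.X₃ i) :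
    ((Ext.mk₀ (quotMap I h)).comp e (zero_add i)).comp hS.extClass (rfl : i + 1 = i + 1) =
      (Ext.mk₀ (quotMap I h)).comp (e.comp hS.extClass (rfl : i + 1 = i + 1)) (zero_add _) :=
  Ext.comp_assoc _ _ _ (zero_add i) rfl (by simp)

/-- The underlying function of the connecting map. -/
noncomputable def δFun (i : ℕ) (x : (localCohomology I i).obj S.X₃) :
    (localCohomology I (i + 1)).obj S.X₁ :=
  toH I (i + 1) (exists_toH I x).choose _
    ((exists_toH I x).choose_spec.choose.comp hS.extClass rfl)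

theorem δFun_toH (i n : ℕ) (e : Ext (quotPow I n) S.X₃ i) :
    δFun I hS i (toH I i n _ e) = toH I (i + 1) n _ (e.comp hS.extClass rfl) := by
  obtain ⟨k, h₁, h₂, hk⟩ := (toH_eq_toH_iff I _ _).1
    (exists_toH I (toH I i n _ e)).choose_spec.choose_spec
  refine (toH_eq_toH_iff I _ _).2 ⟨k, h₁, h₂, ?_⟩
  rw [← comp_extClass_restrict, ← comp_extClass_restrict, hk]

/-- The connecting map of local cohomology. -/
noncomputable def δ (i : ℕ) :
    (localCohomology I i).obj S.X₃ →ₗ[R] (localCohomology I (i + 1)).obj S.X₁ where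
  toFun := δFun I hS i
  map_add' x y := by
    obtain ⟨n, e, rfl⟩ := exists_toH I x
    obtain ⟨m, hm, e', rfl⟩ := exists_toH_ge I y n
    rw [← toH_restrict I hm e, ← map_add, δFun_toH, δFun_toH, δFun_toH, ← map_add, Ext.add_comp]
  map_smul' r x := by
    obtain ⟨n, e, rfl⟩ := exists_toH I x
    rw [← map_smul, δFun_toH, δFun_toH, RingHom.id_apply, ← map_smul, Ext.smul_comp]

@[simp] theorem δ_toH (i n : ℕ) (e : Ext (quotPow I n) S.X₃ i) :
    δ I hS i (toH I i n _ e) = toH I (i + 1) n _ (e.comp hS.extClass rfl) :=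
  δFun_toH I hS i n e

theorem map_g_map_f (i : ℕ) (x : (localCohomology I i).obj S.X₁) :
    (localCohomology I i).map S.g ((localCohomology I i).map S.f x) = 0 := by
  obtain ⟨n, e, rfl⟩ := exists_toH I x
  rw [map_toH, map_toH, Ext.comp_assoc_of_third_deg_zero, Ext.mk₀_comp_mk₀, S.zero,
    Ext.mk₀_zero, Ext.comp_zero, map_zero]

theorem δ_map_g (i : ℕ) (x : (localCohomology I i).obj S.X₂) :
    δ I hS i ((localCohomology I i).map S.g x) = 0 := by
  obtain ⟨n, e, rfl⟩ := exists_toH I x
  rw [map_toH, δ_toH, Ext.comp_assoc_of_second_deg_zero, ShortComplex.ShortExact.comp_extClass,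
    Ext.comp_zero, map_zero]

theorem map_f_δ (i : ℕ) (x : (localCohomology I i).obj S.X₃) :
    (localCohomology I (i + 1)).map S.f (δ I hS i x) = 0 := by
  obtain ⟨n, e, rfl⟩ := exists_toH I x
  rw [δ_toH, map_toH, Ext.comp_assoc_of_third_deg_zero, ShortComplex.ShortExact.extClass_comp,
    Ext.comp_zero, map_zero]

include hS in
theorem exists_of_map_g_eq_zero (i : ℕ) {x : (localCohomology I i).obj S.X₂}
    (hx : (localCohomology I i).map S.g x = 0) :
    ∃ y, (localCohomology I i).map S.f y = x := by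
  obtain ⟨n, e, rfl⟩ := exists_toH I x
  rw [map_toH, toH_eq_zero_iff] at hx
  obtain ⟨k, hk, h⟩ := hx
  rw [← Ext.comp_assoc_of_third_deg_zero] at h
  obtain ⟨y, hy⟩ := Ext.covariant_sequence_exact₂ _ hS _ h
  exact ⟨toH I i k _ y, by rw [map_toH, hy, toH_restrict]⟩

theorem exists_of_δ_eq_zero (i : ℕ) {x : (localCohomology I i).obj S.X₃}
    (hx : δ I hS i x = 0) :
    ∃ y, (localCohomology I i).map S.g y = x := by
  obtain ⟨n, e, rfl⟩ := exists_toH I x
  rw [δ_toH, toH_eq_zero_iff] at hx
  obtain ⟨k, hk, h⟩ := hx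
  rw [← comp_extClass_restrict] at h
  obtain ⟨y, hy⟩ := Ext.covariant_sequence_exact₃ _ hS _ rfl h
  exact ⟨toH I i k _ y, by rw [map_toH, hy, toH_restrict]⟩

theorem exists_of_map_f_eq_zero (i : ℕ) {x : (localCohomology I (i + 1)).obj S.X₁}
    (hx : (localCohomology I (i + 1)).map S.f x = 0) :
    ∃ y, δ I hS i y = x := by
  obtain ⟨n, e, rfl⟩ := exists_toH I x
  rw [map_toH, toH_eq_zero_iff] at hx
  obtain ⟨k, hk, h⟩ := hx
  rw [← Ext.comp_assoc_of_third_deg_zero] at h
  obtain ⟨y, hy⟩ := Ext.covariant_sequence_exact₁ _ hS _ h rfl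
  exact ⟨toH I i k _ y, by rw [δ_toH, hy, toH_restrict]⟩

include hS in
theorem subsingleton₂ (i : ℕ) (h₁ : Subsingleton ((localCohomology I i).obj S.X₁))
    (h₃ : Subsingleton ((localCohomology I i).obj S.X₃)) :
    Subsingleton ((localCohomology I i).obj S.X₂) := by
  refine subsingleton_of_forall_eq 0 fun x => ?_
  obtain ⟨y, rfl⟩ := exists_of_map_g_eq_zero I hS i (x := x) (Subsingleton.elim _ _)
  rw [Subsingleton.elim y 0, map_zero]

include hS in
theorem subsingleton₁ (i : ℕ) (h₂ : Subsingleton ((localCohomology I (i + 1)).obj S.X₂))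
    (h₃ : Subsingleton ((localCohomology I i).obj S.X₃)) :
    Subsingleton ((localCohomology I (i + 1)).obj S.X₁) := by
  refine subsingleton_of_forall_eq 0 fun x => ?_
  obtain ⟨y, rfl⟩ := exists_of_map_f_eq_zero I hS i (x := x) (Subsingleton.elim _ _)
  rw [Subsingleton.elim y 0, map_zero]

include hS in
theorem subsingleton₃ (i : ℕ) (h₂ : Subsingleton ((localCohomology I i).obj S.X₂))
    (h₁ : Subsingleton ((localCohomology I (i + 1)).obj S.X₁)) :
    Subsingleton ((localCohomology I i).obj S.X₃) := by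
  refine subsingleton_of_forall_eq 0 fun x => ?_
  obtain ⟨y, rfl⟩ := exists_of_δ_eq_zero I hS i (x := x) (Subsingleton.elim _ _)
  rw [Subsingleton.elim y 0, map_zero]

/-- Local cohomology of an injective module vanishes in positive degrees. -/
theorem subsingleton_of_injective (M : ModuleCat.{u} R) [Injective M] (i : ℕ) :
    Subsingleton ((localCohomology I (i + 1)).obj M) := by
  refine subsingleton_of_forall_eq 0 fun x => ?_
  obtain ⟨n, e, rfl⟩ := exists_toH I x
  rw [Ext.eq_zero_of_injective e, map_zero]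

end GrothLib.LC
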