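import Groth.Agent.Lib.LC.DTProp
import Groth.Agent.Lib.LC.Seq

/-! `coker(M → D_I(M)) = H^1_I(M)` and `colim Ext^i(I^n, -) = H^{i+1}_I`. -/

universe u

open CategoryTheory Limits Opposite Abelian

namespace GrothLib.LC

variable {R : Type u} [CommRing R] (I : Ideal R) {M M' : ModuleCat.{u} R}

/-- `0 → I^n → R → R/I^n → 0`. -/
noncomputable abbrev powSeq (n : ℕ) : ShortComplex (ModuleCat.{u} R) :=
  ShortComplex.mk (X₁ := powI I n) (X₂ := ModuleCat.of R R) (X₃ := quotPow I n)
    (ModuleCat.ofHom (I ^ n).subtype) (ModuleCat.ofHom (I ^ n).mkQ)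
    (ModuleCat.hom_ext (LinearMap.ext fun x => (Submodule.Quotient.mk_eq_zero _).2 x.2))

theorem powSeq_shortExact (n : ℕ) : (powSeq I n).ShortExact :=
  subQuot_shortExact (M := ModuleCat.of R R) (I ^ n)

/-- The map of short exact sequences for `n ≤ m`. -/
noncomputable def powSeqMap {n m : ℕ} (h : n ≤ m) : powSeq I m ⟶ powSeq I n :=
  ShortComplex.homMk (inclI I h) (𝟙 _) (quotMap I h)
    (ModuleCat.hom_ext (LinearMap.ext fun _ => rfl)) (ModuleCat.hom_ext (LinearMap.ext fun _ => rfl))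

/-- The connecting map `Ext^i(I^n, M) → Ext^(i+1)(R/I^n, M)`. -/
noncomputable def powδ (i n : ℕ) (M : ModuleCat.{u} R) :
    Ext (powI I n) M i →ₗ[R] Ext (quotPow I n) M (i + 1) :=
  Ext.precompOfLinear (powSeq_shortExact I n).extClass R M (Nat.add_comm 1 i)

theorem powδ_apply (i n : ℕ) (e : Ext (powI I n) M i) :
    powδ I i n M e = (powSeq_shortExact I n).extClass.comp e (Nat.add_comm 1 i) := rfl

theorem powδ_natural {i n m : ℕ} (h : n ≤ m) (e : Ext (powI I n) M i) :
    (Ext.mk₀ (quotMap I h)).comp (powδ I i n M e) (zero_add _) =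
      powδ I i m M ((Ext.mk₀ (inclI I h)).comp e (zero_add i)) := by
  rw [powδ_apply, powδ_apply]
  rw [← Ext.comp_assoc (Ext.mk₀ (quotMap I h)) (powSeq_shortExact I n).extClass e (zero_add 1) _
    (by omega)]
  have hn : (powSeq_shortExact I m).extClass.comp (Ext.mk₀ (inclI I h)) (add_zero 1) =
      (Ext.mk₀ (quotMap I h)).comp (powSeq_shortExact I n).extClass (zero_add 1) :=
    ShortComplex.ShortExact.extClass_naturality (powSeq_shortExact I m) (powSeq_shortExact I n)
      (powSeqMap I h)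
  rw [← hn]
  exact Ext.comp_assoc _ _ _ (add_zero 1) (zero_add i) (by omega)

theorem powδ_comp_mk₀ {i n : ℕ} (e : Ext (powI I n) M i) (g : M ⟶ M') :
    (powδ I i n M e).comp (Ext.mk₀ g) (add_zero _) =
      powδ I i n M' (e.comp (Ext.mk₀ g) (add_zero i)) := by
  rw [powδ_apply, powδ_apply]
  exact Ext.comp_assoc_of_third_deg_zero _ _ _ _

theorem ext_R_eq_zero {i : ℕ} (e : Ext (ModuleCat.of R R) M (i + 1)) : e = 0 :=
  have : Projective (ModuleCat.of R R) :=
    (IsProjective.iff_projective R).1 inferInstance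
  Ext.eq_zero_of_projective e

theorem powδ_surjective (i n : ℕ) : Function.Surjective (powδ I i n M) := fun e => by
  obtain ⟨x, hx⟩ := Ext.contravariant_sequence_exact₃ (powSeq_shortExact I n) M e
    (ext_R_eq_zero _) (Nat.add_comm 1 i)
  exact ⟨x, hx⟩

theorem powδ_injective (i n : ℕ) : Function.Injective (powδ I (i + 1) n M) := by
  rw [injective_iff_map_eq_zero]
  intro e he
  obtain ⟨y, rfl⟩ := Ext.contravariant_sequence_exact₁ (powSeq_shortExact I n) M e
    (Nat.add_comm 1 (i + 1)) he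
  rw [ext_R_eq_zero y, Ext.comp_zero]

theorem powδ_zero_eq_zero_iff (n : ℕ) (f : powI I n ⟶ M) :
    powδ I 0 n M (Ext.mk₀ f) = 0 ↔ ∃ m : M, ∀ a : ↥(I ^ n), f a = (a : R) • m := by
  constructor
  · intro h
    obtain ⟨y, hy⟩ := Ext.contravariant_sequence_exact₁ (powSeq_shortExact I n) M (Ext.mk₀ f)
      (Nat.add_comm 1 0) h
    rw [← Ext.mk₀_addEquiv₀_apply y, Ext.mk₀_comp_mk₀] at hy
    refine ⟨(Ext.addEquiv₀ y) (1 : R), fun a => ?_⟩
    rw [← Ext.addEquiv₀.symm.injective hy, ← map_smul, smul_eq_mul, mul_one]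
    rfl
  · rintro ⟨m, hm⟩
    have : f = (powSeq I n).f ≫ ModuleCat.ofHom (LinearMap.toSpanSingleton R M m) :=
      ModuleCat.hom_ext (LinearMap.ext hm)
    rw [this, ← Ext.mk₀_comp_mk₀, powδ_apply, ShortComplex.ShortExact.extClass_comp_assoc]

/-- Underlying function of `D_I(M) → H^1_I(M)`. -/
noncomputable def toH1Fun (x : (LocCoh.idealTransform I).obj M) : (localCohomology I 1).obj M :=
  toH I 1 (exists_toD I x).choose M (powδ I 0 _ M (Ext.mk₀ (exists_toD I x).choose_spec.choose))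

theorem toH1Fun_toD {n : ℕ} (f : powI I n ⟶ M) :
    toH1Fun I (toD I n M f) = toH I 1 n M (powδ I 0 n M (Ext.mk₀ f)) := by
  obtain ⟨k, h₁, h₂, h⟩ := (toD_eq_toD_iff I _ _).1
    (exists_toD I (toD I n M f)).choose_spec.choose_spec
  refine (toH_eq_toH_iff I _ _).2 ⟨k, h₁, h₂, ?_⟩
  rw [powδ_natural, powδ_natural, Ext.mk₀_comp_mk₀, Ext.mk₀_comp_mk₀, h]

/-- The map `D_I(M) → H^1_I(M)`. -/
noncomputable def toH1 (M : ModuleCat.{u} R) :
    (LocCoh.idealTransform I).obj M →ₗ[R] (localCohomology I 1).obj M where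
  toFun := toH1Fun I
  map_add' x y := by
    obtain ⟨n, f, rfl⟩ := exists_toD I x
    obtain ⟨m, hm, g, rfl⟩ := exists_toD_ge I y n
    rw [← toD_restrict I hm f, ← map_add, toH1Fun_toD, toH1Fun_toD, toH1Fun_toD, Ext.mk₀_add,
      map_add, map_add]
  map_smul' r x := by
    obtain ⟨n, f, rfl⟩ := exists_toD I x
    rw [← map_smul, toH1Fun_toD, toH1Fun_toD, RingHom.id_apply, Ext.mk₀_smul, map_smul, map_smul]

theorem toH1_surjective (M : ModuleCat.{u} R) : Function.Surjective (toH1 I M) := fun x => by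
  obtain ⟨n, e, rfl⟩ := exists_toH I x
  obtain ⟨y, rfl⟩ := powδ_surjective I 0 n e
  exact ⟨toD I n M (Ext.addEquiv₀ y), (toH1Fun_toD I _).trans (by rw [Ext.mk₀_addEquiv₀_apply])⟩

theorem ker_toH1 (M : ModuleCat.{u} R) :
    LinearMap.ker (toH1 I M) = LinearMap.range (LocCoh.toDT I M) := by
  ext x
  obtain ⟨n, f, rfl⟩ := exists_toD I x
  rw [LinearMap.mem_ker]
  show toH1Fun I (toD I n M f) = 0 ↔ _
  rw [toH1Fun_toD, toH_eq_zero_iff]
  constructor
  · rintro ⟨m, hm, h⟩
    rw [powδ_natural, Ext.mk₀_comp_mk₀, powδ_zero_eq_zero_iff] at h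
    obtain ⟨v, hv⟩ := h
    exact ⟨v, by rw [← toD_restrict I hm f]; exact (toD_eq_toDT I _ v hv).symm⟩
  · rintro ⟨v, hv⟩
    rw [toDT_eq_toD I n, toD_eq_toD_iff] at hv
    obtain ⟨k, h₁, h₂, h⟩ := hv
    refine ⟨k, h₂, ?_⟩
    rw [powδ_natural, Ext.mk₀_comp_mk₀, powδ_zero_eq_zero_iff]
    exact ⟨v, fun a => (ConcreteCategory.congr_hom h a).symm⟩

/-- `D_I(M)/η(M) ≅ H^1_I(M)`. -/
noncomputable def cokerToDTEquiv (M : ModuleCat.{u} R) :
    ((LocCoh.idealTransform I).obj M ⧸ LinearMap.range (LocCoh.toDT I M)) ≃ₗ[R]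
      (localCohomology I 1).obj M :=
  Submodule.quotEquivOfEq _ _ (ker_toH1 I M).symm ≪≫ₗ
    LinearMap.quotKerEquivOfSurjective (toH1 I M) (toH1_surjective I M)

theorem subsingleton_H1_iff (M : ModuleCat.{u} R) :
    Subsingleton ((localCohomology I 1).obj M) ↔ Function.Surjective (LocCoh.toDT I M) := by
  rw [← LinearMap.range_eq_top, ← Submodule.Quotient.subsingleton_iff]
  exact ((cokerToDTEquiv I M).toEquiv.subsingleton_congr).symm

/-- The stagewise isomorphism `Ext^(i+1)(I^n, M) ≅ Ext^(i+2)(R/I^n, M)` for the old `Ext`. -/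
noncomputable def stageEquiv (i n : ℕ) (M : ModuleCat.{u} R) :
    oldExt (powI I n) M (i + 1) ≃ₗ[R] oldExt (quotPow I n) M (i + 2) :=
  extEquiv (powI I n) M (i + 1) ≪≫ₗ
    LinearEquiv.ofBijective (powδ I (i + 1) n M) ⟨powδ_injective I i n, powδ_surjective I (i + 1) n⟩ ≪≫ₗ
    (extEquiv (quotPow I n) M (i + 2)).symm

theorem extEquiv_stageEquiv (i n : ℕ) (M : ModuleCat.{u} R) (e : oldExt (powI I n) M (i + 1)) :
    extEquiv (quotPow I n) M (i + 2) (stageEquiv I i n M e) =
      powδ I (i + 1) n M (extEquiv (powI I n) M (i + 1) e) :=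
  (extEquiv (quotPow I n) M (i + 2)).apply_symm_apply _

theorem stageEquiv_natural_right (i n : ℕ) (g : M ⟶ M') (e : oldExt (powI I n) M (i + 1)) :
    stageEquiv I i n M' (((_root_.Ext R (ModuleCat.{u} R) (i + 1)).obj (op (powI I n))).map g e) =
      ((_root_.Ext R (ModuleCat.{u} R) (i + 2)).obj (op (quotPow I n))).map g
        (stageEquiv I i n M e) := by
  apply (extEquiv (quotPow I n) M' (i + 2)).injective
  rw [extEquiv_stageEquiv, extEquiv_naturality_right, extEquiv_naturality_right, extEquiv_stageEquiv]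
  exact (powδ_comp_mk₀ I _ g).symm

theorem stageEquiv_natural_left (i : ℕ) {n m : ℕ} (h : n ≤ m) (e : oldExt (powI I n) M (i + 1)) :
    stageEquiv I i m M (((_root_.Ext R (ModuleCat.{u} R) (i + 1)).map (inclI I h).op).app M e) =
      ((_root_.Ext R (ModuleCat.{u} R) (i + 2)).map (quotMap I h).op).app M
        (stageEquiv I i n M e) := by
  apply (extEquiv (quotPow I m) M (i + 2)).injective
  rw [extEquiv_stageEquiv, extEquiv_naturality_left, extEquiv_naturality_left, extEquiv_stageEquiv]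
  exact (powδ_natural I h _).symm

/-- The stagewise isomorphism of functors. -/
noncomputable def stageIso (i n : ℕ) :
    (_root_.Ext R (ModuleCat.{u} R) (i + 1)).obj (op (powI I n)) ≅
      (_root_.Ext R (ModuleCat.{u} R) (i + 2)).obj (op (quotPow I n)) :=
  NatIso.ofComponents (fun M => (stageEquiv I i n M).toModuleIso)
    (fun {M M'} g => ModuleCat.hom_ext (LinearMap.ext fun e => stageEquiv_natural_right I i n g e))

/-- `colim Ext^(i+1)(I^n, -) ≅ H^(i+2)_I`. -/
noncomputable def extTransformIso (i : ℕ) :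
    LocCoh.extTransform I (i + 1) ≅ localCohomology I (i + 2) :=
  HasColimit.isoOfNatIso (NatIso.ofComponents (fun j => stageIso I i j.unop.unop)
    (fun {j k} a => NatTrans.ext (funext fun M => ModuleCat.hom_ext (LinearMap.ext fun e =>
      stageEquiv_natural_left I i (leOfHom a.unop.unop) e))))

end GrothLib.LC
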