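import Groth.Agent.Lib.LC.DTProp
import Mathlib.Algebra.Module.LocalizedModule.Basic

/-! The ideal transform for a principal ideal is the localization. -/

universe u

open CategoryTheory Limits Opposite

namespace GrothLib.LC

variable {R : Type u} [CommRing R] (a : R) {M : ModuleCat.{u} R}

/-- `a^t` as an element of `(a)^t`. -/
def powGen (t : ℕ) : ↥((Ideal.span {a}) ^ t) :=
  ⟨a ^ t, Ideal.pow_mem_pow (Ideal.mem_span_singleton_self a) t⟩

theorem exists_eq_smul_powGen {t : ℕ} (b : ↥((Ideal.span {a}) ^ t)) : ∃ c : R, b = c • powGen a t := by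
  have hb : (b : R) ∈ Ideal.span {a ^ t} := by rw [← Ideal.span_singleton_pow]; exact b.2
  obtain ⟨c, hc⟩ := Ideal.mem_span_singleton'.1 hb
  exact ⟨c, Subtype.ext hc.symm⟩

/-- `f ↦ f(a^t)/a^t`. -/
noncomputable def stageFrac (t : ℕ) (M : ModuleCat.{u} R) :
    (powI (Ideal.span {a}) t ⟶ M) →ₗ[R] LocalizedModule (Submonoid.powers a) M where
  toFun f := LocalizedModule.mk (f (powGen a t)) ⟨a ^ t, pow_mem (Submonoid.mem_powers a) t⟩
  map_add' f g := by
    rw [LocalizedModule.mk_add_mk, LocalizedModule.mk_eq]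
    refine ⟨1, ?_⟩
    simp only [one_smul, Submonoid.smul_def, ModuleCat.hom_add,
      LinearMap.add_apply, smul_add, mul_smul]
  map_smul' r f := by
    rw [RingHom.id_apply, LocalizedModule.smul'_mk]
    rfl

theorem stageFrac_apply {t : ℕ} (f : powI (Ideal.span {a}) t ⟶ M) : stageFrac a t M f =
    LocalizedModule.mk (f (powGen a t)) ⟨a ^ t, pow_mem (Submonoid.mem_powers a) t⟩ := rfl

theorem inclI_powGen {t k : ℕ} (h : t ≤ k) :
    inclI (Ideal.span {a}) h (powGen a k) = a ^ (k - t) • powGen a t :=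
  Subtype.ext (by
    show a ^ k = a ^ (k - t) * a ^ t
    rw [← pow_add, Nat.sub_add_cancel h])

theorem stageFrac_restrict {t k : ℕ} (h : t ≤ k) (f : powI (Ideal.span {a}) t ⟶ M) :
    stageFrac a k M (inclI (Ideal.span {a}) h ≫ f) = stageFrac a t M f := by
  rw [stageFrac_apply, stageFrac_apply, LocalizedModule.mk_eq]
  refine ⟨1, ?_⟩
  rw [ConcreteCategory.comp_apply, inclI_powGen, map_smul]
  simp only [one_smul, Submonoid.smul_def, smul_smul]
  rw [← pow_add, Nat.add_sub_cancel' h]

/-- Underlying function of `D_(a)(M) → M_a`. -/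
noncomputable def toFracFun (x : (LocCoh.idealTransform (Ideal.span {a})).obj M) :
    LocalizedModule (Submonoid.powers a) M :=
  stageFrac a (exists_toD _ x).choose M (exists_toD _ x).choose_spec.choose

theorem toFracFun_toD {t : ℕ} (f : powI (Ideal.span {a}) t ⟶ M) :
    toFracFun a (toD _ t M f) = stageFrac a t M f := by
  obtain ⟨k, h₁, h₂, h⟩ := (toD_eq_toD_iff _ _ _).1
    (exists_toD _ (toD (Ideal.span {a}) t M f)).choose_spec.choose_spec
  rw [toFracFun, ← stageFrac_restrict a h₁, ← stageFrac_restrict a h₂, h]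

/-- `D_(a)(M) → M_a`. -/
noncomputable def toFrac (M : ModuleCat.{u} R) :
    (LocCoh.idealTransform (Ideal.span {a})).obj M →ₗ[R] LocalizedModule (Submonoid.powers a) M where
  toFun := toFracFun a
  map_add' x y := by
    obtain ⟨n, f, rfl⟩ := exists_toD _ x
    obtain ⟨m, hm, g, rfl⟩ := exists_toD_ge _ y n
    rw [← toD_restrict _ hm f, ← map_add, toFracFun_toD, toFracFun_toD, toFracFun_toD, map_add]
  map_smul' r x := by
    obtain ⟨n, f, rfl⟩ := exists_toD _ x
    rw [← map_smul, toFracFun_toD, toFracFun_toD, RingHom.id_apply, map_smul]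

theorem toFrac_toD {t : ℕ} (f : powI (Ideal.span {a}) t ⟶ M) :
    toFrac a M (toD _ t M f) = stageFrac a t M f := toFracFun_toD a f

theorem toFrac_toDT (m : M) :
    toFrac a M (LocCoh.toDT (Ideal.span {a}) M m) =
      LocalizedModule.mkLinearMap (Submonoid.powers a) M m := by
  rw [toDT_apply, toFrac_toD, stageFrac_apply, LocalizedModule.mkLinearMap_apply,
    LocalizedModule.mk_eq]
  exact ⟨1, by
    simp only [one_smul, Submonoid.smul_def]
    show (a ^ 0) • m = a ^ 0 • m
    rfl⟩

theorem toFrac_injective (M : ModuleCat.{u} R) : Function.Injective (toFrac a M) := by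
  rw [injective_iff_map_eq_zero]
  intro x hx
  obtain ⟨t, f, rfl⟩ := exists_toD _ x
  rw [toFrac_toD, stageFrac_apply, ← LocalizedModule.zero_mk
      (⟨a ^ t, pow_mem (Submonoid.mem_powers a) t⟩ : Submonoid.powers a), LocalizedModule.mk_eq] at hx
  obtain ⟨⟨_, s, rfl⟩, hs⟩ := hx
  simp only [Submonoid.smul_def, smul_zero, smul_smul, ← pow_add] at hs
  rw [toD_eq_zero_iff]
  refine ⟨s + t + t, Nat.le_add_left _ _, fun b hb hb' => ?_⟩
  obtain ⟨c, hc⟩ := exists_eq_smul_powGen a (⟨b, hb'⟩ : ↥((Ideal.span {a}) ^ (s + t + t)))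
  have hb2 : (⟨b, hb⟩ : ↥((Ideal.span {a}) ^ t)) = (c * a ^ (s + t)) • powGen a t := by
    refine Subtype.ext ((congrArg Subtype.val hc).trans ?_)
    show c * a ^ (s + t + t) = c * a ^ (s + t) * a ^ t
    rw [mul_assoc, ← pow_add]
  rw [hb2, map_smul, mul_smul, hs, smul_zero]

theorem toFrac_surjective [IsNoetherianRing R] (M : ModuleCat.{u} R) :
    Function.Surjective (toFrac a M) := by
  intro z
  induction z using LocalizedModule.induction_on with
  | h m s =>
  obtain ⟨_, t, rfl⟩ := s
  let A : ℕ →o Ideal R :=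
    ⟨fun n => (Submodule.span R {a ^ n}).annihilator, fun n k h c hc => by
      rw [Submodule.mem_annihilator_span_singleton, smul_eq_mul] at hc ⊢
      rw [← Nat.add_sub_cancel' h, pow_add, ← mul_assoc, hc, zero_mul]⟩
  obtain ⟨N, hN⟩ := monotone_stabilizes_iff_noetherian.2 (inferInstance : IsNoetherian R R) A
  let g : R →ₗ[R] ↥((Ideal.span {a}) ^ (t + N)) := LinearMap.toSpanSingleton R _ (powGen a (t + N))
  have hg : Function.Surjective g := fun b => by
    obtain ⟨c, rfl⟩ := exists_eq_smul_powGen a b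
    exact ⟨c, rfl⟩
  have hker : LinearMap.ker g ≤ LinearMap.ker (LinearMap.toSpanSingleton R M (a ^ N • m)) := by
    intro c hc
    have h1 : c ∈ A (t + N) := (Submodule.mem_annihilator_span_singleton _ _).2
      (congrArg Subtype.val (LinearMap.mem_ker.1 hc))
    rw [← hN (t + N) (Nat.le_add_left N t)] at h1
    have h2 := (Submodule.mem_annihilator_span_singleton _ _).1 h1
    rw [LinearMap.mem_ker, LinearMap.toSpanSingleton_apply, smul_smul]
    rw [smul_eq_mul] at h2
    rw [h2, zero_smul]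
  let f : ↥((Ideal.span {a}) ^ (t + N)) →ₗ[R] M :=
    (LinearMap.ker g).liftQ _ hker ∘ₗ (g.quotKerEquivOfSurjective hg).symm.toLinearMap
  have hf : f (powGen a (t + N)) = a ^ N • m := by
    have : (g.quotKerEquivOfSurjective hg).symm (powGen a (t + N)) = Submodule.Quotient.mk 1 := by
      rw [LinearEquiv.symm_apply_eq]
      exact (one_smul R (powGen a (t + N))).symm
    simp only [f, LinearMap.comp_apply, LinearEquiv.coe_coe, this]
    exact one_smul R _
  refine ⟨toD _ (t + N) M (ModuleCat.ofHom f), ?_⟩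
  rw [toFrac_toD, stageFrac_apply, LocalizedModule.mk_eq]
  refine ⟨1, ?_⟩
  show (1 : Submonoid.powers a) • (a ^ t) • f (powGen a (t + N)) =
    (1 : Submonoid.powers a) • (a ^ (t + N)) • m
  rw [hf, smul_smul, ← pow_add]

end GrothLib.LC
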