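import Groth.Agent.Lib.LC.Acyclic
import Mathlib.Algebra.Category.ModuleCat.EnoughInjectives

/-! Dimension shifting along a module with vanishing higher local cohomology. -/

universe u

open CategoryTheory Limits Opposite Abelian

namespace GrothLib.LC

variable {R : Type u} [CommRing R] (I : Ideal R)
variable {S : ShortComplex (ModuleCat.{u} R)} (hS : S.ShortExact)
variable (h : ∀ i, Subsingleton ((localCohomology I (i + 1)).obj S.X₂))

include h in
theorem δ_surjective (i : ℕ) : Function.Surjective (δ I hS i) := fun x =>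
  exists_of_map_f_eq_zero I hS i (x := x) (@Subsingleton.elim _ (h i) _ _)

include h in
theorem δ_succ_injective (i : ℕ) : Function.Injective (δ I hS (i + 1)) := by
  rw [injective_iff_map_eq_zero]
  intro x hx
  obtain ⟨y, rfl⟩ := exists_of_δ_eq_zero I hS (i + 1) (x := x) hx
  rw [@Subsingleton.elim _ (h i) y 0, map_zero]

/-- `H^(i+1)(X₃) ≅ H^(i+2)(X₁)`. -/
noncomputable def shiftEquiv (i : ℕ) :
    (localCohomology I (i + 1)).obj S.X₃ ≃ₗ[R] (localCohomology I (i + 2)).obj S.X₁ :=
  LinearEquiv.ofBijective (δ I hS (i + 1)) ⟨δ_succ_injective I hS h i, δ_surjective I hS h (i + 1)⟩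

/-- The map `Γ(X₃) → H¹(X₁)`. -/
noncomputable def torsionδ : DRing.torsionSub I S.X₃ →ₗ[R] (localCohomology I 1).obj S.X₁ :=
  δ I hS 0 ∘ₗ (torsionEquiv I S.X₃).toLinearMap

include h in
theorem torsionδ_surjective : Function.Surjective (torsionδ I hS) :=
  (δ_surjective I hS h 0).comp (torsionEquiv I S.X₃).surjective

theorem mem_ker_torsionδ (c : DRing.torsionSub I S.X₃) :
    torsionδ I hS c = 0 ↔ ∃ e ∈ DRing.torsionSub I S.X₂, S.g e = c.1 := by
  constructor
  · intro hc
    obtain ⟨y, hy⟩ := exists_of_δ_eq_zero I hS 0 (x := torsionEquiv I S.X₃ c) hc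
    obtain ⟨e, rfl⟩ := (torsionEquiv I S.X₂).surjective y
    rw [← torsionEquiv_naturality] at hy
    exact ⟨e.1, e.2, congrArg Subtype.val ((torsionEquiv I S.X₃).injective hy)⟩
  · rintro ⟨e, he, hc⟩
    have : c = (DRing.gammaI I).map S.g ⟨e, he⟩ := Subtype.ext hc.symm
    show δ I hS 0 (torsionEquiv I S.X₃ c) = 0
    rw [this, torsionEquiv_naturality, δ_map_g]

theorem exists_mono_injective (M : ModuleCat.{u} R) :
    ∃ (S : ShortComplex (ModuleCat.{u} R)), S.ShortExact ∧ S.X₁ = M ∧ Injective S.X₂ := by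
  let P := (EnoughInjectives.presentation M).some
  have : Mono P.f := P.mono
  exact ⟨ShortComplex.mk P.f (cokernel.π P.f) (cokernel.condition P.f),
    { exact := ShortComplex.exact_of_g_is_cokernel _ (cokernelIsCokernel P.f) }, rfl, P.injective⟩

end GrothLib.LC
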