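import Groth.Agent.Lib.LC.Derived
import Groth.Agent.Lib.LC.Shift
import Groth.Agent.Lib.LC.DTSingle
import Groth.Agent.Lib.LC.DTExt
import Groth.Agent.Lib.LC.Colim

/-! Cohomological dimension. -/

universe u

open CategoryTheory Limits Opposite Abelian

namespace GrothLib.LC

variable {R : Type u} [CommRing R] [IsNoetherianRing R] (I J : Ideal R)

omit [IsNoetherianRing R] in
theorem mem_torsionSub_sup_iff {M : Type u} [AddCommGroup M] [Module R M] (m : M) :
    m ∈ DRing.torsionSub (I ⊔ J) M ↔ m ∈ DRing.torsionSub I M ∧ m ∈ DRing.torsionSub J M := by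
  have h : ∀ (K : Ideal R), m ∈ DRing.torsionSub K M ↔
      ∃ n, K ^ n ≤ (Submodule.span R {m}).annihilator := fun K => by
    simp only [SetLike.le_def, Submodule.mem_annihilator_span_singleton]
    rfl
  simp only [h]
  constructor
  · rintro ⟨n, hn⟩
    exact ⟨⟨n, (Ideal.pow_right_mono le_sup_left n).trans hn⟩,
      ⟨n, (Ideal.pow_right_mono le_sup_right n).trans hn⟩⟩
  · rintro ⟨⟨n, hn⟩, k, hk⟩
    exact ⟨n + k, (Ideal.sup_pow_add_le_pow_sup_pow (n := n) (m := k)).trans (sup_le hn hk)⟩

variable {M : ModuleCat.{u} R} (K : InjectiveResolution M)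

/-- Cocycles of the `Γ_J` complex. -/
noncomputable abbrev cocycles (m : ℕ) : Submodule R ((gammaComplex J K).X m) :=
  LinearMap.ker ((gammaComplex J K).d m (m + 1)).hom

/-- `0 → Z^m → K^m → Z^(m+1) → 0`. -/
noncomputable def cocyclesSeq (m : ℕ) : ShortComplex (ModuleCat.{u} R) :=
  ShortComplex.mk (X₁ := ModuleCat.of R (cocycles J K m)) (X₂ := (gammaComplex J K).X m)
    (X₃ := ModuleCat.of R (cocycles J K (m + 1))) (ModuleCat.ofHom (cocycles J K m).subtype)
    (ModuleCat.ofHom (LinearMap.codRestrict (cocycles J K (m + 1))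
      ((gammaComplex J K).d m (m + 1)).hom fun x => LinearMap.mem_ker.2
        (show ((gammaComplex J K).d m (m + 1) ≫ (gammaComplex J K).d (m + 1) (m + 2)) x = 0 by
          rw [HomologicalComplex.d_comp_d]; rfl)))
    (ModuleCat.hom_ext (LinearMap.ext fun x => Subtype.ext x.2))

omit [IsNoetherianRing R] in
theorem cocyclesSeq_shortExact (m : ℕ) (h : Subsingleton ((localCohomology J (m + 1)).obj M)) :
    (cocyclesSeq J K m).ShortExact where
  exact := (ShortComplex.moduleCat_exact_iff _).2 fun x hx =>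
    ⟨⟨x, congrArg Subtype.val hx⟩, rfl⟩
  mono_f := (ModuleCat.mono_iff_injective _).2 (cocycles J K m).injective_subtype
  epi_g := (ModuleCat.epi_iff_surjective _).2 fun z => by
    have := (homologyEquiv J K (m + 1)).toEquiv.subsingleton
    obtain ⟨w, hw⟩ := (classOf_succ_eq_zero_iff m z.1 z.2).1 (Subsingleton.elim _ _)
    exact ⟨w, Subtype.ext hw⟩

theorem injective_gammaComplex_X (m : ℕ) : Injective ((gammaComplex J K).X m) := by
  have : Injective (ModuleCat.of R (K.cocomplex.X m)) := K.injective m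
  have := Module.injective_module_of_injective_object R (K.cocomplex.X m)
  have := injective_torsionSub J (K.cocomplex.X m)
  exact Module.injective_object_of_injective_module R _

variable {a b : ℕ}

theorem subsingleton_H_cocycles (hI : LocCoh.CdLE R I a)
    (hJ : ∀ q, b < q → Subsingleton ((localCohomology J q).obj M)) (j : ℕ) :
    ∀ k, a < k + 1 + j →
      Subsingleton ((localCohomology I (k + 1)).obj (ModuleCat.of R (cocycles J K (b + j)))) := by
  induction j with
  | zero => exact fun k hk => hI _ (k + 1) hk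
  | succ j ih =>
    intro k hk
    have hS := cocyclesSeq_shortExact J K (b + j) (hJ _ (by omega))
    have : Injective (cocyclesSeq J K (b + j)).X₂ := injective_gammaComplex_X J K (b + j)
    exact subsingleton₃ I hS (k + 1) (subsingleton_of_injective I _ k) (ih (k + 1) (by omega))

/-- `cd(I + J) ≤ cd(I) + cd(J)`. -/
theorem cdLE_sup (hI : LocCoh.CdLE R I a) (hJ : LocCoh.CdLE R J b) :
    LocCoh.CdLE R (I ⊔ J) (a + b) := by
  intro M _ _ i hi
  obtain ⟨m, rfl⟩ : ∃ m, i = b + m + 1 := ⟨i - b - 1, by omega⟩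
  let K := injectiveResolution (ModuleCat.of R M)
  refine @Equiv.subsingleton _ _ (homologyEquiv (I ⊔ J) K (b + m + 1)).toEquiv.symm ?_
  refine subsingleton_of_forall_eq 0 fun c => ?_
  obtain ⟨x, hx, rfl⟩ := classOf_surjective (b + m + 1) c
  rw [classOf_succ_eq_zero_iff]
  obtain ⟨hxI, hxJ⟩ := (mem_torsionSub_sup_iff I J _).1 x.2
  have hS := cocyclesSeq_shortExact J K (b + m) (hJ M _ (by omega))
  let z : cocycles J K (b + m + 1) := ⟨⟨x.1, hxJ⟩, Subtype.ext (congrArg Subtype.val hx :)⟩
  have hz : z ∈ DRing.torsionSub I (cocycles J K (b + m + 1)) := by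
    obtain ⟨n, hn⟩ := hxI
    exact ⟨n, fun r hr => Subtype.ext (Subtype.ext (hn r hr))⟩
  have : Subsingleton ((localCohomology I 1).obj (cocyclesSeq J K (b + m)).X₁) :=
    subsingleton_H_cocycles I J K hI (fun q hq => hJ M q hq) m 0 (by omega)
  obtain ⟨e, he, hez⟩ := (mem_ker_torsionδ I hS ⟨z, hz⟩).1 (Subsingleton.elim _ _)
  refine ⟨⟨e.1, (mem_torsionSub_sup_iff I J _).2 ⟨?_, e.2⟩⟩, Subtype.ext ?_⟩
  · obtain ⟨n, hn⟩ := he
    exact ⟨n, fun r hr => congrArg Subtype.val (hn r hr)⟩
  · exact congrArg (fun w : cocycles J K (b + m + 1) => w.1.1) hez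

theorem cdLE_bot : LocCoh.CdLE R (⊥ : Ideal R) 0 := by
  intro M _ _ i hi
  obtain ⟨q, rfl⟩ := Nat.exists_eq_succ_of_ne_zero hi.ne'
  refine subsingleton_of_isPowerTorsion ⊥ q (ModuleCat.of R M) fun m => ⟨1, fun r hr => ?_⟩
  rw [pow_one, Ideal.mem_bot] at hr
  rw [hr, zero_smul]

theorem map_toDT_H_bijective (j : ℕ) (M : ModuleCat.{u} R) :
    Function.Bijective ((localCohomology I (j + 2)).map
      (ModuleCat.ofHom (LocCoh.toDT I M) : M ⟶ (LocCoh.idealTransform I).obj M)) := by
  let f : ModuleCat.of R (M ⧸ DRing.torsionSub I M) ⟶ (LocCoh.idealTransform I).obj M :=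
    ModuleCat.ofHom ((DRing.torsionSub I M).liftQ (LocCoh.toDT I M) (ker_toDT I M).ge)
  have hf : Function.Injective f :=
    LinearMap.ker_eq_bot.1 (Submodule.ker_liftQ_eq_bot _ _ _ (ker_toDT I M).le)
  have hrange : LinearMap.range f.hom = LinearMap.range (LocCoh.toDT I M) :=
    Submodule.range_liftQ _ _ _
  let S := ShortComplex.mk f (ModuleCat.ofHom (LinearMap.range f.hom).mkQ)
    (ModuleCat.hom_ext (LinearMap.range_mkQ_comp f.hom))
  have hS : S.ShortExact :=
    { exact := (ShortComplex.moduleCat_exact_iff _).2 fun x hx =>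
        (Submodule.Quotient.mk_eq_zero _).1 hx
      mono_f := (ModuleCat.mono_iff_injective _).2 hf
      epi_g := (ModuleCat.epi_iff_surjective _).2 (Submodule.mkQ_surjective _) }
  have hC : LocCoh.IsPowerTorsion I S.X₃ :=
    isPowerTorsion_of_surjective I (Submodule.quotEquivOfEq _ _ hrange.symm).toLinearMap
      (LinearEquiv.surjective _) (coker_toDT_isPowerTorsion I M)
  have h1 := map_bijective_of_torsion I (subQuot_shortExact (DRing.torsionSub I M))
    (isPowerTorsion_torsionSub I M) (j + 1)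
  have hp := subsingleton_of_isPowerTorsion I j S.X₃ hC
  have hp' := subsingleton_of_isPowerTorsion I (j + 1) S.X₃ hC
  have h2 : Function.Bijective ((localCohomology I (j + 2)).map f) := by
    constructor
    · rw [injective_iff_map_eq_zero]
      intro x hx
      obtain ⟨y, rfl⟩ := exists_of_map_f_eq_zero I hS (j + 1) (x := x) hx
      rw [Subsingleton.elim y 0, map_zero]
    · exact fun y => exists_of_map_g_eq_zero I hS (j + 2) (x := y) (Subsingleton.elim _ _)
  have hfac : (ModuleCat.ofHom (LocCoh.toDT I M) : M ⟶ _) =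
      (ModuleCat.ofHom (DRing.torsionSub I M).mkQ :
        M ⟶ ModuleCat.of R (M ⧸ DRing.torsionSub I M)) ≫ f := rfl
  rw [hfac, CategoryTheory.Functor.map_comp]
  exact h2.comp h1

theorem cdLE_span_singleton (c : R) : LocCoh.CdLE R (Ideal.span {c}) 1 := by
  intro M _ _ i hi
  obtain ⟨j, rfl⟩ : ∃ j, i = j + 2 := ⟨i - 2, by omega⟩
  let M' : ModuleCat.{u} R := ModuleCat.of R M
  let e : (LocCoh.idealTransform (Ideal.span {c})).obj M' ≃ₗ[R]
      LocalizedModule (Submonoid.powers c) M' :=
    LinearEquiv.ofBijective (toFrac c M') ⟨toFrac_injective c M', toFrac_surjective c M'⟩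
  have hu := (Module.End.isUnit_iff _).1 (IsLocalizedModule.map_units
    (LocalizedModule.mkLinearMap (Submonoid.powers c) M')
    (⟨c, Submonoid.mem_powers c⟩ : Submonoid.powers c))
  have hb : Function.Bijective fun m : (LocCoh.idealTransform (Ideal.span {c})).obj M' => c • m := by
    have hcomp := e.symm.bijective.comp (hu.comp e.bijective)
    exact (funext fun m => by
      show e.symm (c • e m) = c • m
      rw [map_smul, e.symm_apply_apply] : (fun m => e.symm (c • e m)) = fun m => c • m) ▸ hcomp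
  have := subsingleton_of_smul_bijective (Ideal.span {c}) (Ideal.mem_span_singleton_self c) hb (j + 2)
  exact (map_toDT_H_bijective (Ideal.span {c}) j M').1.subsingleton

theorem cdLE_card (s : Finset R) : LocCoh.CdLE R (Ideal.span (s : Set R)) s.card := by
  classical
  induction s using Finset.induction_on with
  | empty => rw [Finset.coe_empty, Ideal.span_empty]; exact cdLE_bot
  | insert c t hc ih =>
    rw [Finset.coe_insert, Ideal.span_insert, Finset.card_insert_of_notMem hc, Nat.add_comm]
    exact cdLE_sup _ _ (cdLE_span_singleton c) ih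

theorem exists_cdLE : ∃ r, LocCoh.CdLE R I r := by
  obtain ⟨s, hs⟩ := IsNoetherian.noetherian I
  exact ⟨s.card, hs ▸ cdLE_card s⟩

theorem exists_map_subtype {M : ModuleCat.{u} R} {ι : Type u} [Preorder ι] [Nonempty ι]
    [IsDirected ι (· ≤ ·)] (A : ι →o Submodule R M) (hA : ∀ m : M, ∃ t, m ∈ A t) (i : ℕ)
    (x : (localCohomology I i).obj M) :
    ∃ t y, (localCohomology I i).map (ModuleCat.ofHom (A t).subtype : ModuleCat.of R (A t) ⟶ M) y = x := by
  let F : ι ⥤ ModuleCat.{u} R :=
    { obj := fun t => ModuleCat.of R (A t)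
      map := fun h => ModuleCat.ofHom (Submodule.inclusion (A.monotone (leOfHom h))) }
  let c : Cocone F :=
    { pt := M
      ι := { app := fun t => ModuleCat.ofHom (A t).subtype } }
  have hc : IsColimit c := by
    apply isColimitOfReflects (forget (ModuleCat.{u} R))
    refine Types.FilteredColimit.isColimitOf' _ _ (fun m => ?_) (fun t y y' h => ?_)
    · obtain ⟨t, ht⟩ := hA m
      exact ⟨t, ⟨m, ht⟩, rfl⟩
    · exact ⟨t, 𝟙 t, Subtype.ext h⟩
  obtain ⟨n, e, rfl⟩ := exists_toH I x
  obtain ⟨t, e', rfl⟩ := (ext_colimit hc i _ (finite_quotPow I n)).1 e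
  exact ⟨t, toH I i n _ e', map_toH I _ _⟩

theorem subsingleton_finsupp (ι : Type u) {i : ℕ}
    (h : Subsingleton ((localCohomology I i).obj (ModuleCat.of R R))) :
    Subsingleton ((localCohomology I i).obj (ModuleCat.of R (ι →₀ R))) := by
  classical
  refine subsingleton_of_forall_eq 0 fun x => ?_
  let A : Finset ι →o Submodule R (ι →₀ R) :=
    ⟨fun s => Finsupp.supported R R (s : Set ι), fun s t hst => Finsupp.supported_mono hst⟩
  obtain ⟨s, y, rfl⟩ := exists_map_subtype I (M := ModuleCat.of R (ι →₀ R)) A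
    (fun f => ⟨f.support, (Finsupp.mem_supported R f).2 (subset_refl _)⟩) i x
  have : Subsingleton ((localCohomology I i).obj (ModuleCat.of R (A s))) := by
    refine subsingleton_of_sum_factor I s (fun _ => ModuleCat.of R R)
      (fun j => ModuleCat.ofHom (Finsupp.lapply j ∘ₗ (A s).subtype))
      (fun j => if hj : j ∈ s then ModuleCat.ofHom (LinearMap.codRestrict (A s) (Finsupp.lsingle j)
        fun r => Finsupp.single_mem_supported R r hj) else 0) ?_ i (fun _ _ => h)
    refine ModuleCat.hom_ext (LinearMap.ext fun v => Subtype.ext ?_)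
    rw [ModuleCat.hom_sum, LinearMap.sum_apply, AddSubmonoidClass.coe_finsetSum]
    conv_rhs => rw [ModuleCat.id_apply, ← Finsupp.sum_single v.1,
      Finsupp.sum_of_support_subset _ v.2 _ (fun _ _ => Finsupp.single_zero _)]
    refine Finset.sum_congr rfl fun j hj => ?_
    rw [dif_pos hj]
    rfl
  rw [Subsingleton.elim y 0, map_zero]

theorem cdLE_of_vanishing_on_ring (d : ℕ)
    (h : ∀ i, d < i → Subsingleton ((localCohomology I i).obj (ModuleCat.of R R))) :
    LocCoh.CdLE R I d := by
  obtain ⟨r, hr⟩ := exists_cdLE I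
  suffices ∀ n i, d < i → r < i + n → ∀ (M : Type u) [AddCommGroup M] [Module R M],
      Subsingleton (LocCoh.H I i M) from fun M _ _ i hi => this (r + 1) i hi (by omega) M
  intro n
  induction n with
  | zero => exact fun i _ hi M _ _ => hr M i (by omega)
  | succ n ih =>
    intro i hid hi M _ _
    let π : (M →₀ R) →ₗ[R] M := Finsupp.linearCombination R id
    have hπ : Function.Surjective π := fun m => ⟨Finsupp.single m 1, by simp [π]⟩
    have hS : (ShortComplex.mk (X₁ := ModuleCat.of R (LinearMap.ker π))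
        (X₂ := ModuleCat.of R (M →₀ R)) (X₃ := ModuleCat.of R M)
        (ModuleCat.ofHom (LinearMap.ker π).subtype) (ModuleCat.ofHom π)
        (ModuleCat.hom_ext (LinearMap.ext fun x => x.2))).ShortExact :=
      { exact := (ShortComplex.moduleCat_exact_iff _).2 fun x hx => ⟨⟨x, hx⟩, rfl⟩
        mono_f := (ModuleCat.mono_iff_injective _).2 (LinearMap.ker π).injective_subtype
        epi_g := (ModuleCat.epi_iff_surjective _).2 hπ }
    exact subsingleton₃ I hS i (subsingleton_finsupp I M (h i hid))
      (ih (i + 1) (by omega) (by omega) (LinearMap.ker π))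

end GrothLib.LC
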