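import Groth.Agent.Lib.LC.Torsion

/-! Vanishing criteria and the additive structure of local cohomology. -/

universe u

open CategoryTheory Limits Opposite Abelian

namespace GrothLib.LC

variable {R : Type u} [CommRing R] (I : Ideal R) {M M' : ModuleCat.{u} R}

theorem map_add_apply (i : ℕ) (f g : M ⟶ M') (x : (localCohomology I i).obj M) :
    (localCohomology I i).map (f + g) x =
      (localCohomology I i).map f x + (localCohomology I i).map g x := by
  obtain ⟨n, e, rfl⟩ := exists_toH I x
  rw [map_toH, map_toH, map_toH, ← map_add, Ext.mk₀_add, Ext.comp_add]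

theorem map_zero_apply (i : ℕ) (x : (localCohomology I i).obj M) :
    (localCohomology I i).map (0 : M ⟶ M') x = 0 := by
  obtain ⟨n, e, rfl⟩ := exists_toH I x
  rw [map_toH, Ext.mk₀_zero, Ext.comp_zero, map_zero]

theorem map_smul_apply (i : ℕ) (r : R) (f : M ⟶ M') (x : (localCohomology I i).obj M) :
    (localCohomology I i).map (r • f) x = r • (localCohomology I i).map f x := by
  obtain ⟨n, e, rfl⟩ := exists_toH I x
  rw [map_toH, map_toH, Ext.mk₀_smul, Ext.comp_smul, map_smul]

theorem map_sum_apply (i : ℕ) {ι : Type*} (s : Finset ι) (f : ι → (M ⟶ M'))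
    (x : (localCohomology I i).obj M) :
    (localCohomology I i).map (∑ j ∈ s, f j) x = ∑ j ∈ s, (localCohomology I i).map (f j) x := by
  classical
  induction s using Finset.induction_on with
  | empty => simp [map_zero_apply]
  | insert a s ha ih => rw [Finset.sum_insert ha, Finset.sum_insert ha, map_add_apply, ih]

theorem map_comp_apply {M'' : ModuleCat.{u} R} (i : ℕ) (f : M ⟶ M') (g : M' ⟶ M'')
    (x : (localCohomology I i).obj M) :
    (localCohomology I i).map (f ≫ g) x =
      (localCohomology I i).map g ((localCohomology I i).map f x) := by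
  rw [CategoryTheory.Functor.map_comp]; rfl

theorem map_id_apply (i : ℕ) (x : (localCohomology I i).obj M) :
    (localCohomology I i).map (𝟙 M) x = x := by
  rw [CategoryTheory.Functor.map_id]; rfl

/-- If some element of `I` acts bijectively on `M`, then all `H^i_I(M)` vanish. -/
theorem subsingleton_of_smul_bijective {a : R} (ha : a ∈ I)
    (h : Function.Bijective fun m : M => a • m) (i : ℕ) :
    Subsingleton ((localCohomology I i).obj M) := by
  refine subsingleton_of_forall_eq 0 fun x => ?_
  let e : M ≅ M := (LinearEquiv.ofBijective (LinearMap.lsmul R M a) h).toModuleIso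
  have he : e.hom = a • 𝟙 M := rfl
  have key : ∀ y : (localCohomology I i).obj M, (localCohomology I i).map e.hom y = a • y := by
    intro y; rw [he, map_smul_apply, map_id_apply]
  obtain ⟨n, hn⟩ := isPowerTorsion I i M x
  have := hn (a ^ n) (Ideal.pow_mem_pow ha n)
  clear hn
  induction n generalizing x with
  | zero => simpa using this
  | succ n ih =>
    rw [pow_succ', mul_smul, ← key] at this
    apply ih x
    have h2 := congrArg ((localCohomology I i).map e.inv) this
    rwa [← map_comp_apply, e.hom_inv_id, map_id_apply, map_zero] at h2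

/-- If the identity of `M` is a finite sum of maps factoring through modules with vanishing
local cohomology, then the local cohomology of `M` vanishes. -/
theorem subsingleton_of_sum_factor {ι : Type*} (s : Finset ι) (P : ι → ModuleCat.{u} R)
    (f : ∀ j, M ⟶ P j) (g : ∀ j, P j ⟶ M) (hid : ∑ j ∈ s, f j ≫ g j = 𝟙 M) (i : ℕ)
    (hP : ∀ j ∈ s, Subsingleton ((localCohomology I i).obj (P j))) :
    Subsingleton ((localCohomology I i).obj M) := by
  refine subsingleton_of_forall_eq 0 fun x => ?_
  rw [← map_id_apply I i x, ← hid, map_sum_apply]
  refine Finset.sum_eq_zero fun j hj => ?_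
  have := hP j hj
  rw [map_comp_apply, Subsingleton.elim ((localCohomology I i).map (f j) x) 0, map_zero]

end GrothLib.LC
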