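import Groth.Agent.Lib.LC.Derived
import Groth.Agent.Lib.InjMod.Noetherian
import Mathlib.CategoryTheory.Abelian.Exact
import Mathlib.Algebra.Category.ModuleCat.Injective
import Mathlib.Algebra.Module.LocalizedModule.Exact

/-! Localisation of modules as a functor, and localised injective resolutions. -/

universe u

open CategoryTheory Limits Opposite Abelian

namespace GrothLib.LC

variable {R : Type u} [CommRing R] (S : Submonoid R)

/-- Localisation, as an endofunctor of `R`-modules. -/
noncomputable def locFun : ModuleCat.{u} R ⥤ ModuleCat.{u} R where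
  obj M := ModuleCat.of R (LocalizedModule S M)
  map {M N} f := ModuleCat.ofHom (IsLocalizedModule.map S (LocalizedModule.mkLinearMap S M)
    (LocalizedModule.mkLinearMap S N) f.hom)
  map_id M := ModuleCat.hom_ext (IsLocalizedModule.map_id S (LocalizedModule.mkLinearMap S M))
  map_comp {M N P} f g := by
    apply ModuleCat.hom_ext
    apply IsLocalizedModule.linearMap_ext S (LocalizedModule.mkLinearMap S M)
      (LocalizedModule.mkLinearMap S P)
    ext m
    show IsLocalizedModule.map S _ _ (g.hom ∘ₗ f.hom) (LocalizedModule.mkLinearMap S M m) =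
      IsLocalizedModule.map S _ _ g.hom (IsLocalizedModule.map S _ _ f.hom
        (LocalizedModule.mkLinearMap S M m))
    rw [IsLocalizedModule.map_apply, IsLocalizedModule.map_apply, IsLocalizedModule.map_apply]
    rfl

instance : (locFun S).Additive where
  map_add {M N f g} := ModuleCat.hom_ext (map_add (IsLocalizedModule.map S
    (LocalizedModule.mkLinearMap S M) (LocalizedModule.mkLinearMap S N)) f.hom g.hom)

instance : (locFun S).PreservesHomology :=
  Functor.preservesHomology_of_map_exact _ fun T hT => by
    have h' := IsLocalizedModule.map_exact S (LocalizedModule.mkLinearMap S T.X₁)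
      (LocalizedModule.mkLinearMap S T.X₂) (LocalizedModule.mkLinearMap S T.X₃) T.f.hom T.g.hom
      ((ShortComplex.ShortExact.moduleCat_exact_iff_function_exact T).1 hT)
    exact (ShortComplex.ShortExact.moduleCat_exact_iff_function_exact (T.map (locFun S))).2 h'

/-- The unit `M ⟶ S⁻¹M`. -/
noncomputable def locUnit : 𝟭 (ModuleCat.{u} R) ⟶ locFun S where
  app M := ModuleCat.ofHom (LocalizedModule.mkLinearMap S M)
  naturality {M N} f := ModuleCat.hom_ext (LinearMap.ext fun m =>
    (IsLocalizedModule.map_apply S (LocalizedModule.mkLinearMap S M)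
      (LocalizedModule.mkLinearMap S N) f.hom m).symm)

theorem locFun_map_mk {M N : ModuleCat.{u} R} (f : M ⟶ N) (m : M) :
    (locFun S).map f ((locUnit S).app M m) = (locUnit S).app N (f m) :=
  (ConcreteCategory.congr_hom ((locUnit S).naturality f) m).symm

variable [IsNoetherianRing R] (b : R)

/-- For injective `E`, the map `E → E_b` is split surjective, with a section killing nothing
more than necessary. -/
theorem exists_section (E : ModuleCat.{u} R) [Injective E] :
    ∃ σ : LocalizedModule (Submonoid.powers b) E →ₗ[R] E,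
      (LocalizedModule.mkLinearMap (Submonoid.powers b) E) ∘ₗ σ = LinearMap.id ∧
      ∀ x : E, ∃ n : ℕ, b ^ n • (x - σ (LocalizedModule.mkLinearMap (Submonoid.powers b) E x)) = 0 := by
  haveI := Module.injective_module_of_injective_object R E
  let mk := LocalizedModule.mkLinearMap (Submonoid.powers b) E
  have hker : ∀ x : E, mk x = 0 ↔ ∃ n : ℕ, b ^ n • x = 0 := fun x => by
    rw [IsLocalizedModule.eq_zero_iff (Submonoid.powers b) mk]
    exact ⟨fun ⟨⟨_, n, rfl⟩, hc⟩ => ⟨n, hc⟩, fun ⟨n, hn⟩ => ⟨⟨b ^ n, n, rfl⟩, hn⟩⟩
  have hK : Module.Injective R (LinearMap.ker mk) :=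
    GrothLib.InjMod.injective_of_mem_iff_powTorsion inferInstance (Ideal.span {b}) _ fun x => by
      rw [LinearMap.mem_ker, hker]
      constructor
      · rintro ⟨n, hn⟩
        refine ⟨n, fun a ha => ?_⟩
        rw [Ideal.span_singleton_pow, Ideal.mem_span_singleton] at ha
        obtain ⟨c, rfl⟩ := ha
        rw [mul_comm, mul_smul, hn, smul_zero]
      · rintro ⟨n, hn⟩
        exact ⟨n, hn _ (Ideal.pow_mem_pow (Ideal.mem_span_singleton_self b) n)⟩
  obtain ⟨C, hC⟩ := GrothLib.InjMod.exists_isCompl (LinearMap.ker mk) hK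
  have hbij : Function.Bijective (mk ∘ₗ C.subtype) := by
    refine ⟨(injective_iff_map_eq_zero _).2 fun c hc => Subtype.ext
      (Submodule.disjoint_def.1 hC.disjoint _ (LinearMap.mem_ker.2 hc) c.2), fun y => ?_⟩
    obtain ⟨⟨e, ⟨_, n, rfl⟩⟩, hy⟩ := IsLocalizedModule.mk'_surjective (Submonoid.powers b) mk y
    have he : e ∈ LinearMap.ker mk ⊔ C := hC.sup_eq_top ▸ Submodule.mem_top
    obtain ⟨k, hk, e₀, he₀, rfl⟩ := Submodule.mem_sup.1 he
    have hwd : ∀ r : R, r * b ^ n = 0 → r • e₀ = 0 := fun r hr =>
      Submodule.disjoint_def.1 hC.disjoint _ (by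
        rw [LinearMap.mem_ker, hker]
        exact ⟨n, by rw [smul_smul, mul_comm, hr, zero_smul]⟩) (C.smul_mem r he₀)
    obtain ⟨h, hh⟩ := Module.Injective.out (R := R) (Submodule.liftQ
      (LinearMap.ker (LinearMap.toSpanSingleton R R (b ^ n))) (LinearMap.toSpanSingleton R R (b ^ n))
        le_rfl) (LinearMap.ker_eq_bot.1 (Submodule.ker_liftQ_eq_bot _ _ _ le_rfl))
      (Submodule.liftQ (LinearMap.ker (LinearMap.toSpanSingleton R R (b ^ n)))
        (LinearMap.toSpanSingleton R E e₀) fun r hr => hwd r hr)
    have hb : b ^ n • h 1 = e₀ := by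
      have h1 := hh (Submodule.Quotient.mk (1 : R))
      simp only [Submodule.liftQ_apply, LinearMap.toSpanSingleton_apply, one_smul] at h1
      rwa [← map_smul, smul_eq_mul, mul_one]
    have hh1 : h 1 ∈ LinearMap.ker mk ⊔ C := hC.sup_eq_top ▸ Submodule.mem_top
    obtain ⟨k', hk', c, hc, hkc⟩ := Submodule.mem_sup.1 hh1
    refine ⟨⟨c, hc⟩, ?_⟩
    rw [← hy]
    show mk c = _
    symm
    refine IsLocalizedModule.mk'_eq_iff.2 ?_
    rw [map_add, LinearMap.mem_ker.1 hk, zero_add, ← hb, map_smul, ← hkc, map_add,
      LinearMap.mem_ker.1 hk', zero_add]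
    rfl
  refine ⟨C.subtype ∘ₗ (LinearEquiv.ofBijective _ hbij).symm.toLinearMap, LinearMap.ext fun y =>
    (LinearEquiv.ofBijective _ hbij).apply_symm_apply y, fun x => (hker _).1 ?_⟩
  rw [map_sub, sub_eq_zero]
  exact ((LinearEquiv.ofBijective _ hbij).apply_symm_apply (mk x)).symm

theorem injective_locFun_obj (E : ModuleCat.{u} R) [Injective E] :
    Injective ((locFun (Submonoid.powers b)).obj E) := by
  obtain ⟨σ, hσ, -⟩ := exists_section b E
  haveI := Module.injective_module_of_injective_object R E
  haveI := GrothLib.InjMod.injective_of_retract σ (LocalizedModule.mkLinearMap (Submonoid.powers b) E)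
    hσ inferInstance
  exact Module.injective_object_of_injective_module R (LocalizedModule (Submonoid.powers b) E)

variable {M : ModuleCat.{u} R} (K : InjectiveResolution M)

/-- The localisation of an injective resolution. -/
noncomputable def locResolution : InjectiveResolution ((locFun (Submonoid.powers b)).obj M) where
  cocomplex := ((locFun (Submonoid.powers b)).mapHomologicalComplex _).obj K.cocomplex
  injective n := injective_locFun_obj b (K.cocomplex.X n)
  ι := (HomologicalComplex.singleMapHomologicalComplex (locFun (Submonoid.powers b)) (ComplexShape.up ℕ) 0).inv.app M ≫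
    ((locFun (Submonoid.powers b)).mapHomologicalComplex _).map K.ι

/-- The map of resolutions `K ⟶ S⁻¹K`. -/
noncomputable def locHom : InjectiveResolution.Hom K (locResolution b K) ((locUnit (Submonoid.powers b)).app M) where
  hom := (Functor.mapHomologicalComplexIdIso (ModuleCat.{u} R) (ComplexShape.up ℕ)).inv.app _ ≫
    (NatTrans.mapHomologicalComplex (locUnit (Submonoid.powers b)) _).app K.cocomplex
  ι_f_zero_comp_hom_f_zero := by
    simp [locResolution]
    exact (locUnit (Submonoid.powers b)).naturality (K.ι.f 0)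

theorem locHom_f_apply (n : ℕ) (x : K.cocomplex.X n) :
    (locHom b K).hom.f n x = LocalizedModule.mkLinearMap (Submonoid.powers b) (K.cocomplex.X n) x := rfl

end GrothLib.LC
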