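import Groth.Agent.Lib.LC.Change
import Groth.Agent.Lib.LC.Loc
import Groth.Agent.Lib.LC.Cd
import Groth.Agent.Lib.LC.Acyclic
import Mathlib.Algebra.Homology.HomologicalComplexAbelian

/-! The long exact sequence `H^i_{a+(b)}(M) → H^i_a(M) → H^i_a(M_b) → H^{i+1}_{a+(b)}(M)`. -/

universe u

open CategoryTheory Limits Opposite Abelian

namespace GrothLib.LC

variable {R : Type u} [CommRing R]

section general

variable {T : ShortComplex (CochainComplex (ModuleCat.{u} R) ℕ)} (hT : T.ShortExact)

include hT in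
theorem exact_of_shortExact (i : ℕ) :
    Function.Exact (HomologicalComplex.homologyMap T.f i).hom
      (HomologicalComplex.homologyMap T.g i).hom :=
  (ShortComplex.ShortExact.moduleCat_exact_iff_function_exact _).1 (hT.homology_exact₂ i)

theorem exact_map_δ (i : ℕ) :
    Function.Exact (HomologicalComplex.homologyMap T.g i).hom (hT.δ i (i + 1) rfl).hom :=
  (ShortComplex.ShortExact.moduleCat_exact_iff_function_exact _).1 (hT.homology_exact₃ i (i + 1) rfl)

theorem exact_δ_map (i : ℕ) :
    Function.Exact (hT.δ i (i + 1) rfl).hom (HomologicalComplex.homologyMap T.f (i + 1)).hom :=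
  (ShortComplex.ShortExact.moduleCat_exact_iff_function_exact _).1 (hT.homology_exact₁ i (i + 1) rfl)

include hT in
theorem injective_zero :
    Function.Injective (HomologicalComplex.homologyMap T.f 0).hom := by
  have := hT.mono_f
  rw [injective_iff_map_eq_zero]
  intro c hc
  obtain ⟨x, hx, rfl⟩ := classOf_surjective 0 c
  rw [classOf_map] at hc
  rw [classOf_zero_eq_zero_iff] at hc ⊢
  exact (injective_iff_map_eq_zero (T.f.f 0).hom).1
    ((ModuleCat.mono_iff_injective _).1 inferInstance) x hc

end general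

variable (a : Ideal R) (b : R) {M : ModuleCat.{u} R} [IsNoetherianRing R]
variable (K : InjectiveResolution M)

/-- The short complex of `Γ` complexes. -/
noncomputable def locSeq : ShortComplex (CochainComplex (ModuleCat.{u} R) ℕ) :=
  ShortComplex.mk (gammaComplexLE (le_sup_left : a ≤ a ⊔ Ideal.span {b}) K)
    (((DRing.gammaI a).mapHomologicalComplex _).map (locHom b K).hom)
    (HomologicalComplex.hom_ext _ _ fun n => ModuleCat.hom_ext (LinearMap.ext fun x => Subtype.ext (by
      obtain ⟨k, hk⟩ := x.2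
      show LocalizedModule.mkLinearMap (Submonoid.powers b) (K.cocomplex.X n) x.1 = 0
      exact (IsLocalizedModule.eq_zero_iff (Submonoid.powers b) _).2 ⟨⟨b ^ k, k, rfl⟩,
        hk _ (Ideal.pow_mem_pow (Ideal.mem_sup_right (Ideal.mem_span_singleton_self b)) k)⟩)))

theorem mem_torsionSub_span_singleton_iff {N : Type u} [AddCommGroup N] [Module R N] (x : N) :
    x ∈ DRing.torsionSub (Ideal.span {b}) N ↔ ∃ n : ℕ, b ^ n • x = 0 := by
  constructor
  · rintro ⟨n, hn⟩
    exact ⟨n, hn _ (Ideal.pow_mem_pow (Ideal.mem_span_singleton_self b) n)⟩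
  · rintro ⟨n, hn⟩
    refine ⟨n, fun r hr => ?_⟩
    rw [Ideal.span_singleton_pow, Ideal.mem_span_singleton] at hr
    obtain ⟨c, rfl⟩ := hr
    rw [mul_comm, mul_smul, hn, smul_zero]

theorem locSeq_shortExact : (locSeq a b K).ShortExact := by
  refine HomologicalComplex.shortExact_of_degreewise_shortExact _ fun n => ?_
  refine
    { exact := (ShortComplex.moduleCat_exact_iff _).2 fun x hx => ?_
      mono_f := (ModuleCat.mono_iff_injective _).2 (gammaLE_injective (le_sup_left : a ≤ a ⊔ Ideal.span {b}) _)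
      epi_g := (ModuleCat.epi_iff_surjective _).2 fun y => ?_ }
  · have hx' : LocalizedModule.mkLinearMap (Submonoid.powers b) (K.cocomplex.X n) x.1 = 0 :=
      congrArg Subtype.val hx
    obtain ⟨⟨_, k, rfl⟩, hk⟩ := (IsLocalizedModule.eq_zero_iff (Submonoid.powers b) _).1 hx'
    exact ⟨⟨x.1, (mem_torsionSub_sup_iff a (Ideal.span {b}) x.1).2
      ⟨x.2, (mem_torsionSub_span_singleton_iff b x.1).2 ⟨k, hk⟩⟩⟩, rfl⟩
  · obtain ⟨σ, hσ, -⟩ := exists_section b (K.cocomplex.X n)
    exact ⟨⟨σ y.1, DRing.map_mem_torsionSub a σ y.2⟩, Subtype.ext (LinearMap.congr_fun hσ y.1)⟩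

variable (M)

/-- The localisation map on local cohomology. -/
noncomputable abbrev locMap (i : ℕ) :
    (localCohomology a i).obj M ⟶
      (localCohomology a i).obj ((locFun (Submonoid.powers b)).obj M) :=
  (localCohomology a i).map ((locUnit (Submonoid.powers b)).app M)

/-- The connecting map. -/
noncomputable def locδ (i : ℕ) :
    (localCohomology a i).obj ((locFun (Submonoid.powers b)).obj M) →ₗ[R]
      (localCohomology (a ⊔ Ideal.span {b}) (i + 1)).obj M :=
  (homologyEquiv _ (injectiveResolution M) (i + 1)).toLinearMap ∘ₗ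
    ((locSeq_shortExact a b (injectiveResolution M)).δ i (i + 1) rfl).hom ∘ₗ
    (homologyEquiv a (locResolution b (injectiveResolution M)) i).symm.toLinearMap

theorem locδ_homologyEquiv (i : ℕ)
    (d : (gammaComplex a (locResolution b (injectiveResolution M))).homology i) :
    locδ a b M i (homologyEquiv a (locResolution b (injectiveResolution M)) i d) =
      homologyEquiv _ (injectiveResolution M) (i + 1)
        ((locSeq_shortExact a b (injectiveResolution M)).δ i (i + 1) rfl d) :=
  congrArg (fun t => homologyEquiv _ (injectiveResolution M) (i + 1)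
    ((locSeq_shortExact a b (injectiveResolution M)).δ i (i + 1) rfl t))
    ((homologyEquiv a (locResolution b (injectiveResolution M)) i).symm_apply_apply d)

theorem exact_hmap_locMap (i : ℕ) :
    Function.Exact (hmap (le_sup_left : a ≤ a ⊔ Ideal.span {b}) i M).hom (locMap a b M i).hom := by
  intro y
  let K := injectiveResolution M
  obtain ⟨c, rfl⟩ := (homologyEquiv a K i).surjective y
  have h := exact_of_shortExact (locSeq_shortExact a b K) i c
  constructor
  · intro hc
    obtain ⟨d, rfl⟩ := h.1 ((homologyEquiv a (locResolution b K) i).map_eq_zero_iff.1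
      ((homologyEquiv_naturality a K (locHom b K) i c).trans hc))
    exact ⟨homologyEquiv _ K i d, (homologyEquiv_le le_sup_left K i d).symm⟩
  · rintro ⟨z, hz⟩
    obtain ⟨d, rfl⟩ := (homologyEquiv _ K i).surjective z
    have hd : c = HomologicalComplex.homologyMap (locSeq a b K).f i d :=
      (homologyEquiv a K i).injective (hz.symm.trans (homologyEquiv_le le_sup_left K i d).symm)
    exact ((homologyEquiv_naturality a K (locHom b K) i c).symm).trans
      ((congrArg _ (h.2 ⟨d, hd.symm⟩)).trans (map_zero _))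

theorem exact_locMap_locδ (i : ℕ) :
    Function.Exact (locMap a b M i).hom (locδ a b M i) := by
  intro y
  let K := injectiveResolution M
  obtain ⟨c, rfl⟩ := (homologyEquiv a (locResolution b K) i).surjective y
  have h := exact_map_δ (locSeq_shortExact a b K) i c
  rw [locδ_homologyEquiv, LinearEquiv.map_eq_zero_iff]
  constructor
  · intro hc
    obtain ⟨d, rfl⟩ := h.1 hc
    exact ⟨homologyEquiv a K i d, (homologyEquiv_naturality a K (locHom b K) i d).symm⟩
  · rintro ⟨z, hz⟩
    obtain ⟨d, rfl⟩ := (homologyEquiv a K i).surjective z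
    exact h.2 ⟨d, (homologyEquiv a (locResolution b K) i).injective
      ((homologyEquiv_naturality a K (locHom b K) i d).trans hz)⟩

theorem exact_locδ_hmap (i : ℕ) :
    Function.Exact (locδ a b M i)
      (hmap (le_sup_left : a ≤ a ⊔ Ideal.span {b}) (i + 1) M).hom := by
  intro y
  let K := injectiveResolution M
  obtain ⟨c, rfl⟩ := (homologyEquiv _ K (i + 1)).surjective y
  have h := exact_δ_map (locSeq_shortExact a b K) i c
  constructor
  · intro hc
    obtain ⟨d, hd⟩ := h.1 ((homologyEquiv a K (i + 1)).map_eq_zero_iff.1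
      ((homologyEquiv_le le_sup_left K (i + 1) c).trans hc))
    refine ⟨homologyEquiv a (locResolution b K) i d, ?_⟩
    rw [locδ_homologyEquiv]
    exact congrArg _ hd
  · rintro ⟨z, hz⟩
    obtain ⟨d, rfl⟩ := (homologyEquiv a (locResolution b K) i).surjective z
    rw [locδ_homologyEquiv] at hz
    exact ((homologyEquiv_le le_sup_left K (i + 1) c).symm).trans
      ((congrArg _ (h.2 ⟨d, (homologyEquiv _ K (i + 1)).injective hz⟩)).trans (map_zero _))

theorem injective_hmap_zero :
    Function.Injective (hmap (le_sup_left : a ≤ a ⊔ Ideal.span {b}) 0 M).hom := by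
  rw [injective_iff_map_eq_zero]
  intro y hy
  obtain ⟨c, rfl⟩ := (homologyEquiv _ (injectiveResolution M) 0).surjective y
  rw [LinearEquiv.map_eq_zero_iff]
  exact (injective_iff_map_eq_zero _).1 (injective_zero (locSeq_shortExact a b (injectiveResolution M))) c
    ((homologyEquiv a _ 0).map_eq_zero_iff.1 ((homologyEquiv_le le_sup_left _ 0 c).trans hy))

omit [IsNoetherianRing R] in
theorem smul_bijective_locFun : Function.Bijective
    fun x : (locFun (Submonoid.powers b)).obj M => b • x := by
  have h := IsLocalizedModule.map_units (LocalizedModule.mkLinearMap (Submonoid.powers b) M)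
    (⟨b, Submonoid.mem_powers b⟩ : Submonoid.powers b)
  exact (Module.End.isUnit_iff _).1 h

/-- The image of `H^i_{a+(b)}(M) → H^i_a(M)` is the `b`-power torsion. -/
theorem mem_range_hmap_iff (i : ℕ) (x : (localCohomology a i).obj M) :
    x ∈ LinearMap.range (hmap (le_sup_left : a ≤ a ⊔ Ideal.span {b}) i M).hom ↔
      ∃ n : ℕ, b ^ n • x = 0 := by
  constructor
  · rintro ⟨z, rfl⟩
    obtain ⟨n, hn⟩ := isPowerTorsion _ i M z
    exact ⟨n, by rw [← map_smul, hn _ (Ideal.pow_mem_pow
      (Ideal.mem_sup_right (Ideal.mem_span_singleton_self b)) n), map_zero]⟩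
  · rintro ⟨n, hn⟩
    refine (exact_hmap_locMap a b M i x).1 ?_
    let N := (locFun (Submonoid.powers b)).obj M
    let y : (localCohomology a i).obj N := locMap a b M i x
    have hy : b ^ n • y = 0 := by
      show b ^ n • (locMap a b M i).hom x = 0
      rw [← map_smul, hn, map_zero]
    obtain ⟨hinj, hsurj⟩ := smul_bijective_locFun b M
    let e : (N : Type u) ≃ₗ[R] N :=
      LinearEquiv.ofBijective (b • LinearMap.id) ⟨hinj, hsurj⟩
    have hb : ∀ z : (localCohomology a i).obj N, b • z = 0 → z = 0 := fun z hz => by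
      have h1 : (localCohomology a i).map (b • 𝟙 N) z = 0 := by
        rw [map_smul_apply, map_id_apply, hz]
      have h2 : (b • 𝟙 N) ≫ ModuleCat.ofHom e.symm.toLinearMap = 𝟙 N :=
        ModuleCat.hom_ext (LinearMap.ext fun w => e.symm_apply_apply w)
      rw [← map_id_apply a i z, ← h2, map_comp_apply, h1, map_zero]
    suffices ∀ k, b ^ k • y = 0 → y = 0 from this n hy
    intro k
    induction k with
    | zero => intro h; rwa [pow_zero, one_smul] at h
    | succ k ih => intro h; exact ih (hb _ (by rw [smul_smul, ← pow_succ']; exact h))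

theorem smul_bijective_H_locFun (i : ℕ) : Function.Bijective
    fun z : (localCohomology a i).obj ((locFun (Submonoid.powers b)).obj M) => b • z := by
  obtain ⟨hinj, hsurj⟩ := smul_bijective_locFun b M
  let N := (locFun (Submonoid.powers b)).obj M
  let e : (N : Type u) ≃ₗ[R] N := LinearEquiv.ofBijective (b • LinearMap.id) ⟨hinj, hsurj⟩
  let E : N ≅ N := e.toModuleIso
  have hE : ∀ z, ((localCohomology a i).mapIso E).hom z = b • z := fun z =>
    (map_smul_apply a i b (𝟙 N) z).trans (congrArg (b • ·) (map_id_apply a i z))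
  have hb := ((localCohomology a i).mapIso E).toLinearEquiv.bijective
  exact (funext hE : (fun z => ((localCohomology a i).mapIso E).hom z) = fun z => b • z) ▸ hb

theorem isLocalizedModule_locMap (i : ℕ) :
    IsLocalizedModule (Submonoid.powers b) (locMap a b M i).hom := by
  refine ⟨?_, fun y => ?_, fun {x₁ x₂} h => ?_⟩
  · rintro ⟨_, n, rfl⟩
    rw [Module.End.isUnit_iff]
    have : ∀ k : ℕ, Function.Bijective
        fun z : (localCohomology a i).obj ((locFun (Submonoid.powers b)).obj M) => b ^ k • z := by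
      intro k
      induction k with
      | zero => simp only [pow_zero, one_smul]; exact Function.bijective_id
      | succ k ih =>
        have := ih.comp (smul_bijective_H_locFun a b M i)
        simpa only [Function.comp_def, smul_smul, ← pow_succ] using this
    exact this n
  · obtain ⟨n, hn⟩ := isPowerTorsion _ (i + 1) M (locδ a b M i y)
    have h0 : locδ a b M i (b ^ n • y) = 0 := by
      rw [map_smul]
      exact hn _ (Ideal.pow_mem_pow (Ideal.mem_sup_right (Ideal.mem_span_singleton_self b)) n)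
    obtain ⟨x, hx⟩ := (exact_locMap_locδ a b M i _).1 h0
    exact ⟨⟨x, ⟨b ^ n, n, rfl⟩⟩, hx.symm⟩
  · have h0 : (locMap a b M i).hom (x₁ - x₂) = 0 := by rw [map_sub, h, sub_self]
    obtain ⟨n, hn⟩ := (mem_range_hmap_iff a b M i _).1 ((exact_hmap_locMap a b M i _).1 h0)
    refine ⟨⟨b ^ n, n, rfl⟩, ?_⟩
    rwa [smul_sub, sub_eq_zero] at hn

/-- The kernel of `H^(i+1)_{a+(b)} → H^(i+1)_a` is the cokernel of localisation. -/
noncomputable def cokerLocMapEquiv (i : ℕ) :
    ((localCohomology a i).obj ((locFun (Submonoid.powers b)).obj M) ⧸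
        LinearMap.range (locMap a b M i).hom) ≃ₗ[R]
      LinearMap.ker (hmap (le_sup_left : a ≤ a ⊔ Ideal.span {b}) (i + 1) M).hom :=
  (Submodule.quotEquivOfEq _ _ (LinearMap.exact_iff.1 (exact_locMap_locδ a b M i)).symm).trans
    ((locδ a b M i).quotKerEquivRange.trans
      (LinearEquiv.ofEq _ _ (LinearMap.exact_iff.1 (exact_locδ_hmap a b M i)).symm))

/-- The cokernel of localisation at `b` is `H^1_{(b)}`. -/
theorem nonempty_cokerLoc_equiv_H_one {N₀ : ModuleCat.{u} R} {N₁ : Type u} [AddCommGroup N₁]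
    [Module R N₁] (f : N₀ →ₗ[R] N₁) [IsLocalizedModule (Submonoid.powers b) f] :
    Nonempty ((N₁ ⧸ LinearMap.range f) ≃ₗ[R] LocCoh.H (Ideal.span {b}) 1 N₀) := by
  let f₀ := (LocalizedModule.mkLinearMap (Submonoid.powers b) N₀)
  let e₁ := IsLocalizedModule.linearEquiv (Submonoid.powers b) f f₀
  let step₁ : (N₁ ⧸ LinearMap.range f) ≃ₗ[R] (_ ⧸ LinearMap.range f₀) :=
    Submodule.Quotient.equiv _ _ e₁ (by
      refine (LinearMap.range_comp f e₁.toLinearMap).symm.trans (congrArg LinearMap.range ?_)
      exact LinearMap.ext fun x => IsLocalizedModule.linearEquiv_apply _ _ _ x)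
  have htop : ∀ (P : Type u) [AddCommGroup P] [Module R P],
      DRing.torsionSub (⊥ : Ideal R) P = ⊤ := fun P _ _ =>
    eq_top_iff.2 fun m _ => ⟨1, fun r hr => by
      rw [pow_one, Ideal.mem_bot] at hr; rw [hr, zero_smul]⟩
  let t : ∀ P : ModuleCat.{u} R, (P : Type u) ≃ₗ[R] (localCohomology (⊥ : Ideal R) 0).obj P :=
    fun P => (LinearEquiv.ofTop _ (htop P)).symm.trans (torsionEquiv ⊥ P)
  let step₂ : (LocalizedModule (Submonoid.powers b) N₀ ⧸ LinearMap.range f₀) ≃ₗ[R]
      (_ ⧸ LinearMap.range (locMap ⊥ b N₀ 0).hom) :=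
    Submodule.Quotient.equiv _ _ (t ((locFun (Submonoid.powers b)).obj N₀)) (by
      have hnat : ∀ x, t ((locFun (Submonoid.powers b)).obj N₀) (f₀ x) =
          (locMap ⊥ b N₀ 0).hom (t N₀ x) := fun x =>
        torsionEquiv_naturality (⊥ : Ideal R) N₀ ((locUnit (Submonoid.powers b)).app N₀)
          ((LinearEquiv.ofTop _ (htop N₀)).symm x)
      refine le_antisymm ?_ ?_
      · rintro _ ⟨_, ⟨x, rfl⟩, rfl⟩
        exact ⟨t N₀ x, (hnat x).symm⟩
      · rintro _ ⟨z, rfl⟩
        exact ⟨f₀ ((t N₀).symm z), ⟨_, rfl⟩,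
          (hnat _).trans (congrArg _ ((t N₀).apply_symm_apply z))⟩)
  have hs : Subsingleton ((localCohomology (⊥ : Ideal R) 1).obj N₀) :=
    cdLE_bot N₀ 1 Nat.one_pos
  let K := LinearMap.ker (hmap (le_sup_left : (⊥ : Ideal R) ≤ ⊥ ⊔ Ideal.span {b}) 1 N₀).hom
  have hK : K = ⊤ := eq_top_iff.2 fun x _ => LinearMap.mem_ker.2 (@Subsingleton.elim _ hs _ _)
  let e₂ : (localCohomology ((⊥ : Ideal R) ⊔ Ideal.span {b}) 1).obj N₀ ≃ₗ[R]
      LocCoh.H (Ideal.span {b}) 1 N₀ :=
    (eqToIso (congrArg (fun J => (localCohomology J 1).obj N₀)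
      (bot_sup_eq (Ideal.span {b})))).toLinearEquiv
  exact ⟨step₁.trans (step₂.trans ((cokerLocMapEquiv ⊥ b N₀ 0).trans
    ((LinearEquiv.ofTop K hK).trans e₂)))⟩

end GrothLib.LC
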