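import Groth.Agent.Lib.LC.Shift

/-! Local cohomology does not depend on the base ring. -/

universe u

open CategoryTheory

namespace GrothLib.LC

open CategoryTheory in
theorem subsingleton_restrictScalars_of_injective (R : Type u) [CommRing R] [IsNoetherianRing R] (R' : Type u) [CommRing R']
    [IsNoetherianRing R'] [Algebra R R'] (I : Ideal R) (E : Type u) [AddCommGroup E] [Module R' E]
    [Module R E] [IsScalarTower R R' E] [Module.Injective R' E] (i : ℕ) :
    Subsingleton ((localCohomology I (i + 1)).obj (ModuleCat.of R E)) := by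
  classical
  -- the torsion part
  let T' : Submodule R' E := DRing.torsionSub (I.map (algebraMap R R')) E
  have hTinj : Module.Injective R' T' := injective_torsionSub _ E
  obtain ⟨r₀, hr₀⟩ := Module.Injective.out T'.subtype T'.injective_subtype (LinearMap.id)
  let K : Submodule R' E := LinearMap.ker r₀
  have hsum : ∀ e : E, (e - (r₀ e : E)) ∈ K := fun e => by
    simp only [K, LinearMap.mem_ker, map_sub]
    exact sub_eq_zero.2 (hr₀ (r₀ e)).symm
  -- the torsion free part maps injectively to a product of localizations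
  obtain ⟨s, hs⟩ := IsNoetherian.noetherian I
  let L : s → Type u := fun a => LocalizedModule (Submonoid.powers (algebraMap R R' a.1)) E
  let φ : E →ₗ[R'] (∀ a : s, L a) := LinearMap.pi fun a => LocalizedModule.mkLinearMap _ E
  have hφ : Function.Injective (φ ∘ₗ K.subtype) := by
    rw [injective_iff_map_eq_zero]
    rintro ⟨k, hk⟩ h
    have hloc : ∀ a : s, ∃ n : ℕ, (algebraMap R R' a.1) ^ n • k = 0 := fun a => by
      obtain ⟨⟨c, n, rfl⟩, hc⟩ :=
        (IsLocalizedModule.eq_zero_iff (Submonoid.powers (algebraMap R R' a.1))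
          (LocalizedModule.mkLinearMap _ E)).1 (congrFun h a)
      exact ⟨n, hc⟩
    have hle : I.map (algebraMap R R') ≤ (Submodule.span R' {k}).annihilator.radical := by
      rw [← hs, Ideal.map_span, Ideal.span_le]
      rintro _ ⟨a, ha, rfl⟩
      obtain ⟨n, hn⟩ := hloc ⟨a, ha⟩
      exact ⟨n, (Submodule.mem_annihilator_span_singleton k _).2 hn⟩
    obtain ⟨n, hn⟩ := Ideal.exists_pow_le_of_le_radical_of_fg hle (IsNoetherian.noetherian _)
    have hkT : k ∈ T' := ⟨n, fun a ha => (Submodule.mem_annihilator_span_singleton k _).1 (hn ha)⟩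
    have h1 : r₀ k = ⟨k, hkT⟩ := hr₀ ⟨k, hkT⟩
    rw [LinearMap.mem_ker.1 hk] at h1
    exact Subtype.ext (congrArg Subtype.val h1).symm
  obtain ⟨g, hg⟩ := Module.Injective.out (φ ∘ₗ K.subtype) hφ K.subtype
  let P : Option s → ModuleCat.{u} R := fun o => o.elim (ModuleCat.of R T') (fun a => ModuleCat.of R (L a))
  let f : ∀ o, ModuleCat.of R E ⟶ P o := fun o => match o with
    | none => ModuleCat.ofHom (r₀.restrictScalars R)
    | some a => ModuleCat.ofHom
        ((LinearMap.proj a ∘ₗ φ ∘ₗ (LinearMap.id - T'.subtype ∘ₗ r₀)).restrictScalars R)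
  let h : ∀ o, P o ⟶ ModuleCat.of R E := fun o => match o with
    | none => ModuleCat.ofHom (T'.subtype.restrictScalars R)
    | some a => ModuleCat.ofHom ((g ∘ₗ LinearMap.single R' L a).restrictScalars R)
  refine subsingleton_of_sum_factor I Finset.univ P f h ?_ (i + 1) ?_
  · refine ModuleCat.hom_ext (LinearMap.ext fun e => ?_)
    rw [Fintype.sum_option, ModuleCat.hom_add, ModuleCat.hom_sum, LinearMap.add_apply,
      LinearMap.sum_apply]
    show (r₀ e : E) + ∑ a, g (Pi.single a (φ (e - (r₀ e : E)) a)) = e
    rw [← map_sum, Finset.univ_sum_single]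
    exact (congrArg ((r₀ e : E) + ·) (hg ⟨_, hsum e⟩)).trans (add_sub_cancel _ _)
  · rintro (_ | a) -
    · refine subsingleton_of_isPowerTorsion I i _ ?_
      rintro ⟨t, n, hn⟩
      refine ⟨n, fun a ha => Subtype.ext ?_⟩
      show a • t = 0
      rw [← algebraMap_smul R' a t]
      exact hn _ (by rw [← Ideal.map_pow]; exact Ideal.mem_map_of_mem _ ha)
    · refine subsingleton_of_smul_bijective I (a := a.1) (hs ▸ Submodule.subset_span a.2) ?_ _
      have hb := ((Module.End.isUnit_iff _).1 (IsLocalizedModule.map_units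
        (LocalizedModule.mkLinearMap (Submonoid.powers (algebraMap R R' a.1)) E)
        (⟨algebraMap R R' a.1, Submonoid.mem_powers _⟩ : Submonoid.powers (algebraMap R R' a.1))))
      exact (funext fun m => algebraMap_smul R' a.1 m : (fun m : L a => algebraMap R R' a.1 • m) = _) ▸ hb

variable {R : Type u} [CommRing R] {R' : Type u} [CommRing R'] [Algebra R R'] (I : Ideal R)

omit [Algebra R R'] in
theorem mem_torsionSub_iff (M : Type u) [AddCommGroup M] [Module R M] (m : M) :
    m ∈ DRing.torsionSub I M ↔ ∃ n : ℕ, I ^ n ≤ (Submodule.span R {m}).annihilator := by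
  simp only [SetLike.le_def, Submodule.mem_annihilator_span_singleton]
  rfl

theorem mem_torsionSub_map_iff (M : Type u) [AddCommGroup M] [Module R' M] [Module R M]
    [IsScalarTower R R' M] (m : M) :
    m ∈ DRing.torsionSub (I.map (algebraMap R R')) M ↔ m ∈ DRing.torsionSub I M := by
  constructor
  · rintro ⟨n, hn⟩
    refine ⟨n, fun a ha => ?_⟩
    rw [← algebraMap_smul R' a m]
    exact hn _ (by rw [← Ideal.map_pow]; exact Ideal.mem_map_of_mem _ ha)
  · rintro ⟨n, hn⟩
    refine ⟨n, fun a ha => ?_⟩
    rw [← Ideal.map_pow] at ha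
    have hle : Ideal.map (algebraMap R R') (I ^ n) ≤ (Submodule.span R' {m}).annihilator := by
      rw [Ideal.map_le_iff_le_comap]
      intro b hb
      rw [Ideal.mem_comap, Submodule.mem_annihilator_span_singleton, algebraMap_smul]
      exact hn b hb
    exact (Submodule.mem_annihilator_span_singleton m a).1 (hle ha)

omit I in
theorem exists_addEquiv_of_surjective {A' H' A H : Type u} [AddCommGroup A'] [AddCommGroup H']
    [AddCommGroup A] [AddCommGroup H] [Module R' A'] [Module R' H'] [Module R A] [Module R H]
    (q' : A' →ₗ[R'] H') (q : A →ₗ[R] H) (e : A' ≃+ A)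
    (he : ∀ (r : R) (a : A'), e (algebraMap R R' r • a) = r • e a)
    (hq' : Function.Surjective q') (hq : Function.Surjective q)
    (hker : ∀ a, q' a = 0 ↔ q (e a) = 0) :
    ∃ φ : H' ≃+ H, ∀ (r : R) (x : H'), φ (algebraMap R R' r • x) = r • φ x := by
  choose s hs using hq'
  have key : ∀ a, q (e (s (q' a))) = q (e a) := fun a => by
    rw [← sub_eq_zero, ← map_sub, ← map_sub, ← hker, map_sub, hs, sub_self]
  let f : H' →+ H :=
    AddMonoidHom.mk' (fun x => q (e (s x))) fun x y => by
      conv_lhs => rw [← hs x, ← hs y, ← map_add q', key, map_add, map_add]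
  have hf : Function.Bijective f := by
    constructor
    · rw [injective_iff_map_eq_zero]
      intro x hx
      rw [← hs x]
      exact (hker _).2 hx
    · intro y
      obtain ⟨a, rfl⟩ := hq y
      refine ⟨q' (e.symm a), ?_⟩
      show q (e (s (q' (e.symm a)))) = q a
      rw [key, e.apply_symm_apply]
  refine ⟨AddEquiv.ofBijective f hf, fun r x => ?_⟩
  show q (e (s (algebraMap R R' r • x))) = r • q (e (s x))
  rw [← map_smul q, ← he, ← key (algebraMap R R' r • s x), map_smul q', hs]

theorem exists_H_addEquiv_restrictScalars [IsNoetherianRing R] [IsNoetherianRing R'] (i : ℕ) :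
    ∀ (M : Type u) [AddCommGroup M] [Module R' M] [Module R M] [IsScalarTower R R' M],
      ∃ φ : (localCohomology (I.map (algebraMap R R')) i).obj (ModuleCat.of R' M) ≃+
          (localCohomology I i).obj (ModuleCat.of R M),
        ∀ (r : R) (x : (localCohomology (I.map (algebraMap R R')) i).obj (ModuleCat.of R' M)),
          φ (algebraMap R R' r • x) = r • φ x := by
  induction i using Nat.strong_induction_on with
  | _ i ih =>
  intro M _ _ _ _
  rcases i with - | i
  · let t' := torsionEquiv (I.map (algebraMap R R')) (ModuleCat.of R' M)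
    let t := torsionEquiv I (ModuleCat.of R M)
    let e : DRing.torsionSub (I.map (algebraMap R R')) M ≃+ DRing.torsionSub I M :=
      { toFun := fun m => ⟨m.1, (mem_torsionSub_map_iff I M m.1).1 m.2⟩
        invFun := fun m => ⟨m.1, (mem_torsionSub_map_iff I M m.1).2 m.2⟩
        left_inv := fun m => rfl
        right_inv := fun m => rfl
        map_add' := fun a b => rfl }
    refine ⟨t'.symm.toAddEquiv.trans (e.trans t.toAddEquiv), fun r x => ?_⟩
    show t (e (t'.symm (algebraMap R R' r • x))) = r • t (e (t'.symm x))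
    rw [map_smul, ← map_smul t]
    exact congrArg t (Subtype.ext (algebraMap_smul R' r (t'.symm x : M)))
  · obtain ⟨E, _, _, ι, hE, hι⟩ := GrothLib.InjMod.exists_embedding_injective (R := R') M
    letI : Module R E := Module.compHom E (algebraMap R R')
    haveI : IsScalarTower R R' E := ⟨fun r r' e => by
      rw [Algebra.smul_def, mul_smul]; rfl⟩
    let C := E ⧸ LinearMap.range ι
    have hS' : (ShortComplex.mk (X₁ := ModuleCat.of R' M) (X₂ := ModuleCat.of R' E)
        (X₃ := ModuleCat.of R' C) (ModuleCat.ofHom ι) (ModuleCat.ofHom (LinearMap.range ι).mkQ)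
        (ModuleCat.hom_ext (LinearMap.range_mkQ_comp ι))).ShortExact :=
      { exact := (ShortComplex.moduleCat_exact_iff _).2 fun x hx =>
          (Submodule.Quotient.mk_eq_zero _).1 hx
        mono_f := (ModuleCat.mono_iff_injective _).2 hι
        epi_g := (ModuleCat.epi_iff_surjective _).2 (Submodule.mkQ_surjective _) }
    have hS : (ShortComplex.mk (X₁ := ModuleCat.of R M) (X₂ := ModuleCat.of R E)
        (X₃ := ModuleCat.of R C) (ModuleCat.ofHom (ι.restrictScalars R))
        (ModuleCat.ofHom ((LinearMap.range ι).mkQ.restrictScalars R))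
        (ModuleCat.hom_ext (LinearMap.ext fun x =>
          LinearMap.congr_fun (LinearMap.range_mkQ_comp ι) x))).ShortExact :=
      { exact := (ShortComplex.moduleCat_exact_iff _).2 fun x hx =>
          (Submodule.Quotient.mk_eq_zero _).1 hx
        mono_f := (ModuleCat.mono_iff_injective _).2 hι
        epi_g := (ModuleCat.epi_iff_surjective _).2 (Submodule.mkQ_surjective _) }
    have : Injective (ModuleCat.of R' E) := Module.injective_object_of_injective_module R' E
    have hE' := fun j => subsingleton_of_injective (I.map (algebraMap R R')) (ModuleCat.of R' E) j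
    have hEr := fun j => subsingleton_restrictScalars_of_injective R R' I E j
    rcases i with - | i
    · let e : DRing.torsionSub (I.map (algebraMap R R')) C ≃+ DRing.torsionSub I C :=
        { toFun := fun m => ⟨m.1, (mem_torsionSub_map_iff I C m.1).1 m.2⟩
          invFun := fun m => ⟨m.1, (mem_torsionSub_map_iff I C m.1).2 m.2⟩
          left_inv := fun m => rfl
          right_inv := fun m => rfl
          map_add' := fun a b => rfl }
      refine exists_addEquiv_of_surjective (torsionδ (I.map (algebraMap R R')) hS') (torsionδ I hS) e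
        (fun r c => Subtype.ext (algebraMap_smul R' r (c : C)))
        (torsionδ_surjective _ hS' hE') (torsionδ_surjective _ hS hEr) (fun c => ?_)
      refine (mem_ker_torsionδ _ hS' c).trans (Iff.trans ?_ (mem_ker_torsionδ _ hS _).symm)
      exact ⟨fun ⟨x, hx, h⟩ => ⟨x, (mem_torsionSub_map_iff I E x).1 hx, h⟩,
        fun ⟨x, hx, h⟩ => ⟨x, (mem_torsionSub_map_iff I E x).2 hx, h⟩⟩
    · obtain ⟨φ, hφ⟩ := ih (i + 1) (Nat.lt_succ_self _) C
      let s' := shiftEquiv (I.map (algebraMap R R')) hS' hE' i
      let s := shiftEquiv I hS hEr i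
      refine ⟨s'.symm.toAddEquiv.trans (φ.trans s.toAddEquiv), fun r x => ?_⟩
      show s (φ (s'.symm (algebraMap R R' r • x))) = r • s (φ (s'.symm x))
      rw [map_smul, hφ, map_smul]

theorem subsingleton_map_iff [IsNoetherianRing R] [IsNoetherianRing R'] (i : ℕ)
    (M : Type u) [AddCommGroup M] [Module R' M] [Module R M] [IsScalarTower R R' M] :
    Subsingleton ((localCohomology (I.map (algebraMap R R')) i).obj (ModuleCat.of R' M)) ↔
      Subsingleton ((localCohomology I i).obj (ModuleCat.of R M)) := by
  obtain ⟨φ, -⟩ := exists_H_addEquiv_restrictScalars (R' := R') I i M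
  exact φ.toEquiv.subsingleton_congr

end GrothLib.LC
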