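import Groth.Agent.Lib.LC.Cd
import Groth.Agent.Lib.LC.BaseChange
import Mathlib.RingTheory.Ideal.AssociatedPrime.Finiteness
import Mathlib.RingTheory.KrullDimension.Module
import Mathlib.RingTheory.Localization.FractionRing

/-! Grothendieck vanishing. -/

universe u

open CategoryTheory Limits Opposite Abelian

namespace GrothLib.LC

theorem supportDim_lt_of_forall_length_lt {R : Type u} [CommRing R] {M : Type u} [AddCommGroup M]
    [Module R M] (i : ℕ) (h : ∀ l : LTSeries (Module.support R M), l.length < i) :
    Module.supportDim R M < (i : WithBot ℕ∞) := by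
  rcases i with - | j
  · have : IsEmpty (Module.support R M) := ⟨fun x => Nat.not_lt_zero _ (h (RelSeries.singleton _ x))⟩
    rw [Module.supportDim, Order.krullDim_eq_bot_iff.2 this]
    exact WithBot.bot_lt_coe _
  · refine lt_of_le_of_lt (iSup_le fun l => ?_ : Module.supportDim R M ≤ (j : WithBot ℕ∞)) ?_
    · exact_mod_cast Nat.lt_succ_iff.1 (h l)
    · exact_mod_cast Nat.lt_succ_self j

theorem length_lt_of_supportDim_lt {R : Type u} [CommRing R] {M : Type u} [AddCommGroup M]
    [Module R M] {i : ℕ} (h : Module.supportDim R M < (i : WithBot ℕ∞))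
    (l : LTSeries (Module.support R M)) : l.length < i := by
  have : ((l.length : ℕ) : WithBot ℕ∞) ≤ Module.supportDim R M := Order.LTSeries.length_le_krullDim l
  exact_mod_cast this.trans_lt h

theorem exists_map_finite {R : Type u} [CommRing R] [IsNoetherianRing R] (I : Ideal R)
    (M : ModuleCat.{u} R) (i : ℕ) (x : (localCohomology I i).obj M) :
    ∃ (N : Submodule R M), N.FG ∧ ∃ y, (localCohomology I i).map
      (ModuleCat.ofHom N.subtype : ModuleCat.of R N ⟶ M) y = x := by
  classical
  let A : Finset M →o Submodule R M :=
    ⟨fun s => Submodule.span R (s : Set M), fun s t h => Submodule.span_mono (Finset.coe_subset.2 h)⟩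
  obtain ⟨s, y, hy⟩ := exists_map_subtype I A
    (fun m => ⟨{m}, Submodule.subset_span (by simp)⟩) i x
  exact ⟨A s, ⟨s, rfl⟩, y, hy⟩

/-- Grothendieck vanishing: `H^i_I(M) = 0` for `i > dim Supp M`. -/
theorem subsingleton_of_supportDim_lt (i : ℕ) :
    ∀ (R : Type u) [CommRing R] [IsNoetherianRing R] (I : Ideal R) (M : Type u) [AddCommGroup M]
      [Module R M], Module.supportDim R M < (i : WithBot ℕ∞) →
      Subsingleton ((localCohomology I i).obj (ModuleCat.of R M)) := by
  induction i with
  | zero =>
    intro R _ _ I M _ _ h
    have hM : Subsingleton M := by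
      by_contra hne
      rw [not_subsingleton_iff_nontrivial] at hne
      obtain ⟨p, hp⟩ := Module.nonempty_support_of_nontrivial (R := R) (M := M)
      exact Nat.not_lt_zero _ (length_lt_of_supportDim_lt h (RelSeries.singleton _ ⟨p, hp⟩))
    exact (torsionEquiv I (ModuleCat.of R M)).symm.toEquiv.subsingleton
  | succ i ih =>
    -- the case of a domain
    have dom : ∀ (A : Type u) [CommRing A] [IsNoetherianRing A] [IsDomain A] (J : Ideal A),
        Module.supportDim A A < ((i + 1 : ℕ) : WithBot ℕ∞) →
        Subsingleton ((localCohomology J (i + 1)).obj (ModuleCat.of A A)) := by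
      intro A _ _ _ J hA
      by_cases hJ : J = ⊥
      · subst hJ
        exact cdLE_bot A (i + 1) (Nat.succ_pos i)
      obtain ⟨a, ha, ha0⟩ := Submodule.exists_mem_ne_zero_of_ne_bot hJ
      let ι : A →ₗ[A] FractionRing A := Algebra.linearMap A (FractionRing A)
      have hι : Function.Injective ι := IsFractionRing.injective A (FractionRing A)
      let C := FractionRing A ⧸ LinearMap.range ι
      have hS : (ShortComplex.mk (X₁ := ModuleCat.of A A) (X₂ := ModuleCat.of A (FractionRing A))
          (X₃ := ModuleCat.of A C) (ModuleCat.ofHom ι) (ModuleCat.ofHom (LinearMap.range ι).mkQ)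
          (ModuleCat.hom_ext (LinearMap.range_mkQ_comp ι))).ShortExact :=
        { exact := (ShortComplex.moduleCat_exact_iff _).2 fun x hx =>
            (Submodule.Quotient.mk_eq_zero _).1 hx
          mono_f := (ModuleCat.mono_iff_injective _).2 hι
          epi_g := (ModuleCat.epi_iff_surjective _).2 (Submodule.mkQ_surjective _) }
      have hu : algebraMap A (FractionRing A) a ≠ 0 := fun h => ha0 (hι (h.trans (map_zero ι).symm))
      have hb : Function.Bijective fun m : FractionRing A => a • m := by
        simp only [Algebra.smul_def]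
        exact ⟨mul_right_injective₀ hu, mul_left_surjective₀ hu⟩
      refine subsingleton₁ J hS i
        (subsingleton_of_smul_bijective J ha (M := ModuleCat.of A (FractionRing A)) hb (i + 1))
        (ih A J C (supportDim_lt_of_forall_length_lt i fun l => ?_))
      have hne : ∀ q : Module.support A C, q.1.asIdeal ≠ ⊥ := by
        rintro ⟨q, hq⟩ hbot
        obtain ⟨m, hm⟩ := Module.mem_support_iff'.1 hq
        obtain ⟨z, rfl⟩ := Submodule.Quotient.mk_surjective _ m
        obtain ⟨⟨n, s⟩, hz⟩ := IsLocalization.surj (nonZeroDivisors A) z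
        refine hm s (fun hs => nonZeroDivisors.ne_zero s.2 ((Submodule.mem_bot A).1 (hbot ▸ hs))) ?_
        rw [← Submodule.Quotient.mk_smul, Submodule.Quotient.mk_eq_zero]
        exact ⟨n, by rw [Algebra.smul_def, mul_comm, hz]; rfl⟩
      let b : PrimeSpectrum A := ⟨⊥, Ideal.isPrime_bot⟩
      have hbs : b ∈ Module.support A A :=
        Module.mem_support_iff'.2 ⟨1, fun r hr e => hr (by rw [smul_eq_mul, mul_one] at e; simp [e])⟩
      have hsub : ∀ q : Module.support A C, q.1 ∈ Module.support A A := fun q =>
        Module.mem_support_iff'.2 ⟨1, fun r hr e => hr (by rw [smul_eq_mul, mul_one] at e; simp [e])⟩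
      let l' : LTSeries (Module.support A A) := l.map (fun q => ⟨q.1, hsub q⟩) fun _ _ h => h
      have hl' := length_lt_of_supportDim_lt hA (l'.cons ⟨b, hbs⟩
        (show (⟨b, hbs⟩ : Module.support A A) < l'.head from
          lt_of_le_of_ne (show b.asIdeal ≤ l'.head.1.asIdeal from bot_le)
            (fun e => hne l.head (congrArg (fun q : Module.support A A => q.1.asIdeal) e).symm)))
      simpa [l'] using hl'
    -- finite modules
    have fin : ∀ (R : Type u) [CommRing R] [IsNoetherianRing R] (I : Ideal R) (N : Type u)
        [AddCommGroup N] [Module R N] (_ : Module.Finite R N),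
        Module.supportDim R N < ((i + 1 : ℕ) : WithBot ℕ∞) →
        Subsingleton ((localCohomology I (i + 1)).obj (ModuleCat.of R N)) := by
      intro R _ _ I N _ _ hN
      induction hN using IsNoetherianRing.induction_on_isQuotientEquivQuotientPrime R with
      | subsingleton P =>
        intro _
        refine subsingleton_of_forall_eq 0 fun x => ?_
        have h0 : 𝟙 (ModuleCat.of R P) = 0 :=
          ModuleCat.hom_ext (LinearMap.ext fun _ => Subsingleton.elim _ _)
        rw [← map_id_apply I (i + 1) x, h0, map_zero_apply]
      | quotient P p e =>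
        intro hP
        have h1 : Subsingleton ((localCohomology (I.map (algebraMap R (R ⧸ p.1))) (i + 1)).obj
            (ModuleCat.of (R ⧸ p.1) (R ⧸ p.1))) := by
          apply dom
          rw [Module.supportDim_self_eq_ringKrullDim, ← Module.supportDim_quotient_eq_ringKrullDim,
            ← Module.supportDim_eq_of_equiv e]
          exact hP
        have h2 := (subsingleton_map_iff (R' := R ⧸ p.1) I (i + 1) (R ⧸ p.1)).1 h1
        exact ((localCohomology I (i + 1)).mapIso e.toModuleIso).toLinearEquiv.toEquiv.subsingleton
      | exact N₁ N₂ N₃ f g hf hg hfg h₁ h₃ =>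
        intro h2
        have hS : (ShortComplex.mk (X₁ := ModuleCat.of R N₁) (X₂ := ModuleCat.of R N₂)
            (X₃ := ModuleCat.of R N₃) (ModuleCat.ofHom f) (ModuleCat.ofHom g)
            (ModuleCat.hom_ext hfg.linearMap_comp_eq_zero)).ShortExact :=
          { exact := (ShortComplex.moduleCat_exact_iff _).2 fun x hx => (hfg x).1 hx
            mono_f := (ModuleCat.mono_iff_injective _).2 hf
            epi_g := (ModuleCat.epi_iff_surjective _).2 hg }
        exact subsingleton₂ I hS (i + 1)
          (h₁ ((Module.supportDim_le_of_injective f hf).trans_lt h2))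
          (h₃ ((Module.supportDim_le_of_surjective g hg).trans_lt h2))
    intro R _ _ I M _ _ hM
    refine subsingleton_of_forall_eq 0 fun x => ?_
    obtain ⟨N, hN, y, rfl⟩ := exists_map_finite I (ModuleCat.of R M) (i + 1) x
    have := fin R I N (Module.Finite.iff_fg.2 hN)
      ((Module.supportDim_le_of_injective N.subtype N.injective_subtype).trans_lt hM)
    rw [Subsingleton.elim y 0, map_zero]

end GrothLib.LC
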