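import Groth.Agent.Lib.LC.Artinian
import Groth.Agent.Lib.LC.Vanish
import Groth.Agent.Lib.LC.Acyclic
import Mathlib.RingTheory.Regular.Category
import Mathlib.RingTheory.Regular.IsSMulRegular
import Mathlib.RingTheory.KrullDimension.Regular

/-! Artinianness of local cohomology and Grothendieck non-vanishing. -/

universe u

open CategoryTheory Limits Opposite Abelian Pointwise

namespace GrothLib.LC

variable {R : Type u} [CommRing R] [IsNoetherianRing R] {M : Type u} [AddCommGroup M] [Module R M]

theorem exists_mem_isSMulRegular [Module.Finite R M] {I : Ideal R}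
    (h : DRing.torsionSub I M = ⊥) : ∃ x ∈ I, IsSMulRegular M x := by
  obtain ⟨x, hx, hx'⟩ := exists_mem_forall_notMem (associatedPrimes.finite R M)
    (fun P hP => IsAssociatedPrime.isPrime hP) (I := I) fun P hP hle => by
      obtain ⟨hprime, m, hm⟩ := isAssociatedPrime_iff.1 hP
      have hm' : m ∈ DRing.torsionSub I M := ⟨1, fun a ha => by
        rw [pow_one] at ha
        exact (Submodule.mem_bot R).1 (Submodule.mem_colon_singleton.1 (hm ▸ hle ha))⟩
      rw [h, Submodule.mem_bot] at hm'
      refine hprime.ne_top ((Ideal.eq_top_iff_one _).2 (hm ▸ Submodule.mem_colon_singleton.2 ?_))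
      rw [hm', smul_zero]
      exact zero_mem _
  refine ⟨x, hx, ?_⟩
  by_contra hc
  have : x ∈ ⋃ p ∈ associatedPrimes R M, (p : Set R) := by
    rw [biUnion_associatedPrimes_eq_compl_regular]; exact hc
  obtain ⟨P, hP, hxP⟩ := Set.mem_iUnion₂.1 this
  exact hx' P hP hxP

omit [IsNoetherianRing R] in
theorem torsionSub_quotient_eq_bot (I : Ideal R) (hI : I.FG) :
    DRing.torsionSub I (M ⧸ DRing.torsionSub I M) = ⊥ := by
  refine eq_bot_iff.2 fun z hz => ?_
  obtain ⟨m, rfl⟩ := Submodule.Quotient.mk_surjective _ z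
  obtain ⟨n, hn⟩ := hz
  rw [Submodule.mem_bot, Submodule.Quotient.mk_eq_zero]
  have hle : I ^ n ≤ ((DRing.torsionSub I M).comap (LinearMap.toSpanSingleton R M m)) :=
    fun a ha => by
      have := hn a ha
      rw [← Submodule.Quotient.mk_smul, Submodule.Quotient.mk_eq_zero] at this
      exact this
  obtain ⟨s, hs⟩ := Ideal.FG.pow (n := n) hI
  have hbound : ∀ a : R, a ∈ I ^ n → ∃ k, ∀ b ∈ I ^ k, b • a • m = 0 := fun a ha => hle ha
  choose! k hk using hbound
  refine ⟨s.sup k + n, fun a ha => ?_⟩
  rw [pow_add] at ha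
  refine Submodule.mul_induction_on ha (fun b hb c hc => ?_) fun u v hu hv => by
    rw [add_smul, hu, hv, add_zero]
  rw [mul_smul]
  rw [← hs] at hc
  induction hc using Submodule.span_induction with
  | mem y hy =>
    exact hk y (hs ▸ Ideal.subset_span hy) b
      (Ideal.pow_le_pow_right (Finset.le_sup (f := k) hy) hb)
  | zero => rw [zero_smul, smul_zero]
  | add y y' _ _ h h' => rw [add_smul, smul_add, h, h', add_zero]
  | smul r y _ h => rw [smul_assoc, smul_comm, h, smul_zero]

omit [IsNoetherianRing R] in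
theorem subsingleton_H_zero_of_torsionSub_eq_bot {I : Ideal R} (h : DRing.torsionSub I M = ⊥) :
    Subsingleton (LocCoh.H I 0 M) := by
  have : Subsingleton (DRing.torsionSub I M) := h ▸ inferInstance
  exact (torsionEquiv I (ModuleCat.of R M)).symm.toEquiv.subsingleton

/-- `H^i(M) ≅ H^i(M/Γ_I M)` for `i ≥ 1`. -/
noncomputable def quotTorsionEquiv (I : Ideal R) (M : Type u) [AddCommGroup M] [Module R M] (j : ℕ) :
    LocCoh.H I (j + 1) M ≃ₗ[R] LocCoh.H I (j + 1) (M ⧸ DRing.torsionSub I M) :=
  LinearEquiv.ofBijective _ (map_bijective_of_torsion I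
    (subQuot_shortExact (M := ModuleCat.of R M) (DRing.torsionSub I M))
    (isPowerTorsion_torsionSub I M) j)

omit [IsNoetherianRing R] in
theorem map_smulShortComplex_f (I : Ideal R) (x : R) (i : ℕ) (z : LocCoh.H I i M) :
    (localCohomology I i).map ((ModuleCat.of R M).smulShortComplex x).f z = x • z := by
  exact (map_smul_apply I i x (𝟙 (ModuleCat.of R M)) z).trans
    (congrArg (fun t => x • t) (map_id_apply I i z))

omit [IsNoetherianRing R] in
theorem smulSeq_shortExact {x : R} (hx : IsSMulRegular M x) :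
    ((ModuleCat.of R M).smulShortComplex x).ShortExact :=
  IsSMulRegular.smulShortComplex_shortExact (M := ModuleCat.of R M) hx

/-- If `x ∈ I` is `M`-regular and `H^j_I(M/xM)` is Artinian, so is `H^(j+1)_I(M)`. -/
theorem isArtinian_succ_of_regular {I : Ideal R} {x : R} (hxI : x ∈ I) (hx : IsSMulRegular M x)
    (j : ℕ) (h : IsArtinian R (LocCoh.H I j (QuotSMulTop x M))) :
    IsArtinian R (LocCoh.H I (j + 1) M) := by
  have hS := smulSeq_shortExact hx
  have : IsArtinian R ((localCohomology I j).obj ((ModuleCat.of R M).smulShortComplex x).X₃) := h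
  have : IsArtinian R
      (LinearMap.ker (x • LinearMap.id : LocCoh.H I (j + 1) M →ₗ[R] LocCoh.H I (j + 1) M)) := by
    refine isArtinian_of_surjective (M := ((localCohomology I j).obj
        ((ModuleCat.of R M).smulShortComplex x).X₃))
      (LinearMap.codRestrict _ (δ I hS j) fun z => ?_) fun y => ?_
    · exact LinearMap.mem_ker.2 ((map_smulShortComplex_f I x _ _).symm.trans (map_f_δ I hS j z))
    · obtain ⟨z, hz⟩ := exists_of_map_f_eq_zero I hS j (x := (y : LocCoh.H I (j + 1) M))
        ((map_smulShortComplex_f I x _ _).trans (LinearMap.mem_ker.1 y.2))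
      exact ⟨z, Subtype.ext hz⟩
  refine isArtinian_of_ker_smul x fun m => ?_
  obtain ⟨k, hk⟩ := isPowerTorsion I (j + 1) (ModuleCat.of R M) m
  exact ⟨k, hk _ (Ideal.pow_mem_pow hxI k)⟩

variable [IsLocalRing R]

theorem isArtinian_H_zero_maximal (M : Type u) [AddCommGroup M] [Module R M] [Module.Finite R M] :
    IsArtinian R (LocCoh.H (IsLocalRing.maximalIdeal R) 0 M) := by
  haveI : Module.Finite R (DRing.torsionSub (IsLocalRing.maximalIdeal R) M) :=
    Module.Finite.iff_fg.2 (IsNoetherian.noetherian _)
  obtain ⟨s, hs⟩ := (Module.Finite.fg_top : (⊤ : Submodule R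
    (DRing.torsionSub (IsLocalRing.maximalIdeal R) M)).FG)
  have htors := isPowerTorsion_torsionSub (IsLocalRing.maximalIdeal R) M
  choose k hk using htors
  have hN : ∀ a ∈ IsLocalRing.maximalIdeal R ^ (s.sup k),
      ∀ z : DRing.torsionSub (IsLocalRing.maximalIdeal R) M, a • z = 0 := by
    intro a ha z
    have hz : z ∈ Submodule.span R
        (s : Set (DRing.torsionSub (IsLocalRing.maximalIdeal R) M)) := hs ▸ Submodule.mem_top
    induction hz using Submodule.span_induction with
    | mem y hy => exact hk y a (Ideal.pow_le_pow_right (Finset.le_sup (f := k) hy) ha)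
    | zero => rw [smul_zero]
    | add y y' _ _ h h' => rw [smul_add, h, h', add_zero]
    | smul r y _ h => rw [smul_comm, h, smul_zero]
  haveI := (finite_iff_isArtinian_of_pow_smul (IsLocalRing.maximalIdeal R) hN).1 inferInstance
  exact isArtinian_of_linearEquiv
    (torsionEquiv (IsLocalRing.maximalIdeal R) (ModuleCat.of R M))

/-- `H^i_𝔪(M)` is Artinian for every finite module `M`. -/
theorem isArtinian_H_maximal (i : ℕ) :
    ∀ (M : Type u) [AddCommGroup M] [Module R M] [Module.Finite R M],
      IsArtinian R (LocCoh.H (IsLocalRing.maximalIdeal R) i M) := by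
  induction i with
  | zero => exact fun M => isArtinian_H_zero_maximal M
  | succ i ih =>
    intro M _ _ _
    let Q := M ⧸ DRing.torsionSub (IsLocalRing.maximalIdeal R) M
    obtain ⟨x, hx, hreg⟩ := exists_mem_isSMulRegular (M := Q) (I := IsLocalRing.maximalIdeal R)
      (torsionSub_quotient_eq_bot _ (IsNoetherian.noetherian _))
    haveI := isArtinian_succ_of_regular hx hreg i (ih (QuotSMulTop x Q))
    exact isArtinian_of_linearEquiv (quotTorsionEquiv (IsLocalRing.maximalIdeal R) M i).symm

theorem supportDim_quotSMulTop_add_one {M : Type u} [AddCommGroup M] [Module R M]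
    [Module.Finite R M] {x : R} (hx : x ∈ IsLocalRing.maximalIdeal R) (hreg : IsSMulRegular M x) :
    Module.supportDim R (QuotSMulTop x M) + 1 = Module.supportDim R M :=
  Module.supportDim_quotSMulTop_succ_eq_supportDim_mem_jacobson hreg
    ((IsLocalRing.maximalIdeal_le_jacobson _) hx)

theorem le_of_add_one_le_add_one {a : WithBot ℕ∞} {n : ℕ}
    (h : a + 1 ≤ ((n + 1 : ℕ) : WithBot ℕ∞)) : a ≤ (n : WithBot ℕ∞) := by
  induction a using WithBot.recBotCoe with
  | bot => exact bot_le
  | coe a =>
    have h' : a + 1 ≤ ((n + 1 : ℕ) : ℕ∞) := by exact_mod_cast h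
    induction a using ENat.recTopCoe with
    | top => simp at h'
    | coe a =>
      have : a + 1 ≤ n + 1 := by exact_mod_cast h'
      exact_mod_cast Nat.le_of_add_le_add_right this

/-- `H^n_I(M)` is Artinian if `dim Supp M ≤ n`. -/
theorem isArtinian_H_of_supportDim_le (I : Ideal R) (n : ℕ) :
    ∀ (M : Type u) [AddCommGroup M] [Module R M] [Module.Finite R M],
      Module.supportDim R M ≤ (n : WithBot ℕ∞) → IsArtinian R (LocCoh.H I n M) := by
  induction n with
  | zero =>
    intro M _ _ _ hM
    have htors : LocCoh.IsPowerTorsion (IsLocalRing.maximalIdeal R) M := fun m => by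
      have hle : IsLocalRing.maximalIdeal R ≤ (Submodule.span R {m}).annihilator.radical := by
        rw [Ideal.radical_eq_sInf]
        refine le_sInf fun P hP => ?_
        by_contra hne
        haveI := hP.2
        have hlt : P < IsLocalRing.maximalIdeal R :=
          lt_of_le_of_ne (IsLocalRing.le_maximalIdeal hP.2.ne_top) fun h => hne h.ge
        have hmP : (⟨P, hP.2⟩ : PrimeSpectrum R) ∈ Module.support R M :=
          Module.mem_support_iff'.2 ⟨m, fun r hr h0 =>
            hr (hP.1 ((Submodule.mem_annihilator_span_singleton m r).2 h0))⟩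
        have hmax : (⟨IsLocalRing.maximalIdeal R, inferInstance⟩ : PrimeSpectrum R) ∈
            Module.support R M := Module.mem_support_mono hlt.le hmP
        let l : LTSeries (Module.support R M) :=
          (RelSeries.singleton _ ⟨_, hmP⟩).snoc ⟨_, hmax⟩ (by exact hlt)
        have : ((l.length : ℕ) : WithBot ℕ∞) ≤ Module.supportDim R M :=
          Order.LTSeries.length_le_krullDim l
        have h01 : l.length ≤ 0 := by exact_mod_cast this.trans hM
        simp [l] at h01
      obtain ⟨k, hk⟩ := Ideal.exists_pow_le_of_le_radical_of_fg hle (IsNoetherian.noetherian _)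
      exact ⟨k, fun a ha => (Submodule.mem_annihilator_span_singleton m a).1 (hk ha)⟩
    have := isArtinian_H_zero_maximal (R := R) M
    haveI : IsArtinian R (DRing.torsionSub (IsLocalRing.maximalIdeal R) M) :=
      isArtinian_of_linearEquiv
        (torsionEquiv (IsLocalRing.maximalIdeal R) (ModuleCat.of R M)).symm
    rw [(torsionSub_eq_top_iff _).2 htors] at this
    haveI : IsArtinian R M := isArtinian_of_linearEquiv Submodule.topEquiv
    exact isArtinian_of_linearEquiv (torsionEquiv I (ModuleCat.of R M))
  | succ n ih =>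
    intro M _ _ _ hM
    let Q := M ⧸ DRing.torsionSub I M
    obtain ⟨x, hx, hreg⟩ := exists_mem_isSMulRegular (M := Q) (I := I)
      (torsionSub_quotient_eq_bot _ (IsNoetherian.noetherian _))
    haveI : IsArtinian R (LocCoh.H I (n + 1) Q) := by
      by_cases hI : I = ⊤
      · subst hI
        have : Subsingleton (LocCoh.H (⊤ : Ideal R) (n + 1) Q) := subsingleton_of_forall_eq 0 fun z => by
          obtain ⟨k, hk⟩ := isPowerTorsion (⊤ : Ideal R) (n + 1) (ModuleCat.of R Q) z
          simpa using hk 1 (by simp [Ideal.top_pow])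
        infer_instance
      refine isArtinian_succ_of_regular hx hreg n (ih _ ?_)
      have h1 := supportDim_quotSMulTop_add_one (M := Q) (IsLocalRing.le_maximalIdeal hI hx) hreg
      refine le_of_add_one_le_add_one ?_
      rw [h1]
      exact (Module.supportDim_le_of_surjective _ (Submodule.mkQ_surjective _)).trans hM
    exact isArtinian_of_linearEquiv (quotTorsionEquiv I M n).symm

theorem eq_natCast_of_add_one_eq {a : WithBot ℕ∞} {n : ℕ}
    (h : a + 1 = ((n + 1 : ℕ) : WithBot ℕ∞)) : a = (n : WithBot ℕ∞) := by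
  induction a using WithBot.recBotCoe with
  | bot =>
    rw [WithBot.bot_add] at h
    exact absurd h.symm (WithBot.natCast_ne_bot _)
  | coe a =>
    have h' : a + 1 = ((n + 1 : ℕ) : ℕ∞) := by exact_mod_cast h
    induction a using ENat.recTopCoe with
    | top => exact absurd ((top_add (1 : ℕ∞)).symm.trans h').symm (ENat.natCast_ne_top (n + 1))
    | coe a =>
      have : a + 1 = n + 1 := by exact_mod_cast h'
      simp [Nat.add_right_cancel this]

/-- Grothendieck non-vanishing. -/
theorem not_finite_and_nontrivial_H_maximal (n : ℕ) :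
    ∀ (M : Type u) [AddCommGroup M] [Module R M] [Module.Finite R M],
      Module.supportDim R M = (n : WithBot ℕ∞) →
      Nontrivial (LocCoh.H (IsLocalRing.maximalIdeal R) n M) ∧
        (0 < n → ¬ Module.Finite R (LocCoh.H (IsLocalRing.maximalIdeal R) n M)) := by
  set 𝔪 := IsLocalRing.maximalIdeal R
  induction n with
  | zero =>
    intro M _ _ _ hM
    refine ⟨?_, fun h => absurd h (lt_irrefl 0)⟩
    by_contra hs
    rw [not_nontrivial_iff_subsingleton] at hs
    have hbot : DRing.torsionSub 𝔪 M = ⊥ := by
      refine Submodule.eq_bot_iff _ |>.2 fun z hz => ?_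
      have := (torsionEquiv 𝔪 (ModuleCat.of R M)).injective
        (Subsingleton.elim ((torsionEquiv 𝔪 (ModuleCat.of R M)) ⟨z, hz⟩) (torsionEquiv 𝔪 _ 0))
      exact congrArg Subtype.val this
    obtain ⟨x, hx, hreg⟩ := exists_mem_isSMulRegular hbot
    haveI : Nontrivial M := (Module.supportDim_ne_bot_iff_nontrivial R M).1 (by simp [hM])
    have h1 := supportDim_quotSMulTop_add_one hx hreg
    have hne : Module.supportDim R (QuotSMulTop x M) ≠ ⊥ := fun hb => by
      rw [hb, hM, WithBot.bot_add] at h1
      exact absurd h1 (by simp)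
    rw [hM] at h1
    obtain ⟨b, hb⟩ := WithBot.ne_bot_iff_exists.1 hne
    rw [← hb] at h1
    have h2 : b + 1 = (0 : ℕ∞) := by exact_mod_cast h1
    exact one_ne_zero (add_eq_zero.1 h2).2
  | succ n ih =>
    intro M _ _ _ hM
    suffices hnf : ¬ Module.Finite R (LocCoh.H 𝔪 (n + 1) M) by
      refine ⟨?_, fun _ => hnf⟩
      by_contra hs
      rw [not_nontrivial_iff_subsingleton] at hs
      exact hnf inferInstance
    let Q := M ⧸ DRing.torsionSub 𝔪 M
    intro hfinM
    haveI hfin : Module.Finite R (LocCoh.H 𝔪 (n + 1) Q) :=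
      Module.Finite.equiv (quotTorsionEquiv 𝔪 M n)
    have hQ : Module.supportDim R Q = ((n + 1 : ℕ) : WithBot ℕ∞) := by
      refine le_antisymm ((Module.supportDim_le_of_surjective _
        (Submodule.mkQ_surjective _)).trans hM.le) ?_
      rw [← hM]
      by_contra hlt
      rw [not_le, hM] at hlt
      -- `Supp M = Supp Γ ∪ Supp Q`
      refine absurd hM (ne_of_lt ?_)
      refine supportDim_lt_of_forall_length_lt _ fun l => ?_
      by_contra hl
      rw [not_lt] at hl
      have hins : ∀ i : Fin l.length, (l i.castSucc).1 ∈ Module.support R Q := by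
        intro i
        obtain ⟨z, hz⟩ := Module.mem_support_iff'.1 (l i.castSucc).2
        refine Module.mem_support_iff'.2 ⟨Submodule.Quotient.mk z, fun r hr h0 => ?_⟩
        rw [← Submodule.Quotient.mk_smul, Submodule.Quotient.mk_eq_zero] at h0
        obtain ⟨k, hk⟩ := h0
        have hlt' : (l i.castSucc).1.asIdeal < 𝔪 :=
          lt_of_lt_of_le (show (l i.castSucc).1.asIdeal < (l i.succ).1.asIdeal from l.step i)
            (IsLocalRing.le_maximalIdeal (l i.succ).1.2.ne_top)
        obtain ⟨a, ha, ha'⟩ := Set.exists_of_ssubset hlt'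
        refine hz (a ^ k * r) (fun hmem => ?_) (by rw [mul_smul]; exact hk _ (Ideal.pow_mem_pow ha k))
        rcases (l i.castSucc).1.2.mem_or_mem hmem with h | h
        · exact ha' ((l i.castSucc).1.2.mem_of_pow_mem k h)
        · exact hr h
      have hlast : (l (Fin.last _)).1 ∈ Module.support R Q := by
        have hpos : 0 < l.length := lt_of_lt_of_le n.succ_pos hl
        have h0 := hins ⟨l.length - 1, by omega⟩
        exact Module.mem_support_mono (l.monotone (Fin.le_last _)) h0
      let l' : LTSeries (Module.support R Q) :=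
        { length := l.length
          toFun := fun i => ⟨(l i).1, i.lastCases hlast hins⟩
          step := fun i => l.step i }
      exact absurd (length_lt_of_supportDim_lt hlt l') (not_lt.2 hl)
    have hbot := torsionSub_quotient_eq_bot (M := M) 𝔪 (IsNoetherian.noetherian _)
    haveI : Nontrivial Q := (Module.supportDim_ne_bot_iff_nontrivial R Q).1 (by simp [hQ])
    haveI : IsArtinian R (LocCoh.H 𝔪 n Q) := isArtinian_H_maximal n Q
    obtain ⟨S, hS, hS'⟩ := exists_finset_pow_smul_le (R := R) (M := LocCoh.H 𝔪 n Q)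
    obtain ⟨x, hx, hxA⟩ := exists_mem_forall_notMem
      (S := associatedPrimes R Q ∪ (S : Set (Ideal R)))
      ((associatedPrimes.finite R Q).union S.finite_toSet)
      (fun P hP => hP.elim (fun h => IsAssociatedPrime.isPrime h) fun h => (hS P h).1) (I := 𝔪)
      (by
        rintro P (hP | hP) hle
        · obtain ⟨hprime, m, hm⟩ := isAssociatedPrime_iff.1 hP
          have hm' : m ∈ DRing.torsionSub 𝔪 Q := ⟨1, fun a ha => by
            rw [pow_one] at ha
            exact (Submodule.mem_bot R).1 (Submodule.mem_colon_singleton.1 (hm ▸ hle ha))⟩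
          rw [hbot, Submodule.mem_bot] at hm'
          refine hprime.ne_top ((Ideal.eq_top_iff_one _).2
            (hm ▸ Submodule.mem_colon_singleton.2 ?_))
          rw [hm', smul_zero]
          exact zero_mem _
        · exact (hS P hP).2
            (le_antisymm (IsLocalRing.le_maximalIdeal (hS P hP).1.ne_top) hle))
    have hreg : IsSMulRegular Q x := by
      by_contra hc
      have : x ∈ ⋃ p ∈ associatedPrimes R Q, (p : Set R) := by
        rw [biUnion_associatedPrimes_eq_compl_regular]; exact hc
      obtain ⟨P, hP, hxP⟩ := Set.mem_iUnion₂.1 this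
      exact hxA P (Or.inl hP) hxP
    obtain ⟨N, hN⟩ := hS' x fun P hP => hxA P (Or.inr hP)
    have hY : Module.supportDim R (QuotSMulTop x Q) = (n : WithBot ℕ∞) :=
      eq_natCast_of_add_one_eq ((supportDim_quotSMulTop_add_one hx hreg).trans hQ)
    obtain ⟨hnt, hnfin⟩ := ih (QuotSMulTop x Q) hY
    have hSE := smulSeq_shortExact hreg
    have hvan : Subsingleton (LocCoh.H 𝔪 (n + 1) (QuotSMulTop x Q)) :=
      subsingleton_of_supportDim_lt (n + 1) R 𝔪 (QuotSMulTop x Q)
        (hY ▸ by exact_mod_cast n.lt_succ_self)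
    -- `x` is surjective on `H^(n+1)`, hence it vanishes by Nakayama
    have hzero : Subsingleton (LocCoh.H 𝔪 (n + 1) Q) := by
      have htop : (⊤ : Submodule R (LocCoh.H 𝔪 (n + 1) Q)) ≤ 𝔪 • ⊤ := fun z _ => by
        obtain ⟨w, hw⟩ := exists_of_map_g_eq_zero 𝔪 hSE (n + 1) (x := z) (@Subsingleton.elim _ hvan _ _)
        rw [← hw]
        exact (map_smulShortComplex_f 𝔪 x _ w).symm ▸
          Submodule.smul_mem_smul hx Submodule.mem_top
      have := Submodule.eq_bot_of_le_smul_of_le_jacobson_bot 𝔪 ⊤ Module.Finite.fg_top htop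
        (IsLocalRing.maximalIdeal_le_jacobson _)
      exact Submodule.subsingleton_iff R |>.1 (subsingleton_of_bot_eq_top this.symm)
    -- hence `H^n(Q) → H^n(Q/xQ)` is surjective, with kernel containing `x H^n(Q)`
    let g : LocCoh.H 𝔪 n Q →ₗ[R] LocCoh.H 𝔪 n (QuotSMulTop x Q) :=
      ((localCohomology 𝔪 n).map ((ModuleCat.of R Q).smulShortComplex x).g).hom
    have hgsurj : Function.Surjective g := fun y =>
      exists_of_δ_eq_zero 𝔪 hSE n (x := y) (@Subsingleton.elim _ hzero _ _)
    rcases Nat.eq_zero_or_pos n with h0 | hpos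
    · subst h0
      have := subsingleton_H_zero_of_torsionSub_eq_bot hbot
      have hs := hgsurj.subsingleton
      exact not_nontrivial_iff_subsingleton.2 hs hnt
    · have hkill : ∀ a ∈ 𝔪 ^ N, ∀ y : LocCoh.H 𝔪 n (QuotSMulTop x Q), a • y = 0 := by
        intro a ha y
        obtain ⟨z, rfl⟩ := hgsurj y
        obtain ⟨w, -, hw⟩ := (Submodule.mem_smul_pointwise_iff_exists _ _ _).1
          (hN (Submodule.smul_mem_smul ha (Submodule.mem_top (x := z))))
        rw [← map_smul, ← hw, ← map_smulShortComplex_f 𝔪 x n w]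
        exact map_g_map_f 𝔪 (S := (ModuleCat.of R Q).smulShortComplex x) n w
      exact hnfin hpos ((finite_iff_isArtinian_of_pow_smul 𝔪 hkill).2
        (isArtinian_H_maximal n (QuotSMulTop x Q)))

end GrothLib.LC
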