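import Groth.Agent.Lib.LC.ChangeSeq
import Groth.Agent.Lib.LC.FlatBC
import Mathlib.RingTheory.Ideal.MinimalPrime.Localization
import Mathlib.RingTheory.Ideal.MinimalPrime.Noetherian

/-! Comparison maps and punctual local cohomology. -/

universe u

open CategoryTheory Limits Opposite Abelian

namespace GrothLib.LC

variable {R : Type u} [CommRing R]

theorem hmap_refl (I : Ideal R) (i : ℕ) (M : ModuleCat.{u} R) (x : (localCohomology I i).obj M) :
    hmap (le_refl I) i M x = x := by
  obtain ⟨n, e, rfl⟩ := exists_toH I x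
  rw [hmap_toH, show quotLE (le_refl I) n = 𝟙 _ from hom_ext_oneQ I _ rfl, Ext.mk₀_id_comp]

theorem hmap_hmap {I I' I'' : Ideal R} (h : I ≤ I') (h' : I' ≤ I'') (i : ℕ) (M : ModuleCat.{u} R)
    (x : (localCohomology I'' i).obj M) :
    hmap h i M (hmap h' i M x) = hmap (h.trans h') i M x := by
  obtain ⟨n, e, rfl⟩ := exists_toH I'' x
  rw [hmap_toH, hmap_toH, hmap_toH, ← Ext.comp_assoc_of_second_deg_zero, Ext.mk₀_comp_mk₀]
  congr 3
  exact hom_ext_oneQ I _ rfl

theorem subsingleton_H_zero_ideal_top (i : ℕ) (M : ModuleCat.{u} R) :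
    Subsingleton ((localCohomology (⊤ : Ideal R) i).obj M) := subsingleton_of_forall_eq 0 fun z => by
  obtain ⟨k, hk⟩ := isPowerTorsion (⊤ : Ideal R) i M z
  simpa using hk 1 (by simp [Ideal.top_pow])

variable [IsNoetherianRing R]

/-- `H^i_{pR_p}(M_p) = 0` at a minimal prime `p` of `I` means that every class is killed outside `p`. -/
theorem exists_smul_eq_zero (I : Ideal R) (p : Ideal R) [p.IsPrime] (hp : p ∈ I.minimalPrimes)
    (i : ℕ) (M : ModuleCat.{u} R)
    (hM : Subsingleton (LocCoh.H (IsLocalRing.maximalIdeal (Localization.AtPrime p)) i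
      (LocalizedModule p.primeCompl M))) (x : (localCohomology I i).obj M) :
    ∃ s ∉ p, s • x = 0 := by
  let A := Localization.AtPrime p
  obtain ⟨e⟩ := nonempty_baseChange_equiv (R' := A) I i M
  have hrad : (I.map (algebraMap R A)).radical = (IsLocalRing.maximalIdeal A).radical := by
    rw [IsLocalization.AtPrime.radical_map_of_mem_minimalPrimes (A := A) p I hp,
      (IsLocalRing.maximalIdeal.isMaximal A).isPrime.radical,
      Localization.AtPrime.map_eq_maximalIdeal]
  let e₁ := ((localCohomology.isoOfSameRadical hrad i).app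
    (ModuleCat.of A (TensorProduct R A M))).toLinearEquiv
  let e₂ := ((localCohomology (IsLocalRing.maximalIdeal A) i).mapIso
    (IsBaseChange.equiv ((isLocalizedModule_iff_isBaseChange p.primeCompl A
      (LocalizedModule.mkLinearMap p.primeCompl M)).1 inferInstance)).toModuleIso).toLinearEquiv
  haveI := hM
  haveI hT : Subsingleton (TensorProduct R A ((localCohomology I i).obj M)) :=
    ((e.trans e₁).trans e₂).toEquiv.subsingleton
  have h0 : (TensorProduct.mk R A ((localCohomology I i).obj M) 1) x = 0 := Subsingleton.elim _ _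
  have hloc : IsLocalizedModule p.primeCompl (TensorProduct.mk R A ((localCohomology I i).obj M) 1) :=
    (isLocalizedModule_iff_isBaseChange p.primeCompl A _).2 (TensorProduct.isBaseChange R _ A)
  obtain ⟨⟨s, hs⟩, h⟩ := (IsLocalizedModule.eq_zero_iff p.primeCompl
    (TensorProduct.mk R A ((localCohomology I i).obj M) 1)).1 h0
  exact ⟨s, hs, h⟩

theorem locMap_hmap {I I' : Ideal R} (h : I ≤ I') (b : R) (i : ℕ) (M : ModuleCat.{u} R)
    (x : (localCohomology I' i).obj M) :
    (locMap I b M i).hom (hmap h i M x) =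
      hmap h i ((locFun (Submonoid.powers b)).obj M) ((locMap I' b M i).hom x) :=
  (hmap_naturality h i ((locUnit (Submonoid.powers b)).app M) x).symm

/-- `H^i_I(M_b) = 0` when the punctual local cohomology vanishes on `V(I) ∩ D(b)`. -/
theorem subsingleton_H_locFun (b : R) (i : ℕ) (M : ModuleCat.{u} R) : ∀ I : Ideal R,
    (∀ p : PrimeSpectrum R, I ≤ p.asIdeal → b ∉ p.asIdeal →
      Subsingleton (LocCoh.H (IsLocalRing.maximalIdeal (Localization.AtPrime p.asIdeal)) i
        (LocalizedModule p.asIdeal.primeCompl M))) →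
    Subsingleton ((localCohomology I i).obj ((locFun (Submonoid.powers b)).obj M)) := by
  intro I
  induction I using WellFoundedGT.induction with
  | ind I ih =>
  intro hI
  have hloc := isLocalizedModule_locMap I b M i
  suffices h : ∀ x, (locMap I b M i).hom x = 0 by
    refine subsingleton_of_forall_eq 0 fun y => ?_
    obtain ⟨⟨x, s⟩, hs⟩ := IsLocalizedModule.surj (Submonoid.powers b) (locMap I b M i).hom y
    rw [h] at hs
    have h0 : s • y = s • (0 : (localCohomology I i).obj ((locFun (Submonoid.powers b)).obj M)) := by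
      rw [smul_zero]; exact hs
    exact ((Module.End.isUnit_iff _).1 (IsLocalizedModule.map_units (locMap I b M i).hom s)).1 h0
  intro x
  by_cases hb : b ∈ I.radical
  · obtain ⟨k, hk⟩ := hb
    obtain ⟨n, hn⟩ := isPowerTorsion I i ((locFun (Submonoid.powers b)).obj M) ((locMap I b M i).hom x)
    have h0 := hn _ (Ideal.pow_mem_pow hk n)
    rw [← pow_mul] at h0
    exact ((Module.End.isUnit_iff _).1 (IsLocalizedModule.map_units (locMap I b M i).hom
      (⟨b ^ (k * n), k * n, rfl⟩ : Submonoid.powers b))).1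
        (show b ^ (k * n) • (locMap I b M i).hom x = b ^ (k * n) •
          (0 : (localCohomology I i).obj ((locFun (Submonoid.powers b)).obj M)) by rw [h0, smul_zero])
  · rw [← Ideal.sInf_minimalPrimes] at hb
    obtain ⟨p, hp, hbp⟩ : ∃ p ∈ I.minimalPrimes, b ∉ p := by
      by_contra hc
      push Not at hc
      exact hb (Ideal.mem_sInf.2 fun {p} hp => hc p hp)
    haveI := hp.1.1
    obtain ⟨s, hs, hsx⟩ := exists_smul_eq_zero I p hp i M (hI ⟨p, hp.1.1⟩ hp.1.2 hbp) x
    obtain ⟨z, rfl⟩ := (mem_range_hmap_iff I s M i x).2 ⟨1, by rwa [pow_one]⟩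
    have hlt : I < I ⊔ Ideal.span {s} := lt_of_le_of_ne le_sup_left fun he =>
      hs (hp.1.2 (he.symm.le (Ideal.mem_sup_right (Ideal.mem_span_singleton_self s))))
    haveI := ih _ hlt fun q hq hbq => hI q (le_sup_left.trans hq) hbq
    rw [locMap_hmap, Subsingleton.elim ((locMap (I ⊔ Ideal.span {s}) b M i).hom z) 0, map_zero]

variable (M : ModuleCat.{u} R)

theorem hmap_surjective_of_punctual (i : ℕ) : ∀ (I I' : Ideal R) (h : I ≤ I'),
    (∀ p : PrimeSpectrum R, I ≤ p.asIdeal → ¬ I' ≤ p.asIdeal →
      Subsingleton (LocCoh.H (IsLocalRing.maximalIdeal (Localization.AtPrime p.asIdeal)) i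
        (LocalizedModule p.asIdeal.primeCompl M))) →
    Function.Surjective (hmap h i M).hom := by
  intro I
  induction I using WellFoundedGT.induction with
  | ind I ih =>
  intro I' h hI x
  rcases eq_or_lt_of_le h with rfl | hlt
  · exact ⟨x, hmap_refl I i M x⟩
  obtain ⟨b, hb, hbI⟩ := Set.exists_of_ssubset hlt
  haveI := subsingleton_H_locFun b i M I fun p hp hbp => hI p hp fun hle => hbp (hle hb)
  obtain ⟨y, rfl⟩ := (exact_hmap_locMap I b M i x).1 (Subsingleton.elim _ _)
  have hle : I ⊔ Ideal.span {b} ≤ I' :=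
    sup_le h ((Ideal.span_singleton_le_iff_mem I').2 hb)
  obtain ⟨z, rfl⟩ := ih _ (lt_of_le_of_ne le_sup_left fun he =>
      hbI (he.symm.le (Ideal.mem_sup_right (Ideal.mem_span_singleton_self b)))) I' hle
    (fun p hp hp' => hI p (le_sup_left.trans hp) hp') y
  exact ⟨z, (hmap_hmap le_sup_left hle i M z).symm⟩

theorem hmap_injective_of_punctual (i : ℕ) : ∀ (I I' : Ideal R) (h : I ≤ I'),
    (∀ p : PrimeSpectrum R, I ≤ p.asIdeal → ¬ I' ≤ p.asIdeal → ∀ j, j + 1 = i →
      Subsingleton (LocCoh.H (IsLocalRing.maximalIdeal (Localization.AtPrime p.asIdeal)) j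
        (LocalizedModule p.asIdeal.primeCompl M))) →
    Function.Injective (hmap h i M).hom := by
  intro I
  induction I using WellFoundedGT.induction with
  | ind I ih =>
  intro I' h hI
  rw [injective_iff_map_eq_zero]
  intro x hx
  rcases eq_or_lt_of_le h with rfl | hlt
  · exact (hmap_refl I i M x).symm.trans hx
  obtain ⟨b, hb, hbI⟩ := Set.exists_of_ssubset hlt
  have hle : I ⊔ Ideal.span {b} ≤ I' :=
    sup_le h ((Ideal.span_singleton_le_iff_mem I').2 hb)
  have h0 : hmap (le_sup_left : I ≤ I ⊔ Ideal.span {b}) i M (hmap hle i M x) = 0 :=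
    (hmap_hmap le_sup_left hle i M x).trans hx
  have hy : hmap hle i M x = 0 := by
    rcases i with - | j
    · exact (injective_iff_map_eq_zero _).1 (injective_hmap_zero I b M) _ h0
    · obtain ⟨y, hy⟩ := (exact_locδ_hmap I b M j _).1 h0
      haveI := subsingleton_H_locFun b j M I fun p hp hbp => hI p hp (fun hle => hbp (hle hb)) j rfl
      rw [← hy, Subsingleton.elim y 0, map_zero]
  exact (injective_iff_map_eq_zero _).1 (ih _ (lt_of_le_of_ne le_sup_left fun he =>
      hbI (he.symm.le (Ideal.mem_sup_right (Ideal.mem_span_singleton_self b)))) I' hle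
    (fun p hp hp' => hI p (le_sup_left.trans hp) hp')) x hy

end GrothLib.LC
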