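import Groth.Agent.Lib.LC.Basic
import Groth.Prelude.Def_DRing3

/-! Local cohomology in degree zero is the power torsion submodule. -/

universe u

open CategoryTheory Limits Opposite Abelian

namespace GrothLib.LC

variable {R : Type u} [CommRing R] (I : Ideal R) (M : ModuleCat.{u} R)

/-- `1` in `R/I^n`. -/
noncomputable def oneQ (n : ℕ) : quotPow I n := Ideal.Quotient.mk (I ^ n) 1

theorem smul_oneQ {n : ℕ} (r : R) : r • oneQ I n = (Ideal.Quotient.mk (I ^ n) r : quotPow I n) := by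
  show Ideal.Quotient.mk (I ^ n) (r * 1) = _
  rw [mul_one]

theorem eval_mem {n : ℕ} (f : quotPow I n ⟶ M) : f (oneQ I n) ∈ DRing.torsionSub I M := by
  refine ⟨n, fun a ha => ?_⟩
  rw [← map_smul, smul_oneQ, Ideal.Quotient.eq_zero_iff_mem.2 ha, map_zero]

/-- The hom `R/I^n ⟶ M` sending `1` to a torsion element. -/
noncomputable def homOfTors {n : ℕ} {m : M} (hm : ∀ a ∈ I ^ n, a • m = 0) : quotPow I n ⟶ M :=
  ModuleCat.ofHom (Submodule.liftQ (I ^ n) (LinearMap.toSpanSingleton R M m) hm)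

theorem homOfTors_oneQ {n : ℕ} {m : M} (hm : ∀ a ∈ I ^ n, a • m = 0) :
    homOfTors I M hm (oneQ I n) = m :=
  one_smul R m

/-- Underlying function: torsion element to class. -/
noncomputable def ofTorsFun (m : DRing.torsionSub I M) : (localCohomology I 0).obj M :=
  toH I 0 (Classical.choose m.2) M (Ext.mk₀ (homOfTors I M (Classical.choose_spec m.2)))

theorem hom_ext_oneQ {n : ℕ} {f g : quotPow I n ⟶ M} (h : f (oneQ I n) = g (oneQ I n)) : f = g :=
  ModuleCat.hom_ext (Submodule.linearMap_qext _ (LinearMap.ext_ring h))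

theorem toH_mk₀_eq_iff {n n' : ℕ} (f : quotPow I n ⟶ M) (g : quotPow I n' ⟶ M) :
    toH I 0 n M (Ext.mk₀ f) = toH I 0 n' M (Ext.mk₀ g) ↔ f (oneQ I n) = g (oneQ I n') := by
  rw [toH_eq_toH_iff]
  constructor
  · rintro ⟨k, hn, hn', h⟩
    rw [Ext.mk₀_comp_mk₀, Ext.mk₀_comp_mk₀] at h
    exact ConcreteCategory.congr_hom (Ext.addEquiv₀.symm.injective h) (oneQ I k)
  · intro h
    refine ⟨max n n', le_max_left _ _, le_max_right _ _, ?_⟩
    rw [Ext.mk₀_comp_mk₀, Ext.mk₀_comp_mk₀]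
    exact congrArg _ (hom_ext_oneQ I M h)

theorem ofTorsFun_eq {n : ℕ} (f : quotPow I n ⟶ M) :
    ofTorsFun I M ⟨f (oneQ I n), eval_mem I M f⟩ = toH I 0 n M (Ext.mk₀ f) :=
  (toH_mk₀_eq_iff I M _ _).2 (homOfTors_oneQ I M _)

theorem exists_mk₀ (x : (localCohomology I 0).obj M) :
    ∃ (n : ℕ) (f : quotPow I n ⟶ M), toH I 0 n M (Ext.mk₀ f) = x := by
  obtain ⟨n, e, rfl⟩ := exists_toH I x
  exact ⟨n, Ext.addEquiv₀ e, congrArg _ (Ext.mk₀_addEquiv₀_apply e)⟩

/-- `H^0_I(M)` is the `I`-power torsion submodule. -/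
noncomputable def torsionEquiv : DRing.torsionSub I M ≃ₗ[R] (localCohomology I 0).obj M :=
  LinearEquiv.ofBijective
    { toFun := ofTorsFun I M
      map_add' := fun a b => by
        obtain ⟨n, hn⟩ := a.2
        obtain ⟨n', hn'⟩ := b.2
        have hA : a = ⟨(quotMap I (le_max_left n n') ≫ homOfTors I M hn) (oneQ I _), eval_mem I M _⟩ :=
          Subtype.ext (homOfTors_oneQ I M hn).symm
        have hB : b = ⟨(quotMap I (le_max_right n n') ≫ homOfTors I M hn') (oneQ I _), eval_mem I M _⟩ :=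
          Subtype.ext (homOfTors_oneQ I M hn').symm
        have hAB : a + b = ⟨(quotMap I (le_max_left n n') ≫ homOfTors I M hn +
            quotMap I (le_max_right n n') ≫ homOfTors I M hn') (oneQ I _), eval_mem I M _⟩ :=
          Subtype.ext (congrArg₂ (· + ·) (congrArg Subtype.val hA) (congrArg Subtype.val hB))
        conv_lhs => rw [hAB]
        conv_rhs => rw [hA, hB]
        rw [ofTorsFun_eq, ofTorsFun_eq, ofTorsFun_eq, ← map_add, Ext.mk₀_add]
      map_smul' := fun r a => by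
        obtain ⟨n, hn⟩ := a.2
        have hA : a = ⟨homOfTors I M hn (oneQ I n), eval_mem I M _⟩ :=
          Subtype.ext (homOfTors_oneQ I M hn).symm
        have hrA : r • a = ⟨(r • homOfTors I M hn) (oneQ I n), eval_mem I M _⟩ :=
          Subtype.ext (congrArg (r • ·) (congrArg Subtype.val hA))
        conv_lhs => rw [hrA]
        conv_rhs => rw [hA]
        rw [ofTorsFun_eq, ofTorsFun_eq, RingHom.id_apply, ← map_smul, Ext.mk₀_smul] }
    ⟨fun a b h => by
      obtain ⟨n, hn⟩ := a.2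
      obtain ⟨n', hn'⟩ := b.2
      have hA : a = ⟨homOfTors I M hn (oneQ I n), eval_mem I M _⟩ :=
        Subtype.ext (homOfTors_oneQ I M hn).symm
      have hB : b = ⟨homOfTors I M hn' (oneQ I n'), eval_mem I M _⟩ :=
        Subtype.ext (homOfTors_oneQ I M hn').symm
      rw [hA, hB] at h ⊢
      replace h := ((ofTorsFun_eq I M _).symm.trans h).trans (ofTorsFun_eq I M _)
      exact Subtype.ext ((toH_mk₀_eq_iff I M _ _).1 h),
    fun x => by
      obtain ⟨n, f, rfl⟩ := exists_mk₀ I M x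
      exact ⟨_, ofTorsFun_eq I M f⟩⟩

theorem torsionEquiv_eval {n : ℕ} (f : quotPow I n ⟶ M) :
    torsionEquiv I M ⟨f (oneQ I n), eval_mem I M f⟩ = toH I 0 n M (Ext.mk₀ f) :=
  ofTorsFun_eq I M f

theorem torsionEquiv_naturality {M' : ModuleCat.{u} R} (g : M ⟶ M') (m : DRing.torsionSub I M) :
    torsionEquiv I M' ((DRing.gammaI I).map g m) =
      (localCohomology I 0).map g (torsionEquiv I M m) := by
  obtain ⟨n, hn⟩ := m.2
  have hA : m = ⟨homOfTors I M hn (oneQ I n), eval_mem I M _⟩ :=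
    Subtype.ext (homOfTors_oneQ I M hn).symm
  rw [hA, torsionEquiv_eval, map_toH, Ext.mk₀_comp_mk₀]
  exact torsionEquiv_eval I M' (homOfTors I M hn ≫ g)

end GrothLib.LC
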