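import Groth.Agent.Lib.LC.Seq
import Groth.Agent.Lib.LC.Zero
import Mathlib.CategoryTheory.Abelian.Injective.Ext
import Mathlib.CategoryTheory.Abelian.RightDerived
import Mathlib.Algebra.Category.ModuleCat.EnoughInjectives

/-! Local cohomology computed by the power torsion part of an injective resolution. -/

universe u

open CategoryTheory Limits Opposite Abelian

namespace GrothLib.LC

variable {R : Type u} [CommRing R] (I : Ideal R) {M : ModuleCat.{u} R}
variable (J : InjectiveResolution M)

theorem inj_extMk_zero_eq_zero_iff {X : ModuleCat.{u} R} (f : X ⟶ J.cocomplex.X 0)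
    (hf : f ≫ J.cocomplex.d 0 1 = 0) : J.extMk f 1 rfl hf = 0 ↔ f = 0 := by
  constructor
  · intro h
    simp only [← J.extEquivCohomologyClass.apply_eq_iff_eq,
      InjectiveResolution.extEquivCohomologyClass_extMk,
      InjectiveResolution.extEquivCohomologyClass_zero,
      CochainComplex.HomComplex.CohomologyClass.mk_eq_zero_iff] at h
    rw [CochainComplex.HomComplex.Cocycle.fromSingleMk_mem_coboundaries_iff _ _ _ _ _ (-1)
      (by simp)] at h
    obtain ⟨g, hg⟩ := h
    have hz : IsZero (J.cochainComplex.X (-1)) :=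
      J.cochainComplex.isZero_of_isStrictlyGE 0 (-1)
    rw [hz.eq_of_tgt g 0, zero_comp] at hg
    rw [← cancel_mono (J.cochainComplexXIso ((0 : ℕ) : ℤ) 0 rfl).inv, zero_comp]
    exact hg.symm
  · rintro rfl
    exact J.extMk_zero 1 rfl

theorem inj_smul_extMk {X : ModuleCat.{u} R} (i : ℕ) (r : R) (f : X ⟶ J.cocomplex.X i)
    (hf : f ≫ J.cocomplex.d i (i + 1) = 0) :
    r • J.extMk f (i + 1) rfl hf =
      J.extMk (r • f) (i + 1) rfl (by rw [Linear.smul_comp, hf, smul_zero]) := by
  rw [smul_eq_mk₀_comp, InjectiveResolution.mk₀_comp_extMk]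
  congr 1
  rw [Linear.smul_comp, Category.id_comp]

/-- The `Γ_I` complex of an injective resolution. -/
noncomputable abbrev gammaComplex : CochainComplex (ModuleCat.{u} R) ℕ :=
  ((DRing.gammaI I).mapHomologicalComplex _).obj J.cocomplex

theorem gammaComplex_d_val (i j : ℕ) (x : (gammaComplex I J).X i) :
    ((gammaComplex I J).d i j x).1 = J.cocomplex.d i j x.1 := rfl

theorem exists_cocycle_hom {i : ℕ} {x : (gammaComplex I J).X i}
    (hx : (gammaComplex I J).d i (i + 1) x = 0) :
    ∃ (n : ℕ) (f : quotPow I n ⟶ J.cocomplex.X i),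
      f ≫ J.cocomplex.d i (i + 1) = 0 ∧ f (oneQ I n) = x.1 := by
  obtain ⟨n, hn⟩ := x.2
  refine ⟨n, homOfTors I _ hn, hom_ext_oneQ I _ ?_, homOfTors_oneQ I _ hn⟩
  show J.cocomplex.d i (i + 1) (homOfTors I _ hn (oneQ I n)) = 0
  rw [homOfTors_oneQ, ← gammaComplex_d_val, hx]
  rfl

/-- The local cohomology class of a cocycle of the `Γ_I` complex. -/
noncomputable def cocFun (i : ℕ) (x : (gammaComplex I J).X i)
    (hx : (gammaComplex I J).d i (i + 1) x = 0) : (localCohomology I i).obj M :=
  toH I i (exists_cocycle_hom I J hx).choose M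
    (J.extMk (exists_cocycle_hom I J hx).choose_spec.choose (i + 1) rfl
      (exists_cocycle_hom I J hx).choose_spec.choose_spec.1)

theorem toH_extMk_eq {i n n' : ℕ} (f : quotPow I n ⟶ J.cocomplex.X i)
    (f' : quotPow I n' ⟶ J.cocomplex.X i) (hf : f ≫ J.cocomplex.d i (i + 1) = 0)
    (hf' : f' ≫ J.cocomplex.d i (i + 1) = 0) (h : f (oneQ I n) = f' (oneQ I n')) :
    toH I i n M (J.extMk f (i + 1) rfl hf) = toH I i n' M (J.extMk f' (i + 1) rfl hf') := by
  refine (toH_eq_toH_iff I _ _).2 ⟨max n n', le_max_left _ _, le_max_right _ _, ?_⟩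
  rw [InjectiveResolution.mk₀_comp_extMk, InjectiveResolution.mk₀_comp_extMk]
  congr 1
  exact hom_ext_oneQ I _ h

theorem cocFun_eq {i n : ℕ} (x : (gammaComplex I J).X i)
    (hx : (gammaComplex I J).d i (i + 1) x = 0) (f : quotPow I n ⟶ J.cocomplex.X i)
    (hf : f ≫ J.cocomplex.d i (i + 1) = 0) (h : f (oneQ I n) = x.1) :
    cocFun I J i x hx = toH I i n M (J.extMk f (i + 1) rfl hf) :=
  toH_extMk_eq I J _ _ _ _ ((exists_cocycle_hom I J hx).choose_spec.choose_spec.2.trans h.symm)

theorem cocFun_surjective (i : ℕ) (h : (localCohomology I i).obj M) :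
    ∃ x hx, cocFun I J i x hx = h := by
  obtain ⟨n, e, rfl⟩ := exists_toH I h
  obtain ⟨f, hf, rfl⟩ := J.extMk_surjective e (i + 1) rfl
  refine ⟨⟨f (oneQ I n), eval_mem I _ f⟩, ?_, cocFun_eq I J _ _ f hf rfl⟩
  exact Subtype.ext (ConcreteCategory.congr_hom hf (oneQ I n))

theorem cocFun_add (i : ℕ) (x y : (gammaComplex I J).X i)
    (hx : (gammaComplex I J).d i (i + 1) x = 0) (hy : (gammaComplex I J).d i (i + 1) y = 0) :
    cocFun I J i (x + y) (by rw [map_add, hx, hy, add_zero]) =
      cocFun I J i x hx + cocFun I J i y hy := by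
  obtain ⟨n, f, hf, h⟩ := exists_cocycle_hom I J hx
  obtain ⟨n', f', hf', h'⟩ := exists_cocycle_hom I J hy
  let g := quotMap I (le_max_left n n') ≫ f
  let g' := quotMap I (le_max_right n n') ≫ f'
  have hg : g ≫ J.cocomplex.d i (i + 1) = 0 := by rw [Category.assoc, hf, comp_zero]
  have hg' : g' ≫ J.cocomplex.d i (i + 1) = 0 := by rw [Category.assoc, hf', comp_zero]
  rw [cocFun_eq I J x hx g hg h, cocFun_eq I J y hy g' hg' h', ← map_add (toH I i (max n n') M),
    InjectiveResolution.add_extMk]
  exact cocFun_eq I J _ _ (g + g') _ (congrArg₂ (· + ·) h h')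

theorem cocFun_smul (i : ℕ) (r : R) (x : (gammaComplex I J).X i)
    (hx : (gammaComplex I J).d i (i + 1) x = 0) :
    cocFun I J i (r • x) (by rw [map_smul, hx, smul_zero]) = r • cocFun I J i x hx := by
  obtain ⟨n, f, hf, h⟩ := exists_cocycle_hom I J hx
  rw [cocFun_eq I J x hx f hf h, ← map_smul (toH I i n M), inj_smul_extMk]
  exact cocFun_eq I J _ _ (r • f) _ (congrArg (r • ·) h)

theorem cocFun_eq_zero_iff (i : ℕ) (x : (gammaComplex I J).X i)
    (hx : (gammaComplex I J).d i (i + 1) x = 0) :
    cocFun I J i x hx = 0 ↔ classOf i x hx = 0 := by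
  obtain ⟨n, f, hf, h⟩ := exists_cocycle_hom I J hx
  rw [cocFun_eq I J x hx f hf h, toH_eq_zero_iff]
  simp only [InjectiveResolution.mk₀_comp_extMk]
  rcases i with - | p
  · rw [classOf_zero_eq_zero_iff]
    constructor
    · rintro ⟨m, hm, hz⟩
      exact Subtype.ext (h.symm.trans (ConcreteCategory.congr_hom
        ((inj_extMk_zero_eq_zero_iff J _ _).1 hz) (oneQ I m)))
    · rintro rfl
      exact ⟨n, le_rfl, (inj_extMk_zero_eq_zero_iff J _ _).2 (hom_ext_oneQ I _ h)⟩
  · rw [classOf_succ_eq_zero_iff]
    constructor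
    · rintro ⟨m, hm, hz⟩
      obtain ⟨g, hg⟩ := (J.extMk_eq_zero_iff _ _ _ _ p rfl).1 hz
      exact ⟨⟨g (oneQ I m), eval_mem I _ g⟩,
        Subtype.ext ((ConcreteCategory.congr_hom hg (oneQ I m)).trans h)⟩
    · rintro ⟨⟨w, k, hk⟩, hw⟩
      refine ⟨max n k, le_max_left _ _, (J.extMk_eq_zero_iff _ _ _ _ p rfl).2
        ⟨quotMap I (le_max_right n k) ≫ homOfTors I _ hk, hom_ext_oneQ I _ ?_⟩⟩
      show J.cocomplex.d p (p + 1) (homOfTors I _ hk (oneQ I k)) = f (oneQ I n)
      rw [homOfTors_oneQ, h, ← hw]
      rfl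

theorem cocFun_congr {i : ℕ} {x y : (gammaComplex I J).X i}
    (hx : (gammaComplex I J).d i (i + 1) x = 0) (hy : (gammaComplex I J).d i (i + 1) y = 0)
    (h : classOf i x hx = classOf i y hy) : cocFun I J i x hx = cocFun I J i y hy := by
  have hz : (gammaComplex I J).d i (i + 1) (x - y) = 0 := by rw [map_sub, hx, hy, sub_zero]
  have h1 : cocFun I J i x hx = cocFun I J i (x - y) hz + cocFun I J i y hy := by
    rw [← cocFun_add]
    congr 1
    abel
  have h2 : classOf i x hx = classOf i (x - y) hz + classOf i y hy := by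
    rw [← classOf_add]
    congr 1
    abel
  rw [h2, add_eq_right] at h
  rw [h1, (cocFun_eq_zero_iff I J i _ _).2 h, zero_add]

/-- Underlying function of the comparison. -/
noncomputable def homologyToFun (i : ℕ) (c : (gammaComplex I J).homology i) :
    (localCohomology I i).obj M :=
  cocFun I J i _ (classOf_surjective i c).choose_spec.choose

theorem homologyToFun_classOf (i : ℕ) (x : (gammaComplex I J).X i)
    (hx : (gammaComplex I J).d i (i + 1) x = 0) :
    homologyToFun I J i (classOf i x hx) = cocFun I J i x hx :=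
  cocFun_congr I J _ _ (classOf_surjective i (classOf i x hx)).choose_spec.choose_spec

/-- Local cohomology is the cohomology of `Γ_I` of an injective resolution. -/
noncomputable def homologyEquiv (i : ℕ) :
    (gammaComplex I J).homology i ≃ₗ[R] (localCohomology I i).obj M :=
  LinearEquiv.ofBijective
    { toFun := homologyToFun I J i
      map_add' := fun a b => by
        obtain ⟨x, hx, rfl⟩ := classOf_surjective i a
        obtain ⟨y, hy, rfl⟩ := classOf_surjective i b
        rw [← classOf_add, homologyToFun_classOf, homologyToFun_classOf, homologyToFun_classOf,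
          cocFun_add]
      map_smul' := fun r a => by
        obtain ⟨x, hx, rfl⟩ := classOf_surjective i a
        rw [← classOf_smul, homologyToFun_classOf, homologyToFun_classOf, RingHom.id_apply,
          cocFun_smul] }
    ⟨(injective_iff_map_eq_zero _).2 fun a ha => by
      obtain ⟨x, hx, rfl⟩ := classOf_surjective i a
      exact (cocFun_eq_zero_iff I J i x hx).1 ((homologyToFun_classOf I J i x hx).symm.trans ha),
    fun h => by
      obtain ⟨x, hx, rfl⟩ := cocFun_surjective I J i h
      exact ⟨classOf i x hx, homologyToFun_classOf I J i x hx⟩⟩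

theorem homologyEquiv_classOf (i : ℕ) (x : (gammaComplex I J).X i)
    (hx : (gammaComplex I J).d i (i + 1) x = 0) :
    homologyEquiv I J i (classOf i x hx) = cocFun I J i x hx :=
  homologyToFun_classOf I J i x hx

theorem homologyEquiv_naturality {M' : ModuleCat.{u} R} {J' : InjectiveResolution M'} {g : M ⟶ M'}
    (φ : InjectiveResolution.Hom J J' g) (i : ℕ) (c : (gammaComplex I J).homology i) :
    homologyEquiv I J' i (HomologicalComplex.homologyMap
        (((DRing.gammaI I).mapHomologicalComplex _).map φ.hom) i c) =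
      (localCohomology I i).map g (homologyEquiv I J i c) := by
  obtain ⟨x, hx, rfl⟩ := classOf_surjective i c
  obtain ⟨n, f, hf, h⟩ := exists_cocycle_hom I J hx
  rw [classOf_map, homologyEquiv_classOf, homologyEquiv_classOf, cocFun_eq I J x hx f hf h,
    map_toH, InjectiveResolution.extMk_comp_mk₀ f _ _ hf φ]
  exact cocFun_eq I J' _ _ (f ≫ φ.hom.f i) _ (congrArg (φ.hom.f i) h)

/-- Right derived functors of `Γ_I` compute local cohomology. -/
noncomputable def rightDerivedIso (i : ℕ) :
    (DRing.gammaI I).rightDerived i ≅ localCohomology I i :=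
  NatIso.ofComponents
    (fun M => (injectiveResolution M).isoRightDerivedObj (DRing.gammaI I) i ≪≫
      (homologyEquiv I (injectiveResolution M) i).toModuleIso)
    (fun {M M'} g => by
      let φ := InjectiveResolution.desc g (injectiveResolution M') (injectiveResolution M)
      have comm : (injectiveResolution M).ι.f 0 ≫ φ.f 0 = g ≫ (injectiveResolution M').ι.f 0 :=
        InjectiveResolution.desc_commutes_zero g _ _
      let h : InjectiveResolution.Hom (injectiveResolution M) (injectiveResolution M') g :=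
        ⟨φ, comm.trans (by rw [CochainComplex.single₀_map_f_zero]; rfl)⟩
      rw [Iso.trans_hom, Iso.trans_hom, ← Category.assoc,
        InjectiveResolution.isoRightDerivedObj_hom_naturality g _ _ φ comm, Category.assoc,
        Category.assoc]
      refine congrArg (_ ≫ ·) (ModuleCat.hom_ext (LinearMap.ext fun c => ?_))
      exact homologyEquiv_naturality I _ h i c)

end GrothLib.LC
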