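import Groth.Agent.Lib.LC.Seq
import Groth.Agent.Lib.LC.Zero
import Groth.Agent.Lib.InjMod.Noetherian
import Mathlib.Algebra.Category.ModuleCat.Injective

/-! Local cohomology of power torsion modules over Noetherian rings. -/

universe u

open CategoryTheory Limits Opposite Abelian

namespace GrothLib.LC

variable {R : Type u} [CommRing R] (I : Ideal R)

/-- The short complex `N → M → M/N`. -/
noncomputable def subQuot {M : ModuleCat.{u} R} (N : Submodule R M) :
    ShortComplex (ModuleCat.{u} R) :=
  ShortComplex.mk (ModuleCat.ofHom N.subtype) (ModuleCat.ofHom N.mkQ)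
    (ModuleCat.hom_ext (LinearMap.ext fun x => (Submodule.Quotient.mk_eq_zero _).2 x.2))

theorem subQuot_shortExact {M : ModuleCat.{u} R} (N : Submodule R M) : (subQuot N).ShortExact where
  exact := (ShortComplex.moduleCat_exact_iff _).2 fun x hx =>
    ⟨⟨x, (Submodule.Quotient.mk_eq_zero N).1 hx⟩, rfl⟩
  mono_f := (ModuleCat.mono_iff_injective _).2 N.injective_subtype
  epi_g := (ModuleCat.epi_iff_surjective _).2 N.mkQ_surjective

theorem torsionSub_eq_top_iff {M : Type u} [AddCommGroup M] [Module R M] :
    DRing.torsionSub I M = ⊤ ↔ LocCoh.IsPowerTorsion I M := by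
  rw [Submodule.eq_top_iff']; rfl

theorem isPowerTorsion_torsionSub (M : Type u) [AddCommGroup M] [Module R M] :
    LocCoh.IsPowerTorsion I (DRing.torsionSub I M) := by
  rintro ⟨m, n, hn⟩
  exact ⟨n, fun a ha => Subtype.ext (hn a ha)⟩

theorem isPowerTorsion_of_surjective {M N : Type u} [AddCommGroup M] [Module R M] [AddCommGroup N]
    [Module R N] (f : M →ₗ[R] N) (hf : Function.Surjective f) (hM : LocCoh.IsPowerTorsion I M) :
    LocCoh.IsPowerTorsion I N := fun y => by
  obtain ⟨x, rfl⟩ := hf y
  exact DRing.map_mem_torsionSub I f (hM x)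

theorem isPowerTorsion_of_injective {M N : Type u} [AddCommGroup M] [Module R M] [AddCommGroup N]
    [Module R N] (f : M →ₗ[R] N) (hf : Function.Injective f) (hN : LocCoh.IsPowerTorsion I N) :
    LocCoh.IsPowerTorsion I M := fun x => by
  obtain ⟨n, hn⟩ := hN (f x)
  exact ⟨n, fun a ha => hf (by rw [map_smul, map_zero, hn a ha])⟩

/-- The power torsion part of an injective module is injective. -/
theorem injective_torsionSub [IsNoetherianRing R] (E : Type u) [AddCommGroup E] [Module R E]
    [Module.Injective R E] : Module.Injective R (DRing.torsionSub I E) :=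
  GrothLib.InjMod.injective_of_mem_iff_powTorsion inferInstance I _ fun _ => Iff.rfl

theorem exists_mono_injective_torsion [IsNoetherianRing R] (N : ModuleCat.{u} R)
    (hN : LocCoh.IsPowerTorsion I N) :
    ∃ (E : ModuleCat.{u} R) (f : N ⟶ E), Injective E ∧ Mono f ∧ LocCoh.IsPowerTorsion I E := by
  obtain ⟨J, _, _, j, hJ, hj⟩ := GrothLib.InjMod.exists_embedding_injective (R := R) N
  have := injective_torsionSub I J
  refine ⟨ModuleCat.of R (DRing.torsionSub I J), ModuleCat.ofHom (LinearMap.codRestrict _ j
    fun x => DRing.map_mem_torsionSub I j (hN x)), ?_, ?_, isPowerTorsion_torsionSub I J⟩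
  · exact Module.injective_object_of_injective_module R _
  · exact (ModuleCat.mono_iff_injective _).2 fun a b h => hj (congrArg Subtype.val h)

/-- `H^0` of a map between torsion modules is that map. -/
theorem map_zero_surjective {M M' : ModuleCat.{u} R} (g : M ⟶ M')
    (hg : ∀ y ∈ DRing.torsionSub I M', ∃ x ∈ DRing.torsionSub I M, g x = y) :
    Function.Surjective ((localCohomology I 0).map g) := by
  intro x
  obtain ⟨⟨y, hy⟩, rfl⟩ := (torsionEquiv I M').surjective x
  obtain ⟨z, hz, rfl⟩ := hg y hy
  exact ⟨torsionEquiv I M ⟨z, hz⟩, (torsionEquiv_naturality I M g ⟨z, hz⟩).symm⟩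

theorem map_zero_injective {M M' : ModuleCat.{u} R} (g : M ⟶ M')
    (hg : Function.Injective g) :
    Function.Injective ((localCohomology I 0).map g) := by
  intro a b h
  obtain ⟨a, rfl⟩ := (torsionEquiv I M).surjective a
  obtain ⟨b, rfl⟩ := (torsionEquiv I M).surjective b
  rw [← torsionEquiv_naturality, ← torsionEquiv_naturality] at h
  exact congrArg _ (Subtype.ext (hg (congrArg Subtype.val ((torsionEquiv I M').injective h))))

/-- Local cohomology of power torsion modules vanishes in positive degrees. -/
theorem subsingleton_of_isPowerTorsion [IsNoetherianRing R] (p : ℕ) :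
    ∀ (N : ModuleCat.{u} R), LocCoh.IsPowerTorsion I N →
      Subsingleton ((localCohomology I (p + 1)).obj N) := by
  induction p with
  | zero =>
    intro N hN
    obtain ⟨E, f, hE, hf, hEt⟩ := exists_mono_injective_torsion I N hN
    have hS : (ShortComplex.mk f (cokernel.π f) (cokernel.condition f)).ShortExact :=
      { exact := ShortComplex.exact_of_g_is_cokernel _ (cokernelIsCokernel f) }
    refine subsingleton_of_forall_eq 0 fun x => ?_
    have := subsingleton_of_injective I E 0
    obtain ⟨y, rfl⟩ := exists_of_map_f_eq_zero I hS 0 (x := x) (Subsingleton.elim _ _)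
    obtain ⟨z, rfl⟩ := map_zero_surjective I (cokernel.π f) (fun c _ => by
      obtain ⟨e, he⟩ := (ModuleCat.epi_iff_surjective _).1 (inferInstance : Epi (cokernel.π f)) c
      exact ⟨e, hEt e, he⟩) y
    exact δ_map_g I hS 0 z
  | succ p ih =>
    intro N hN
    obtain ⟨E, f, hE, hf, hEt⟩ := exists_mono_injective_torsion I N hN
    have hS : (ShortComplex.mk f (cokernel.π f) (cokernel.condition f)).ShortExact :=
      { exact := ShortComplex.exact_of_g_is_cokernel _ (cokernelIsCokernel f) }
    refine subsingleton₁ I hS (p + 1) (subsingleton_of_injective I E (p + 1)) (ih _ ?_)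
    exact isPowerTorsion_of_surjective I (cokernel.π f).hom
      ((ModuleCat.epi_iff_surjective _).1 inferInstance) hEt

/-- A surjection with power torsion kernel induces bijections on positive degree local cohomology. -/
theorem map_bijective_of_torsion [IsNoetherianRing R] {S : ShortComplex (ModuleCat.{u} R)}
    (hS : S.ShortExact) (h : LocCoh.IsPowerTorsion I S.X₁) (i : ℕ) :
    Function.Bijective ((localCohomology I (i + 1)).map S.g) := by
  have h₁ := subsingleton_of_isPowerTorsion I i S.X₁ h
  have h₂ := subsingleton_of_isPowerTorsion I (i + 1) S.X₁ h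
  constructor
  · rw [injective_iff_map_eq_zero]
    intro x hx
    obtain ⟨y, rfl⟩ := exists_of_map_g_eq_zero I hS (i + 1) (x := x) hx
    rw [Subsingleton.elim y 0, map_zero]
  · intro y
    exact exists_of_δ_eq_zero I hS (i + 1) (x := y) (Subsingleton.elim _ _)

end GrothLib.LC
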