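import Groth.Agent.Lib.LC.ChangeSeq
import Mathlib.RingTheory.Filtration

/-! The Mayer–Vietoris sequence. -/

universe u

open CategoryTheory Limits Opposite Abelian

namespace GrothLib.LC

variable {R : Type u} [CommRing R] (I J : Ideal R)

/-- `Γ_I × Γ_J`. -/
noncomputable def prodGamma : ModuleCat.{u} R ⥤ ModuleCat.{u} R where
  obj M := ModuleCat.of R (DRing.torsionSub I M × DRing.torsionSub J M)
  map f := ModuleCat.ofHom (((DRing.gammaI I).map f).hom.prodMap ((DRing.gammaI J).map f).hom)
  map_id _ := ModuleCat.hom_ext (LinearMap.ext fun _ => rfl)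
  map_comp _ _ := ModuleCat.hom_ext (LinearMap.ext fun _ => rfl)

instance : (prodGamma I J).Additive where
  map_add {_ _ _ _} := ModuleCat.hom_ext (LinearMap.ext fun _ => rfl)

/-- First projection. -/
noncomputable def prodFst : prodGamma I J ⟶ DRing.gammaI I where
  app M := ModuleCat.ofHom (LinearMap.fst R (DRing.torsionSub I M) (DRing.torsionSub J M))
  naturality _ _ _ := rfl

/-- Second projection. -/
noncomputable def prodSnd : prodGamma I J ⟶ DRing.gammaI J where
  app M := ModuleCat.ofHom (LinearMap.snd R (DRing.torsionSub I M) (DRing.torsionSub J M))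
  naturality _ _ _ := rfl

/-- `Γ_{I+J} → Γ_I × Γ_J`. -/
noncomputable def mvIncl : DRing.gammaI (I ⊔ J) ⟶ prodGamma I J where
  app M := ModuleCat.ofHom (LinearMap.prod
    ((gammaLE (le_sup_left : I ≤ I ⊔ J)).app M).hom ((gammaLE (le_sup_right : J ≤ I ⊔ J)).app M).hom)
  naturality _ _ _ := rfl

/-- `(a, b) ↦ a - b`. -/
noncomputable def mvDiff : prodGamma I J ⟶ DRing.gammaI (I ⊓ J) where
  app M := ModuleCat.ofHom
    (((gammaLE (inf_le_left : I ⊓ J ≤ I)).app M).hom ∘ₗ LinearMap.fst R _ _ -
      ((gammaLE (inf_le_right : I ⊓ J ≤ J)).app M).hom ∘ₗ LinearMap.snd R _ _)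
  naturality _ _ f := ModuleCat.hom_ext (LinearMap.ext fun x => Subtype.ext
    (map_sub f.hom x.1.1 x.2.1).symm)

variable {M : ModuleCat.{u} R} (K : InjectiveResolution M)

/-- The product complex. -/
noncomputable abbrev prodComplex : CochainComplex (ModuleCat.{u} R) ℕ :=
  ((prodGamma I J).mapHomologicalComplex _).obj K.cocomplex

/-- The projections of the product complex. -/
noncomputable abbrev prodComplexFst : prodComplex I J K ⟶ gammaComplex I K :=
  (NatTrans.mapHomologicalComplex (prodFst I J) _).app K.cocomplex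

/-- The projections of the product complex. -/
noncomputable abbrev prodComplexSnd : prodComplex I J K ⟶ gammaComplex J K :=
  (NatTrans.mapHomologicalComplex (prodSnd I J) _).app K.cocomplex

/-- The comparison on homology. -/
noncomputable def prodHomologyMap (i : ℕ) :
    (prodComplex I J K).homology i →ₗ[R]
      (localCohomology I i).obj M × (localCohomology J i).obj M :=
  LinearMap.prod
    ((homologyEquiv I K i).toLinearMap ∘ₗ
      (HomologicalComplex.homologyMap (prodComplexFst I J K) i).hom)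
    ((homologyEquiv J K i).toLinearMap ∘ₗ
      (HomologicalComplex.homologyMap (prodComplexSnd I J K) i).hom)

theorem prodHomologyMap_bijective (i : ℕ) : Function.Bijective (prodHomologyMap I J K i) := by
  constructor
  · rw [injective_iff_map_eq_zero]
    intro c hc
    obtain ⟨x, hx, rfl⟩ := classOf_surjective i c
    have h1 := (homologyEquiv I K i).map_eq_zero_iff.1 (congrArg Prod.fst hc)
    have h2 := (homologyEquiv J K i).map_eq_zero_iff.1 (congrArg Prod.snd hc)
    erw [classOf_map] at h1 h2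
    rcases i with - | p
    · rw [classOf_zero_eq_zero_iff] at h1 h2 ⊢
      exact Prod.ext h1 h2
    · rw [classOf_succ_eq_zero_iff] at h1 h2 ⊢
      obtain ⟨y, hy⟩ := h1
      obtain ⟨z, hz⟩ := h2
      exact ⟨(y, z), Prod.ext hy hz⟩
  · rintro ⟨a, b⟩
    obtain ⟨a, rfl⟩ := (homologyEquiv I K i).surjective a
    obtain ⟨b, rfl⟩ := (homologyEquiv J K i).surjective b
    obtain ⟨y, hy, rfl⟩ := classOf_surjective i a
    obtain ⟨z, hz, rfl⟩ := classOf_surjective i b
    have hyz : (prodComplex I J K).d i (i + 1) (y, z) = 0 := Prod.ext hy hz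
    refine ⟨classOf i (K := prodComplex I J K) (y, z) hyz, Prod.ext ?_ ?_⟩
    · exact congrArg (homologyEquiv I K i) (classOf_map _ i _ hyz)
    · exact congrArg (homologyEquiv J K i) (classOf_map _ i _ hyz)

/-- The Mayer–Vietoris complexes. -/
noncomputable def mvSeq : ShortComplex (CochainComplex (ModuleCat.{u} R) ℕ) :=
  ShortComplex.mk
    ((NatTrans.mapHomologicalComplex (mvIncl I J) (ComplexShape.up ℕ)).app K.cocomplex)
    ((NatTrans.mapHomologicalComplex (mvDiff I J) (ComplexShape.up ℕ)).app K.cocomplex)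
    (HomologicalComplex.hom_ext _ _ fun n => ModuleCat.hom_ext (LinearMap.ext fun x => Subtype.ext
      (sub_self x.1)))

variable [IsNoetherianRing R]

omit K in
theorem mvDiff_surjective (E : ModuleCat.{u} R) [Injective E] :
    Function.Surjective ((mvDiff I J).app E) := by
  rintro ⟨x, n, hn⟩
  obtain ⟨c, hc⟩ := I.exists_pow_inf_eq_pow_smul (J ^ n : Submodule R R)
  let m := n + c
  have h2 := hc m (Nat.le_add_left c n)
  rw [smul_eq_mul, Ideal.mul_top, Nat.add_sub_cancel, smul_eq_mul] at h2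
  have hle : I ^ m ⊓ J ^ m ≤ (I ⊓ J) ^ n :=
    calc I ^ m ⊓ J ^ m ≤ I ^ m ⊓ J ^ n :=
          inf_le_inf le_rfl (Ideal.pow_le_pow_right (Nat.le_add_right n c))
      _ = I ^ n * _ := h2
      _ ≤ I ^ n * J ^ n := Ideal.mul_mono le_rfl inf_le_right
      _ = (I * J) ^ n := (mul_pow I J n).symm
      _ ≤ (I ⊓ J) ^ n := Ideal.pow_right_mono Ideal.mul_le_inf n
  have hann : I ^ m ⊓ J ^ m ≤ LinearMap.ker (LinearMap.toSpanSingleton R E x) := fun a ha =>
    LinearMap.mem_ker.2 (hn a (hle ha))
  let P := (R ⧸ I ^ m) × (R ⧸ J ^ m)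
  let ι : ModuleCat.of R (R ⧸ (I ^ m ⊓ J ^ m)) ⟶ ModuleCat.of R P :=
    ModuleCat.ofHom (Submodule.liftQ (I ^ m ⊓ J ^ m)
      (LinearMap.prod (I ^ m).mkQ (J ^ m).mkQ) (by
        rw [LinearMap.ker_prod, Submodule.ker_mkQ, Submodule.ker_mkQ]))
  haveI : Mono ι := (ModuleCat.mono_iff_injective _).2 (LinearMap.ker_eq_bot.1
    (Submodule.ker_liftQ_eq_bot _ _ _ (by
      rw [LinearMap.ker_prod, Submodule.ker_mkQ, Submodule.ker_mkQ])))
  let g : ModuleCat.of R (R ⧸ (I ^ m ⊓ J ^ m)) ⟶ E :=
    ModuleCat.ofHom (Submodule.liftQ _ (LinearMap.toSpanSingleton R E x) hann)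
  let φ : ModuleCat.of R P ⟶ E := Injective.factorThru g ι
  have hφ : φ ((I ^ m).mkQ 1, (J ^ m).mkQ 1) = x :=
    (ConcreteCategory.congr_hom (Injective.comp_factorThru g ι) ((I ^ m ⊓ J ^ m).mkQ 1)).trans
      (one_smul R x)
  have ha : φ ((I ^ m).mkQ 1, 0) ∈ DRing.torsionSub I E := ⟨m, fun r hr => by
    rw [← map_smul φ.hom]
    refine (congrArg φ (Prod.ext ?_ (smul_zero r))).trans (map_zero φ.hom)
    refine (Submodule.Quotient.mk_eq_zero _).2 ?_
    show r * 1 ∈ I ^ m
    rwa [mul_one]⟩
  have hb : φ (0, (J ^ m).mkQ 1) ∈ DRing.torsionSub J E := ⟨m, fun r hr => by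
    rw [← map_smul φ.hom]
    refine (congrArg φ (Prod.ext (smul_zero r) ?_)).trans (map_zero φ.hom)
    refine (Submodule.Quotient.mk_eq_zero _).2 ?_
    show r * 1 ∈ J ^ m
    rwa [mul_one]⟩
  refine ⟨(⟨_, ha⟩, -⟨_, hb⟩), Subtype.ext ?_⟩
  show φ ((I ^ m).mkQ 1, 0) - -φ (0, (J ^ m).mkQ 1) = x
  rw [sub_neg_eq_add, ← map_add φ.hom]
  exact (congrArg φ (Prod.ext (add_zero _) (zero_add _))).trans hφ

theorem mvSeq_shortExact : (mvSeq I J K).ShortExact := by
  refine HomologicalComplex.shortExact_of_degreewise_shortExact _ fun n => ?_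
  haveI : Injective (K.cocomplex.X n) := K.injective n
  refine
    { exact := (ShortComplex.moduleCat_exact_iff _).2 fun x hx => ?_
      mono_f := (ModuleCat.mono_iff_injective _).2 fun a b hab => Subtype.ext
        (congrArg (fun t => t.1.1) hab)
      epi_g := (ModuleCat.epi_iff_surjective _).2 (mvDiff_surjective I J (K.cocomplex.X n)) }
  have hx' : x.1.1 = x.2.1 := sub_eq_zero.1 (congrArg Subtype.val hx)
  exact ⟨⟨x.1.1, (mem_torsionSub_sup_iff I J x.1.1).2 ⟨x.1.2, hx' ▸ x.2.2⟩⟩,
    Prod.ext rfl (Subtype.ext hx')⟩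

omit [IsNoetherianRing R] in
theorem prodHomologyMap_incl (i : ℕ) (c : (gammaComplex (I ⊔ J) K).homology i) :
    prodHomologyMap I J K i (HomologicalComplex.homologyMap (mvSeq I J K).f i c) =
      (hmap (le_sup_left : I ≤ I ⊔ J) i M (homologyEquiv (I ⊔ J) K i c),
        hmap (le_sup_right : J ≤ I ⊔ J) i M (homologyEquiv (I ⊔ J) K i c)) := by
  obtain ⟨x, hx, rfl⟩ := classOf_surjective i c
  rw [← homologyEquiv_le, ← homologyEquiv_le]
  refine Prod.ext ?_ ?_
  · refine congrArg (homologyEquiv I K i) ?_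
    erw [classOf_map, classOf_map, classOf_map]
    rfl
  · refine congrArg (homologyEquiv J K i) ?_
    erw [classOf_map, classOf_map, classOf_map]
    rfl

omit [IsNoetherianRing R] in
theorem homologyEquiv_diff (i : ℕ) (c : (prodComplex I J K).homology i) :
    homologyEquiv (I ⊓ J) K i (HomologicalComplex.homologyMap (mvSeq I J K).g i c) =
      hmap (inf_le_left : I ⊓ J ≤ I) i M (prodHomologyMap I J K i c).1 -
        hmap (inf_le_right : I ⊓ J ≤ J) i M (prodHomologyMap I J K i c).2 := by
  have h : (mvSeq I J K).g = prodComplexFst I J K ≫ gammaComplexLE (inf_le_left : I ⊓ J ≤ I) K -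
      prodComplexSnd I J K ≫ gammaComplexLE (inf_le_right : I ⊓ J ≤ J) K :=
    HomologicalComplex.hom_ext _ _ fun n => ModuleCat.hom_ext (LinearMap.ext fun x => rfl)
  have h' : HomologicalComplex.homologyMap (mvSeq I J K).g i =
      HomologicalComplex.homologyMap (prodComplexFst I J K) i ≫
          HomologicalComplex.homologyMap (gammaComplexLE (inf_le_left : I ⊓ J ≤ I) K) i -
        HomologicalComplex.homologyMap (prodComplexSnd I J K) i ≫
          HomologicalComplex.homologyMap (gammaComplexLE (inf_le_right : I ⊓ J ≤ J) K) i :=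
    (congrArg (fun t => HomologicalComplex.homologyMap t i) h).trans
      ((HomologicalComplex.homologyMap_sub _ _ i).trans (congrArg₂ (· - ·)
        (HomologicalComplex.homologyMap_comp _ _ i) (HomologicalComplex.homologyMap_comp _ _ i)))
  rw [h']
  refine (map_sub (homologyEquiv (I ⊓ J) K i) _ _).trans (congrArg₂ (· - ·) ?_ ?_) <;>
    exact homologyEquiv_le _ K i _

variable (M)

/-- The connecting map. -/
noncomputable def mvδ (i : ℕ) :
    (localCohomology (I ⊓ J) i).obj M →ₗ[R] (localCohomology (I ⊔ J) (i + 1)).obj M :=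
  (homologyEquiv _ (injectiveResolution M) (i + 1)).toLinearMap ∘ₗ
    ((mvSeq_shortExact I J (injectiveResolution M)).δ i (i + 1) rfl).hom ∘ₗ
    (homologyEquiv _ (injectiveResolution M) i).symm.toLinearMap

theorem mvδ_homologyEquiv (i : ℕ) (d : (gammaComplex (I ⊓ J) (injectiveResolution M)).homology i) :
    mvδ I J M i (homologyEquiv _ (injectiveResolution M) i d) =
      homologyEquiv _ (injectiveResolution M) (i + 1)
        ((mvSeq_shortExact I J (injectiveResolution M)).δ i (i + 1) rfl d) :=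
  congrArg (fun t => homologyEquiv _ (injectiveResolution M) (i + 1)
    ((mvSeq_shortExact I J (injectiveResolution M)).δ i (i + 1) rfl t))
    ((homologyEquiv _ (injectiveResolution M) i).symm_apply_apply d)

theorem mv_injective :
    Function.Injective (LinearMap.prod (hmap (le_sup_left : I ≤ I ⊔ J) 0 M).hom
      (hmap (le_sup_right : J ≤ I ⊔ J) 0 M).hom) := by
  let K := injectiveResolution M
  intro a b hab
  obtain ⟨a, rfl⟩ := (homologyEquiv (I ⊔ J) K 0).surjective a
  obtain ⟨b, rfl⟩ := (homologyEquiv (I ⊔ J) K 0).surjective b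
  refine congrArg _ (injective_zero (mvSeq_shortExact I J K)
    ((prodHomologyMap_bijective I J K 0).1 ?_))
  exact (prodHomologyMap_incl I J K 0 a).trans (hab.trans (prodHomologyMap_incl I J K 0 b).symm)

theorem mv_exact₁ (i : ℕ) :
    Function.Exact (mvδ I J M i) (LinearMap.prod (hmap (le_sup_left : I ≤ I ⊔ J) (i + 1) M).hom
      (hmap (le_sup_right : J ≤ I ⊔ J) (i + 1) M).hom) := by
  intro y
  let K := injectiveResolution M
  obtain ⟨c, rfl⟩ := (homologyEquiv (I ⊔ J) K (i + 1)).surjective y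
  have h := exact_δ_map (mvSeq_shortExact I J K) i c
  constructor
  · intro hc
    obtain ⟨d, rfl⟩ := h.1 ((prodHomologyMap_bijective I J K (i + 1)).1
      (((prodHomologyMap_incl I J K (i + 1) c).trans hc).trans (map_zero _).symm))
    exact ⟨homologyEquiv _ K i d, mvδ_homologyEquiv I J M i d⟩
  · rintro ⟨z, hz⟩
    obtain ⟨d, rfl⟩ := (homologyEquiv (I ⊓ J) K i).surjective z
    rw [mvδ_homologyEquiv] at hz
    exact (prodHomologyMap_incl I J K (i + 1) c).symm.trans ((congrArg _
      (h.2 ⟨d, (homologyEquiv _ K (i + 1)).injective hz⟩)).trans (map_zero _))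

theorem mv_exact₂ (i : ℕ) :
    Function.Exact (LinearMap.prod (hmap (le_sup_left : I ≤ I ⊔ J) i M).hom
        (hmap (le_sup_right : J ≤ I ⊔ J) i M).hom)
      ((hmap (inf_le_left : I ⊓ J ≤ I) i M).hom ∘ₗ
          LinearMap.fst R ((localCohomology I i).obj M) ((localCohomology J i).obj M) -
        (hmap (inf_le_right : I ⊓ J ≤ J) i M).hom ∘ₗ
          LinearMap.snd R ((localCohomology I i).obj M) ((localCohomology J i).obj M)) := by
  intro y
  let K := injectiveResolution M
  obtain ⟨c, rfl⟩ := (prodHomologyMap_bijective I J K i).2 y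
  have h := exact_of_shortExact (mvSeq_shortExact I J K) i c
  constructor
  · intro hc
    obtain ⟨d, rfl⟩ := h.1 ((homologyEquiv (I ⊓ J) K i).map_eq_zero_iff.1
      ((homologyEquiv_diff I J K i c).trans hc))
    exact ⟨homologyEquiv _ K i d, (prodHomologyMap_incl I J K i d).symm⟩
  · rintro ⟨z, hz⟩
    obtain ⟨d, rfl⟩ := (homologyEquiv (I ⊔ J) K i).surjective z
    exact (homologyEquiv_diff I J K i c).symm.trans ((congrArg _ (h.2 ⟨d,
      (prodHomologyMap_bijective I J K i).1 ((prodHomologyMap_incl I J K i d).trans hz)⟩)).trans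
      (map_zero _))

theorem mv_exact₃ (i : ℕ) :
    Function.Exact ((hmap (inf_le_left : I ⊓ J ≤ I) i M).hom ∘ₗ
          LinearMap.fst R ((localCohomology I i).obj M) ((localCohomology J i).obj M) -
        (hmap (inf_le_right : I ⊓ J ≤ J) i M).hom ∘ₗ
          LinearMap.snd R ((localCohomology I i).obj M) ((localCohomology J i).obj M)) (mvδ I J M i) := by
  intro y
  let K := injectiveResolution M
  obtain ⟨c, rfl⟩ := (homologyEquiv (I ⊓ J) K i).surjective y
  have h := exact_map_δ (mvSeq_shortExact I J K) i c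
  rw [mvδ_homologyEquiv, LinearEquiv.map_eq_zero_iff]
  constructor
  · intro hc
    obtain ⟨d, rfl⟩ := h.1 hc
    exact ⟨prodHomologyMap I J K i d, (homologyEquiv_diff I J K i d).symm⟩
  · rintro ⟨z, hz⟩
    obtain ⟨d, rfl⟩ := (prodHomologyMap_bijective I J K i).2 z
    exact h.2 ⟨d, (homologyEquiv (I ⊓ J) K i).injective ((homologyEquiv_diff I J K i d).trans hz)⟩

end GrothLib.LC
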