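import Groth.Agent.Lib.LC.Compare
import Mathlib.Algebra.Category.ModuleCat.FilteredColimits
import Mathlib.CategoryTheory.Limits.FunctorCategory.Basic
import Mathlib.CategoryTheory.Limits.ConcreteCategory.Basic
import Groth.Prelude.Def_Wider

/-! Elements of local cohomology modules: `H^i_I(M)` is the union of the images of
`Ext^i(R/I^n, M)`. -/

universe u

open CategoryTheory Limits Opposite Abelian

namespace GrothLib.LC

variable {R : Type u} [CommRing R] (I : Ideal R)

/-- `R/I^n` as an object of `ModuleCat R`. -/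
noncomputable abbrev quotPow (n : ℕ) : ModuleCat.{u} R := ModuleCat.of R (R ⧸ I ^ n)

/-- The projection `R/I^m ⟶ R/I^n` for `n ≤ m`. -/
noncomputable def quotMap {n m : ℕ} (h : n ≤ m) : quotPow I m ⟶ quotPow I n :=
  (localCohomology.ringModIdeals (localCohomology.idealPowersDiagram I)).map (homOfLE h).op

@[simp] theorem quotMap_mk {n m : ℕ} (h : n ≤ m) (r : R) :
    quotMap I h (Ideal.Quotient.mk (I ^ m) r) = Ideal.Quotient.mk (I ^ n) r := rfl

theorem quotMap_refl (n : ℕ) : quotMap I (le_refl n) = 𝟙 _ :=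
  ModuleCat.hom_ext (Submodule.linearMap_qext _ (LinearMap.ext fun _ => rfl))

theorem quotMap_comp {n m k : ℕ} (h : n ≤ m) (h' : m ≤ k) :
    quotMap I h' ≫ quotMap I h = quotMap I (h.trans h') :=
  ModuleCat.hom_ext (Submodule.linearMap_qext _ (LinearMap.ext fun _ => rfl))

instance : PreservesFilteredColimitsOfSize.{0, 0} (forget (ModuleCat.{u} R)) :=
  preservesSmallestFilteredColimits_of_preservesFilteredColimits _

variable {i : ℕ}

/-- The cocone exhibiting `H^i_I(M)` as a filtered colimit. -/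
noncomputable def isColimitEval (i : ℕ) (M : ModuleCat.{u} R) :
    IsColimit (((evaluation _ _).obj M).mapCocone
      (colimit.cocone (localCohomology.diagram (localCohomology.idealPowersDiagram I) i))) :=
  isColimitOfPreserves _ (colimit.isColimit _)

/-- The canonical map `Ext^i(R/I^n, M) → H^i_I(M)`. -/
noncomputable def toH (i n : ℕ) (M : ModuleCat.{u} R) :
    Ext (quotPow I n) M i →ₗ[R] (localCohomology I i).obj M :=
  ((colimit.ι (localCohomology.diagram (localCohomology.idealPowersDiagram I) i)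
      (op (op n))).app M).hom ∘ₗ (extEquiv (quotPow I n) M i).symm.toLinearMap

theorem toH_extEquiv (n : ℕ) (M : ModuleCat.{u} R) (e : oldExt (quotPow I n) M i) :
    toH I i n M (extEquiv (quotPow I n) M i e) =
      (colimit.ι (localCohomology.diagram (localCohomology.idealPowersDiagram I) i)
        (op (op n))).app M e := by
  show (colimit.ι (localCohomology.diagram (localCohomology.idealPowersDiagram I) i)
    (op (op n))).app M ((extEquiv (quotPow I n) M i).symm (extEquiv (quotPow I n) M i e)) = _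
  rw [LinearEquiv.symm_apply_apply]

theorem exists_toH {M : ModuleCat.{u} R} (x : (localCohomology I i).obj M) :
    ∃ (n : ℕ) (e : Ext (quotPow I n) M i), toH I i n M e = x := by
  obtain ⟨j, y, hy⟩ := Concrete.isColimit_exists_rep _ (isColimitEval I i M) x
  exact ⟨j.unop.unop, extEquiv (quotPow I j.unop.unop) M i y, (toH_extEquiv I _ M y).trans hy⟩

theorem toH_eq_toH_iff {n m : ℕ} {M : ModuleCat.{u} R} (e : Ext (quotPow I n) M i)
    (e' : Ext (quotPow I m) M i) :
    toH I i n M e = toH I i m M e' ↔ ∃ (k : ℕ) (hn : n ≤ k) (hm : m ≤ k),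
      (Ext.mk₀ (quotMap I hn)).comp e (zero_add i) =
        (Ext.mk₀ (quotMap I hm)).comp e' (zero_add i) := by
  obtain ⟨a, rfl⟩ := (extEquiv (quotPow I n) M i).surjective e
  obtain ⟨b, rfl⟩ := (extEquiv (quotPow I m) M i).surjective e'
  rw [toH_extEquiv, toH_extEquiv]
  refine (Concrete.isColimit_rep_eq_iff_exists _ (i := op (op n)) (j := op (op m))
    (isColimitEval I i M) a b).trans ?_
  constructor
  · rintro ⟨k, f, g, h⟩
    refine ⟨k.unop.unop, leOfHom f.unop.unop, leOfHom g.unop.unop, ?_⟩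
    rw [← extEquiv_naturality_left, ← extEquiv_naturality_left]
    exact congrArg _ h
  · rintro ⟨k, hn, hm, h⟩
    refine ⟨op (op k), (homOfLE hn).op.op, (homOfLE hm).op.op, ?_⟩
    rw [← extEquiv_naturality_left, ← extEquiv_naturality_left] at h
    exact (extEquiv (quotPow I k) M i).injective h

theorem toH_restrict {n m : ℕ} (h : n ≤ m) {M : ModuleCat.{u} R} (e : Ext (quotPow I n) M i) :
    toH I i m M ((Ext.mk₀ (quotMap I h)).comp e (zero_add i)) = toH I i n M e := by
  rw [toH_eq_toH_iff]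
  refine ⟨m, le_rfl, h, ?_⟩
  rw [quotMap_refl, Ext.mk₀_id_comp]

theorem toH_eq_zero_iff {n : ℕ} {M : ModuleCat.{u} R} (e : Ext (quotPow I n) M i) :
    toH I i n M e = 0 ↔ ∃ (m : ℕ) (h : n ≤ m),
      (Ext.mk₀ (quotMap I h)).comp e (zero_add i) = 0 := by
  rw [← map_zero (toH I i n M), toH_eq_toH_iff]
  constructor
  · rintro ⟨k, hn, _, h⟩
    exact ⟨k, hn, by simpa using h⟩
  · rintro ⟨m, hn, h⟩
    exact ⟨m, hn, hn, by simpa using h⟩

theorem exists_toH_ge {M : ModuleCat.{u} R} (x : (localCohomology I i).obj M) (N : ℕ) :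
    ∃ (n : ℕ) (_ : N ≤ n) (e : Ext (quotPow I n) M i), toH I i n M e = x := by
  obtain ⟨n, e, rfl⟩ := exists_toH I x
  exact ⟨max n N, le_max_right _ _, _, toH_restrict I (le_max_left n N) e⟩

theorem map_toH {n : ℕ} {M M' : ModuleCat.{u} R} (f : M ⟶ M') (e : Ext (quotPow I n) M i) :
    (localCohomology I i).map f (toH I i n M e) =
      toH I i n M' (e.comp (Ext.mk₀ f) (add_zero i)) := by
  obtain ⟨a, rfl⟩ := (extEquiv (quotPow I n) M i).surjective e
  rw [toH_extEquiv, ← extEquiv_naturality_right, toH_extEquiv]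
  exact (ConcreteCategory.congr_hom
    ((colimit.ι (localCohomology.diagram (localCohomology.idealPowersDiagram I) i)
      (op (op n))).naturality f) a).symm

theorem smul_eq_mk₀_comp {X Y : ModuleCat.{u} R} (e : Ext X Y i) (r : R) :
    r • e = (Ext.mk₀ (r • 𝟙 X)).comp e (zero_add i) := by
  rw [Ext.mk₀_smul, Ext.smul_comp, Ext.mk₀_id_comp]

theorem smul_ext_quotPow_eq_zero {n : ℕ} {M : ModuleCat.{u} R} (e : Ext (quotPow I n) M i)
    {a : R} (ha : a ∈ I ^ n) : a • e = 0 := by
  have : a • 𝟙 (quotPow I n) = 0 := ModuleCat.hom_ext (Submodule.linearMap_qext _ (LinearMap.ext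
    fun x => (Submodule.Quotient.mk_eq_zero _).2 (Ideal.mul_mem_right x _ ha)))
  rw [smul_eq_mk₀_comp, this, Ext.mk₀_zero, Ext.zero_comp]

/-- Local cohomology modules are power torsion. -/
theorem isPowerTorsion (i : ℕ) (M : ModuleCat.{u} R) :
    LocCoh.IsPowerTorsion I ((localCohomology I i).obj M) := by
  intro x
  obtain ⟨n, e, rfl⟩ := exists_toH I x
  exact ⟨n, fun a ha => by rw [← map_smul, smul_ext_quotPow_eq_zero I e ha, map_zero]⟩

theorem subsingleton_of_forall_ext {M : ModuleCat.{u} R}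
    (h : ∀ (n : ℕ) (e : Ext (quotPow I n) M i), ∃ (m : ℕ) (hm : n ≤ m),
      (Ext.mk₀ (quotMap I hm)).comp e (zero_add i) = 0) :
    Subsingleton ((localCohomology I i).obj M) := by
  refine subsingleton_of_forall_eq 0 fun x => ?_
  obtain ⟨n, e, rfl⟩ := exists_toH I x
  exact (toH_eq_zero_iff I e).2 (h n e)

end GrothLib.LC
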