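import Groth.Agent.Lib.LC.Torsion
import Groth.Agent.Lib.TorsionFree.Basic
import Mathlib.RingTheory.Ideal.AssociatedPrime.Finiteness

/-! Finiteness of `H¹_I(M)` and associated primes (helper3). -/

universe u

set_option linter.style.haveILetI false
set_option linter.unusedSectionVars false

open CategoryTheory

namespace GrothLib.LC.FiniteH1

variable {R : Type u} [CommRing R] [IsNoetherianRing R] (I : Ideal R)

/-- `H¹_I` is finite. -/
def Fin1 (M : Type u) [AddCommGroup M] [Module R M] : Prop :=
  Module.Finite R ((localCohomology I 1).obj (ModuleCat.of R M))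

variable {M N P : Type u} [AddCommGroup M] [Module R M] [AddCommGroup N] [Module R N]
  [AddCommGroup P] [Module R P]

theorem finite_of_exact {A B C : Type u} [AddCommGroup A] [Module R A] [AddCommGroup B] [Module R B]
    [AddCommGroup C] [Module R C] [Module.Finite R A] [Module.Finite R C] (f : A →ₗ[R] B) (g : B →ₗ[R] C)
    (h : ∀ x, g x = 0 → ∃ y, f y = x) : Module.Finite R B := by
  refine Module.finite_def.2 (Submodule.fg_of_fg_map_of_fg_inf_ker g (IsNoetherian.noetherian _) ?_)
  have : (⊤ : Submodule R B) ⊓ LinearMap.ker g =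
      Submodule.map f (Submodule.comap f (LinearMap.ker g)) := by
    rw [top_inf_eq]
    refine le_antisymm (fun x hx => ?_) (Submodule.map_comap_le _ _)
    obtain ⟨y, rfl⟩ := h x (LinearMap.mem_ker.1 hx)
    exact ⟨y, hx, rfl⟩
  rw [this]
  exact (IsNoetherian.noetherian _).map f

theorem shortExact_of {f : M →ₗ[R] N} {g : N →ₗ[R] P} (hf : Function.Injective f)
    (hg : Function.Surjective g) (hfg : Function.Exact f g) :
    (ShortComplex.mk (ModuleCat.ofHom f) (ModuleCat.ofHom g)
      (ModuleCat.hom_ext hfg.linearMap_comp_eq_zero)).ShortExact where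
  exact := (ShortComplex.moduleCat_exact_iff _).2 fun x hx => (hfg x).1 hx
  mono_f := (ModuleCat.mono_iff_injective _).2 hf
  epi_g := (ModuleCat.epi_iff_surjective _).2 hg

theorem of_exact {f : M →ₗ[R] N} {g : N →ₗ[R] P} (hf : Function.Injective f)
    (hg : Function.Surjective g) (hfg : Function.Exact f g) (hM : Fin1 I M) (hP : Fin1 I P) :
    Fin1 I N := by
  have hS := shortExact_of hf hg hfg
  haveI : Module.Finite R ((localCohomology I 1).obj (ModuleCat.of R M)) := hM
  haveI : Module.Finite R ((localCohomology I 1).obj (ModuleCat.of R P)) := hP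
  exact finite_of_exact ((localCohomology I 1).map (ModuleCat.ofHom f)).hom
    ((localCohomology I 1).map (ModuleCat.ofHom g)).hom fun x hx =>
    exists_of_map_g_eq_zero I hS 1 hx

theorem of_injective [Module.Finite R N] {f : M →ₗ[R] N} (hf : Function.Injective f)
    (hN : Fin1 I N) : Fin1 I M := by
  have hS := shortExact_of (g := (LinearMap.range f).mkQ) hf (Submodule.mkQ_surjective _)
    (LinearMap.exact_map_mkQ_range f)
  haveI : Module.Finite R ((localCohomology I 1).obj (ModuleCat.of R N)) := hN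
  haveI : Module.Finite R ((localCohomology I 0).obj (ModuleCat.of R (N ⧸ LinearMap.range f))) :=
    Module.Finite.equiv (torsionEquiv I (ModuleCat.of R (N ⧸ LinearMap.range f)))
  exact finite_of_exact (δ I hS 0) ((localCohomology I 1).map (ModuleCat.ofHom f)).hom fun x hx =>
    exists_of_map_f_eq_zero I hS 0 hx

theorem of_linearEquiv (e : M ≃ₗ[R] N) (hM : Fin1 I M) : Fin1 I N := by
  haveI : Module.Finite R ((localCohomology I 1).obj (ModuleCat.of R M)) := hM
  exact Module.Finite.equiv ((localCohomology I 1).mapIso e.toModuleIso).toLinearEquiv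

theorem of_isPowerTorsion (h : LocCoh.IsPowerTorsion I M) : Fin1 I M := by
  have := subsingleton_of_isPowerTorsion I 0 (ModuleCat.of R M) h
  exact inferInstanceAs (Module.Finite R ((localCohomology I 1).obj (ModuleCat.of R M)))

theorem pi_exact (r : ℕ) : Function.Injective (LinearMap.single R (fun _ : Fin (r + 1) => M) 0) ∧
    Function.Surjective (LinearMap.funLeft R M (Fin.succ : Fin r → Fin (r + 1))) ∧
    Function.Exact (LinearMap.single R (fun _ : Fin (r + 1) => M) 0)
      (LinearMap.funLeft R M (Fin.succ : Fin r → Fin (r + 1))) := by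
  refine ⟨fun a b h => by simpa using congrFun h 0,
    LinearMap.funLeft_surjective_of_injective R M _ (Fin.succ_injective r), fun x => ⟨fun hx => ⟨x 0, ?_⟩, ?_⟩⟩
  · funext i
    refine Fin.cases ?_ (fun j => ?_) i
    · simp
    · simpa [Pi.single_eq_of_ne (Fin.succ_ne_zero j)] using (congrFun hx j).symm
  · rintro ⟨y, rfl⟩
    funext j
    simp [LinearMap.funLeft]

theorem pi (h : Fin1 I M) : ∀ r, Fin1 I (Fin r → M)
  | 0 => of_isPowerTorsion I fun _ => ⟨0, fun _ _ => Subsingleton.elim _ _⟩
  | r + 1 => of_exact I (pi_exact r).1 (pi_exact r).2.1 (pi_exact r).2.2 h (pi h r)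

theorem associatedPrimes_pi_subset : ∀ r, associatedPrimes R (Fin r → M) ⊆ associatedPrimes R M
  | 0 => by simp [associatedPrimes.eq_empty_of_subsingleton]
  | r + 1 => (associatedPrimes.subset_union_of_exact (pi_exact r).1 (pi_exact r).2.2).trans
      (Set.union_subset le_rfl (associatedPrimes_pi_subset r))

/-- Modules over `R/p` without torsion. -/
theorem of_torsionFree (p : Ideal R) [p.IsPrime] [Module.Finite R M]
    (hkill : ∀ a ∈ p, ∀ x : M, a • x = 0) (hreg : ∀ a, a ∉ p → IsSMulRegular M a)
    (hp : ¬ I ≤ p → Fin1 I (R ⧸ p)) : Fin1 I M := by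
  by_cases hI : I ≤ p
  · exact of_isPowerTorsion I fun x => ⟨1, fun a ha => hkill a (hI (by simpa using ha)) x⟩
  have htors : Module.IsTorsionBySet R M p := fun x a => hkill a.1 a.2 x
  letI := htors.module
  haveI : IsScalarTower R (R ⧸ p) M := htors.isScalarTower
  haveI : Module.Finite (R ⧸ p) M := Module.Finite.of_restrictScalars_finite R _ M
  haveI : Module.IsTorsionFree (R ⧸ p) M := ⟨fun r hr => by
    obtain ⟨a, rfl⟩ := Ideal.Quotient.mk_surjective r
    exact fun x y hxy => hreg a (fun ha => hr.ne_zero (Ideal.Quotient.eq_zero_iff_mem.2 ha))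
      (by simpa [Module.IsTorsionBySet.mk_smul] using hxy)⟩
  obtain ⟨n, f, hf⟩ := exists_injective_pi_of_isTorsionFree (R ⧸ p) M
  exact of_injective I (f := f.restrictScalars R) hf (pi I (hp hI) n)

/-- Coprimary modules. -/
theorem of_coprimary (p : Ideal R) [p.IsPrime] (hp : ¬ I ≤ p → Fin1 I (R ⧸ p)) (Q : Type u)
    [AddCommGroup Q] [Module R Q] [Module.Finite R Q] (hQ : associatedPrimes R Q ⊆ {p}) : Fin1 I Q := by
  suffices ∀ N : Submodule R Q, associatedPrimes R (Q ⧸ N) ⊆ {p} → Fin1 I (Q ⧸ N) from
    of_linearEquiv I (Submodule.quotEquivOfEqBot (⊥ : Submodule R Q) rfl)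
      (this ⊥ (by rwa [LinearEquiv.AssociatedPrimes.eq (Submodule.quotEquivOfEqBot (⊥ : Submodule R Q) rfl)]))
  intro N
  induction N using IsNoetherian.induction with
  | _ N IH =>
    intro hN
    rcases subsingleton_or_nontrivial (Q ⧸ N) with hs | hs
    · exact of_isPowerTorsion I fun x => ⟨0, fun _ _ => Subsingleton.elim _ _⟩
    have hreg : ∀ a, a ∉ p → IsSMulRegular (Q ⧸ N) a := fun a ha =>
      IsSMulRegular.of_right_eq_zero_of_smul fun x hx => by
        by_contra hx0
        have hmem : a ∈ ⋃ q ∈ associatedPrimes R (Q ⧸ N), (q : Set R) :=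
          (biUnion_associatedPrimes_eq_zero_divisors R (Q ⧸ N)).symm ▸ ⟨x, hx0, hx⟩
        obtain ⟨q, hq, haq⟩ := Set.mem_iUnion₂.1 hmem
        exact ha (hN hq ▸ haq)
    let T : Submodule R (Q ⧸ N) := Submodule.torsionBySet R (Q ⧸ N) p
    have hT : T ≠ ⊥ := by
      obtain ⟨q, hq⟩ := associatedPrimes.nonempty R (Q ⧸ N)
      obtain rfl : q = p := hN hq
      obtain ⟨-, x, hx⟩ := isAssociatedPrime_iff.1 hq
      intro h
      have hx0 : x ≠ 0 := by
        rintro rfl
        exact ‹q.IsPrime›.ne_top (hx.trans Submodule.colon_singleton_zero)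
      refine hx0 ((Submodule.mem_bot R).1 (h ▸ (Submodule.mem_torsionBySet_iff _ _).2 fun a => ?_))
      exact (Submodule.mem_bot R).1 (Submodule.mem_colon_singleton.1 (hx.le a.2))
    let N' : Submodule R Q := T.comap N.mkQ
    have hNN' : N < N' := by
      refine lt_of_le_of_ne (fun x hx => by simp [N', (Submodule.Quotient.mk_eq_zero N).2 hx]) fun h => hT ?_
      rw [eq_bot_iff]
      intro y hy
      obtain ⟨x, rfl⟩ := N.mkQ_surjective y
      have : x ∈ N := h.symm ▸ (hy : x ∈ N')
      exact (Submodule.mem_bot R).2 ((Submodule.Quotient.mk_eq_zero N).2 this)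
    have hmap : N'.map N.mkQ = T := Submodule.map_comap_eq_of_surjective N.mkQ_surjective T
    let e : ((Q ⧸ N) ⧸ T) ≃ₗ[R] (Q ⧸ N') :=
      (Submodule.quotEquivOfEq _ _ hmap.symm).trans (Submodule.quotientQuotientEquivQuotient N N' hNN'.le)
    have hass : associatedPrimes R (Q ⧸ N') ⊆ {p} := by
      obtain ⟨r, a, ha⟩ := Submodule.fg_iff_exists_fin_generating_family.1 (IsNoetherian.noetherian p)
      let φ : (Q ⧸ N) →ₗ[R] (Fin r → Q ⧸ N) := LinearMap.pi fun i => LinearMap.lsmul R _ (a i)
      have hφ : T = LinearMap.ker φ := by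
        ext x
        refine ⟨fun hx => funext fun i => (Submodule.mem_torsionBySet_iff _ _).1 hx
          ⟨a i, ha ▸ Submodule.subset_span ⟨i, rfl⟩⟩, fun hx => ?_⟩
        have : p ≤ LinearMap.ker (LinearMap.toSpanSingleton R (Q ⧸ N) x) := ha.symm.le.trans
          (Submodule.span_le.2 (Set.range_subset_iff.2 fun i => congrFun hx i))
        exact (Submodule.mem_torsionBySet_iff _ _).2 fun b => this b.2
      rw [← LinearEquiv.AssociatedPrimes.eq e]
      exact (associatedPrimes.subset_of_injective
        (LinearMap.ker_eq_bot.1 (Submodule.ker_liftQ_eq_bot' T φ hφ))).trans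
        ((associatedPrimes_pi_subset r).trans hN)
    refine of_exact I T.injective_subtype T.mkQ_surjective (LinearMap.exact_subtype_mkQ T) ?_
      (of_linearEquiv I e.symm (IH N' hNN' hass))
    exact of_torsionFree I p (fun a ha x => Subtype.ext ((Submodule.mem_torsionBySet_iff _ _).1 x.2 ⟨a, ha⟩))
      (fun a ha => (hreg a ha).submodule T a) hp

theorem finite_of_assoc (Q : Type u) [AddCommGroup Q] [Module R Q] [Module.Finite R Q]
    (h : ∀ p ∈ associatedPrimes R Q, ¬ I ≤ p → Fin1 I (R ⧸ p)) : Fin1 I Q := by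
  obtain ⟨n, hn⟩ : ∃ n, (associatedPrimes R Q).ncard = n := ⟨_, rfl⟩
  induction n using Nat.strong_induction_on generalizing Q with
  | _ n IH =>
    rcases subsingleton_or_nontrivial Q with hs | hs
    · exact of_isPowerTorsion I fun x => ⟨0, fun _ _ => Subsingleton.elim _ _⟩
    obtain ⟨p, hp⟩ := associatedPrimes.nonempty R Q
    haveI := hp.isPrime
    obtain ⟨N, hN, hmax⟩ := set_has_maximal_iff_noetherian.2 (inferInstance : IsNoetherian R Q)
      {N | p ∉ associatedPrimes R N}
      ⟨(⊥ : Submodule R Q), fun h => not_isAssociatedPrime_of_subsingleton h⟩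
    have hNsub := associatedPrimes.subset_of_injective (R := R) N.injective_subtype
    have hN1 : Fin1 I N := IH _ (hn ▸ Set.ncard_lt_ncard ⟨hNsub, fun h => hN (h hp)⟩
      (associatedPrimes.finite R Q)) N (fun q hq => h q (hNsub hq)) rfl
    refine of_exact I N.injective_subtype N.mkQ_surjective (LinearMap.exact_subtype_mkQ N) hN1
      (of_coprimary I p (h p hp) (Q ⧸ N) fun q hq => ?_)
    by_contra hne
    haveI := hq.isPrime
    obtain ⟨-, g, hg⟩ := (isAssociatedPrime_iff_exists_injective_linearMap q (Q ⧸ N)).1 hq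
    let N' := (LinearMap.range g).comap N.mkQ
    have hle : N ≤ N' := fun x hx => by simp [N', (Submodule.Quotient.mk_eq_zero N).2 hx]
    have hlt : N < N' := by
      refine lt_of_le_of_ne hle fun heq => ?_
      obtain ⟨x, hx⟩ := N.mkQ_surjective (g 1)
      have : x ∈ N := heq.symm ▸ (show x ∈ N' from ⟨1, hx.symm⟩)
      rw [Submodule.mkQ_apply, (Submodule.Quotient.mk_eq_zero N).2 this] at hx
      exact hq.isPrime.ne_top (Ideal.Quotient.subsingleton_iff.1 (subsingleton_of_zero_eq_one
        (hg (by rw [map_zero]; exact hx))))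
    have hp' : p ∈ associatedPrimes R N' := not_not.1 fun hc => hmax N' hc hlt
    let g' : N' →ₗ[R] (R ⧸ q) :=
      (LinearEquiv.ofInjective g hg).symm.toLinearMap.comp
        ((N.mkQ.domRestrict N').codRestrict (LinearMap.range g) fun x => x.2)
    have hex : Function.Exact (Submodule.inclusion hle) g' := fun x => by
      simp only [g', LinearMap.comp_apply, LinearEquiv.coe_coe, LinearEquiv.map_eq_zero_iff]
      refine ⟨fun hx => ⟨⟨x, (Submodule.Quotient.mk_eq_zero N).1 (congrArg Subtype.val hx)⟩, rfl⟩, ?_⟩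
      rintro ⟨y, rfl⟩
      exact Subtype.ext ((Submodule.Quotient.mk_eq_zero N).2 y.2)
    rcases associatedPrimes.subset_union_of_exact (Submodule.inclusion_injective hle) hex hp' with h1 | h1
    · exact hN h1
    · rw [associatedPrimes.eq_singleton_of_isPrimary hq.isPrime.isPrimary,
        hq.isPrime.radical] at h1
      exact hne h1.symm

theorem main [Module.Finite R M] : Fin1 I M ↔
    ∀ p, p ∈ associatedPrimes R M → ¬ I ≤ p → Fin1 I (R ⧸ p) := by
  refine ⟨fun h p hp _ => ?_, finite_of_assoc I M⟩
  obtain ⟨-, f, hf⟩ := (isAssociatedPrime_iff_exists_injective_linearMap p M).1 hp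
  exact of_injective I hf h

end GrothLib.LC.FiniteH1
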