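import Groth.Agent.Lib.LC.Vanish
import Groth.Agent.Lib.LC.Acyclic

/-! Top local cohomology is right exact: `H^d_I(M) ≅ H^d_I(R) ⊗ M`. -/

universe u

open CategoryTheory Limits Opposite Abelian TensorProduct

namespace GrothLib.LC

variable {R : Type u} [CommRing R] [IsNoetherianRing R] (I : Ideal R) (d : ℕ)

theorem cdLE_dim (hd : ringKrullDim R ≤ (d : WithBot ℕ∞)) : LocCoh.CdLE R I d := fun M _ _ i hi =>
  subsingleton_of_supportDim_lt i R I M
    (((Module.supportDim_le_ringKrullDim R M).trans hd).trans_lt (by exact_mod_cast hi))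

omit [IsNoetherianRing R] in
theorem map_g_surjective (hcd : LocCoh.CdLE R I d) {S : ShortComplex (ModuleCat.{u} R)}
    (hS : S.ShortExact) : Function.Surjective ((localCohomology I d).map S.g) := fun x =>
  exists_of_δ_eq_zero I hS d (x := x) (@Subsingleton.elim _ (hcd S.X₁ (d + 1) (Nat.lt_succ_self d)) _ _)

/-- `M → Hom(H^d R, H^d M)`. -/
noncomputable def topPair (M : ModuleCat.{u} R) :
    (localCohomology I d).obj (ModuleCat.of R R) →ₗ[R] M →ₗ[R] (localCohomology I d).obj M :=
  LinearMap.mk₂ R (fun h m => (localCohomology I d).map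
      (ModuleCat.ofHom (LinearMap.toSpanSingleton R M m) : ModuleCat.of R R ⟶ M) h)
    (fun h h' m => map_add _ _ _)
    (fun r h m => map_smul _ _ _)
    (fun h m m' => by
      rw [← map_add_apply, ← ModuleCat.ofHom_add]
      congr 4
      exact LinearMap.ext_ring (by simp))
    (fun r h m => by
      rw [← map_smul_apply]
      congr 3
      exact ModuleCat.hom_ext (LinearMap.ext_ring (by simp)))

/-- `H^d R ⊗ M → H^d M`. -/
noncomputable def topTensor (M : ModuleCat.{u} R) :
    ((localCohomology I d).obj (ModuleCat.of R R) : Type u) ⊗[R] (M : Type u) →ₗ[R]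
      (localCohomology I d).obj M :=
  TensorProduct.lift (topPair I d M)

theorem topTensor_naturality {M M' : ModuleCat.{u} R} (f : M ⟶ M')
    (z : ((localCohomology I d).obj (ModuleCat.of R R) : Type u) ⊗[R] (M : Type u)) :
    (localCohomology I d).map f (topTensor I d M z) =
      topTensor I d M' (LinearMap.lTensor _ f.hom z) := by
  induction z using TensorProduct.induction_on with
  | zero => simp
  | tmul h m =>
    show (localCohomology I d).map f ((localCohomology I d).map _ h) = (localCohomology I d).map _ h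
    rw [← map_comp_apply]
    congr 3
    exact ModuleCat.hom_ext (LinearMap.ext_ring (by simp))
  | add x y hx hy => simp only [map_add, hx, hy]

theorem topTensor_bijective_free (ι : Type u) :
    Function.Bijective (topTensor I d (ModuleCat.of R (ι →₀ R))) := by
  classical
  let F := ModuleCat.of R (ι →₀ R)
  let π : ι → (F ⟶ ModuleCat.of R R) := fun j => ModuleCat.ofHom (Finsupp.lapply j)
  have hpair : ∀ (h : (localCohomology I d).obj (ModuleCat.of R R)),
      topTensor I d (ModuleCat.of R R) (h ⊗ₜ (1 : R)) = h := fun h => by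
    show (localCohomology I d).map _ h = h
    conv_rhs => rw [← map_id_apply I d h]
    congr 3
    exact ModuleCat.hom_ext (LinearMap.ext_ring (by simp))
  refine ⟨(injective_iff_map_eq_zero _).2 fun z hz => ?_, fun y => ?_⟩
  · let e := TensorProduct.finsuppScalarRight R R ((localCohomology I d).obj (ModuleCat.of R R)) ι
    refine e.injective (Finsupp.ext fun j => ?_)
    rw [map_zero, Finsupp.zero_apply]
    have h1 : topTensor I d (ModuleCat.of R R) (LinearMap.lTensor _ (π j).hom z) = 0 := by
      rw [← topTensor_naturality, hz, map_zero]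
    have h2 : ∀ w, e w j = topTensor I d (ModuleCat.of R R) (LinearMap.lTensor _ (π j).hom w) := by
      intro w
      induction w using TensorProduct.induction_on with
      | zero => simp
      | tmul h f =>
        rw [LinearMap.lTensor_tmul,
          show (π j).hom f = f j • (1 : R) from (mul_one _).symm, TensorProduct.tmul_smul, map_smul,
          hpair]
        exact TensorProduct.finsuppScalarRight_apply_tmul_apply h f j
      | add x x' hx hx' => simp only [map_add, Finsupp.add_apply, hx, hx']
    rw [h2, h1]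
  · let A : Finset ι →o Submodule R (ι →₀ R) :=
      ⟨fun s => Finsupp.supported R R (s : Set ι), fun s t hst => Finsupp.supported_mono hst⟩
    obtain ⟨s, w, rfl⟩ := exists_map_subtype I (M := F) A
      (fun f => ⟨f.support, (Finsupp.mem_supported R f).2 (subset_refl _)⟩) d y
    let incl : ModuleCat.of R (A s) ⟶ F := ModuleCat.ofHom (A s).subtype
    refine ⟨∑ j ∈ s, ((localCohomology I d).map (incl ≫ π j) w) ⊗ₜ Finsupp.single j 1, ?_⟩
    rw [map_sum]
    have hid : incl = ∑ j ∈ s, (incl ≫ π j) ≫
        ModuleCat.ofHom (LinearMap.toSpanSingleton R (ι →₀ R) (Finsupp.single j 1)) := by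
      refine ModuleCat.hom_ext (LinearMap.ext fun v => ?_)
      rw [ModuleCat.hom_sum, LinearMap.sum_apply]
      show (v : ι →₀ R) = ∑ j ∈ s, (v : ι →₀ R) j • Finsupp.single j (1 : R)
      conv_lhs => rw [← Finsupp.sum_single v.1,
        Finsupp.sum_of_support_subset _ v.2 _ (fun _ _ => Finsupp.single_zero _)]
      simp [Finsupp.smul_single]
    conv_rhs => rw [show (ModuleCat.ofHom (A s).subtype : ModuleCat.of R (A s) ⟶ F) = incl from rfl,
      hid, map_sum_apply]
    refine Finset.sum_congr rfl fun j _ => ?_
    rw [map_comp_apply, map_comp_apply, map_comp_apply]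
    rfl

theorem topTensor_bijective (hcd : LocCoh.CdLE R I d) (M : ModuleCat.{u} R) :
    Function.Bijective (topTensor I d M) := by
  let π : ((M : Type u) →₀ R) →ₗ[R] M := Finsupp.linearCombination R id
  have hπ : Function.Surjective π := fun m => ⟨Finsupp.single m 1, by simp [π]⟩
  let σ : ((LinearMap.ker π : Submodule R _) →₀ R) →ₗ[R] LinearMap.ker π :=
    Finsupp.linearCombination R id
  have hσ : Function.Surjective σ := fun m => ⟨Finsupp.single m 1, by simp [σ]⟩
  let S₁ := ShortComplex.mk (X₁ := ModuleCat.of R (LinearMap.ker π))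
      (X₂ := ModuleCat.of R ((M : Type u) →₀ R)) (X₃ := M)
      (ModuleCat.ofHom (LinearMap.ker π).subtype) (ModuleCat.ofHom π)
      (ModuleCat.hom_ext (LinearMap.ext fun x => x.2))
  have hS₁ : S₁.ShortExact :=
    { exact := (ShortComplex.moduleCat_exact_iff _).2 fun x hx => ⟨⟨x, hx⟩, rfl⟩
      mono_f := (ModuleCat.mono_iff_injective _).2 (LinearMap.ker π).injective_subtype
      epi_g := (ModuleCat.epi_iff_surjective _).2 hπ }
  let S₂ := ShortComplex.mk (X₁ := ModuleCat.of R (LinearMap.ker σ))
      (X₂ := ModuleCat.of R ((LinearMap.ker π : Submodule R _) →₀ R))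
      (X₃ := ModuleCat.of R (LinearMap.ker π))
      (ModuleCat.ofHom (LinearMap.ker σ).subtype) (ModuleCat.ofHom σ)
      (ModuleCat.hom_ext (LinearMap.ext fun x => x.2))
  have hS₂ : S₂.ShortExact :=
    { exact := (ShortComplex.moduleCat_exact_iff _).2 fun x hx => ⟨⟨x, hx⟩, rfl⟩
      mono_f := (ModuleCat.mono_iff_injective _).2 (LinearMap.ker σ).injective_subtype
      epi_g := (ModuleCat.epi_iff_surjective _).2 hσ }
  have hfree := fun ι => topTensor_bijective_free I d ι
  have hker : Function.Surjective (topTensor I d (ModuleCat.of R (LinearMap.ker π))) := fun y => by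
    obtain ⟨w, rfl⟩ := map_g_surjective I d hcd hS₂ y
    obtain ⟨z, rfl⟩ := (hfree _).2 w
    exact ⟨_, (topTensor_naturality I d S₂.g z).symm⟩
  constructor
  · rw [injective_iff_map_eq_zero]
    intro z hz
    obtain ⟨w, rfl⟩ := LinearMap.lTensor_surjective
      ((localCohomology I d).obj (ModuleCat.of R R)) hπ z
    have h1 : (localCohomology I d).map S₁.g (topTensor I d S₁.X₂ w) = 0 :=
      (topTensor_naturality I d S₁.g w).trans hz
    obtain ⟨y, hy⟩ := exists_of_map_g_eq_zero I hS₁ d (x := topTensor I d S₁.X₂ w) h1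
    obtain ⟨z', rfl⟩ := hker y
    rw [topTensor_naturality] at hy
    rw [← (hfree _).1 hy, ← LinearMap.lTensor_comp_apply]
    rw [show π ∘ₗ S₁.f.hom = 0 from LinearMap.ext fun x => x.2, LinearMap.lTensor_zero,
      LinearMap.zero_apply]
  · intro y
    obtain ⟨w, rfl⟩ := map_g_surjective I d hcd hS₁ y
    obtain ⟨z, rfl⟩ := (hfree _).2 w
    exact ⟨_, (topTensor_naturality I d S₁.g z).symm⟩

/-- `H^d_I(M) ≅ H^d_I(R) ⊗ M` when `cd I ≤ d`. -/
noncomputable def topEquiv (hcd : LocCoh.CdLE R I d) (M : ModuleCat.{u} R) :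
    ((localCohomology I d).obj (ModuleCat.of R R) : Type u) ⊗[R] (M : Type u) ≃ₗ[R]
      (localCohomology I d).obj M :=
  LinearEquiv.ofBijective _ (topTensor_bijective I d hcd M)

theorem subsingleton_of_ring (hcd : LocCoh.CdLE R I d)
    (h : Subsingleton (LocCoh.H I d R)) (M : Type u) [AddCommGroup M] [Module R M] :
    Subsingleton (LocCoh.H I d M) := by
  haveI : Subsingleton ((localCohomology I d).obj (ModuleCat.of R R)) := h
  refine subsingleton_of_forall_eq 0 fun y => ?_
  obtain ⟨z, rfl⟩ := (topEquiv I d hcd (ModuleCat.of R M)).surjective y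
  induction z using TensorProduct.induction_on with
  | zero => exact map_zero _
  | tmul h m => rw [Subsingleton.elim h 0, TensorProduct.zero_tmul, map_zero]
  | add x x' hx hx' => rw [map_add, hx, hx', add_zero]

end GrothLib.LC
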