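import Groth.Agent.Lib.LC.OldExt
import Mathlib.Algebra.Category.ModuleCat.Ext.Basic

/-! The two `Ext` groups of `ModuleCat R` agree, naturally and linearly. -/

universe u

open CategoryTheory Limits Opposite Abelian

namespace GrothLib.LC

variable {R : Type u} [CommRing R] {X X' Y Y' : ModuleCat.{u} R}

theorem extMk_zero_eq_zero_iff (P : ProjectiveResolution X) (f : P.complex.X 0 ⟶ Y)
    (hf : P.complex.d 1 0 ≫ f = 0) : P.extMk f 1 rfl hf = 0 ↔ f = 0 := by
  constructor
  · intro h
    simp only [← P.extEquivCohomologyClass.apply_eq_iff_eq,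
      ProjectiveResolution.extEquivCohomologyClass_extMk,
      ProjectiveResolution.extEquivCohomologyClass_zero,
      CochainComplex.HomComplex.CohomologyClass.mk_eq_zero_iff] at h
    rw [CochainComplex.HomComplex.Cocycle.toSingleMk_mem_coboundaries_iff _ _ _ _ _ 1 (by simp)] at h
    obtain ⟨g, hg⟩ := h
    have hz : IsZero (P.cochainComplex.X 1) :=
      P.cochainComplex.isZero_of_isStrictlyLE 0 1
    rw [hz.eq_of_src g 0, comp_zero] at hg
    rw [← cancel_epi (P.cochainComplexXIso (-(0 : ℕ) : ℤ) 0 rfl).hom, comp_zero]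
    exact hg.symm
  · rintro rfl
    exact P.extMk_zero 1 rfl

theorem extMk_eq_iff_oldClass_eq (P : ProjectiveResolution X) (n : ℕ) (f g : P.complex.X n ⟶ Y)
    (hf : P.complex.d (n + 1) n ≫ f = 0) (hg : P.complex.d (n + 1) n ≫ g = 0) :
    P.extMk f (n + 1) rfl hf = P.extMk g (n + 1) rfl hg ↔ oldClass P n f hf = oldClass P n g hg := by
  have hfg : P.complex.d (n + 1) n ≫ (f - g) = 0 := by
    rw [Preadditive.comp_sub, hf, hg, sub_zero]
  have h1 : oldClass P n f hf = oldClass P n (f - g) hfg + oldClass P n g hg := by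
    rw [← oldClass_add]
    congr 1
    simp
  have h2 : P.extMk f (n + 1) rfl hf = P.extMk (f - g) (n + 1) rfl hfg + P.extMk g (n + 1) rfl hg := by
    rw [ProjectiveResolution.add_extMk]
    congr 1
    simp
  rw [h1, h2, add_eq_right, add_eq_right]
  rcases n with - | p
  · exact (extMk_zero_eq_zero_iff P _ _).trans (oldClass_zero_eq_zero_iff P _ _).symm
  · exact (P.extMk_eq_zero_iff (f - g) (p + 2) rfl hfg p rfl).trans
      (oldClass_succ_eq_zero_iff P p _ _).symm

theorem smul_extMk (P : ProjectiveResolution X) (n : ℕ) (r : R) (f : P.complex.X n ⟶ Y)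
    (hf : P.complex.d (n + 1) n ≫ f = 0) :
    r • P.extMk f (n + 1) rfl hf =
      P.extMk (r • f) (n + 1) rfl (by rw [Linear.comp_smul, hf, smul_zero]) := by
  rw [Ext.smul_eq_comp_mk₀, ProjectiveResolution.extMk_comp_mk₀]
  congr 1

/-- The chosen projective resolution of a module. -/
noncomputable abbrev projRes (X : ModuleCat.{u} R) : ProjectiveResolution X :=
  projectiveResolution X

/-- The comparison map between the two Ext groups. -/
noncomputable def toExtFun (X Y : ModuleCat.{u} R) (n : ℕ) (e : oldExt X Y n) : Ext X Y n :=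
  (projRes X).extMk (oldClass_surjective (projRes X) n e).choose (n + 1) rfl
    (oldClass_surjective (projRes X) n e).choose_spec.choose

theorem toExtFun_oldClass (n : ℕ) (f : (projRes X).complex.X n ⟶ Y)
    (hf : (projRes X).complex.d (n + 1) n ≫ f = 0) :
    toExtFun X Y n (oldClass (projRes X) n f hf) = (projRes X).extMk f (n + 1) rfl hf :=
  (extMk_eq_iff_oldClass_eq _ _ _ _ _ _).2
    (oldClass_surjective (projRes X) n (oldClass (projRes X) n f hf)).choose_spec.choose_spec

/-- The two Ext groups agree. -/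
noncomputable def extEquiv (X Y : ModuleCat.{u} R) (n : ℕ) : oldExt X Y n ≃ₗ[R] Ext X Y n :=
  LinearEquiv.ofBijective
    { toFun := toExtFun X Y n
      map_add' := fun a b => by
        obtain ⟨f, hf, rfl⟩ := oldClass_surjective (projRes X) n a
        obtain ⟨g, hg, rfl⟩ := oldClass_surjective (projRes X) n b
        rw [← oldClass_add, toExtFun_oldClass, toExtFun_oldClass, toExtFun_oldClass,
          ProjectiveResolution.add_extMk]
      map_smul' := fun r a => by
        obtain ⟨f, hf, rfl⟩ := oldClass_surjective (projRes X) n a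
        rw [← oldClass_smul, toExtFun_oldClass, toExtFun_oldClass, RingHom.id_apply,
          smul_extMk] }
    ⟨fun a b h => by
      obtain ⟨f, hf, rfl⟩ := oldClass_surjective (projRes X) n a
      obtain ⟨g, hg, rfl⟩ := oldClass_surjective (projRes X) n b
      simp only [LinearMap.coe_mk, AddHom.coe_mk, toExtFun_oldClass] at h
      exact (extMk_eq_iff_oldClass_eq _ _ _ _ _ _).1 h,
    fun e => by
      obtain ⟨f, hf, rfl⟩ := (projRes X).extMk_surjective e (n + 1) rfl
      exact ⟨oldClass (projRes X) n f hf, toExtFun_oldClass n f hf⟩⟩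

theorem extEquiv_oldClass (n : ℕ) (f : (projRes X).complex.X n ⟶ Y)
    (hf : (projRes X).complex.d (n + 1) n ≫ f = 0) :
    extEquiv X Y n (oldClass (projRes X) n f hf) = (projRes X).extMk f (n + 1) rfl hf :=
  toExtFun_oldClass n f hf

theorem extEquiv_naturality_right (g : Y ⟶ Y') (n : ℕ) (e : oldExt X Y n) :
    extEquiv X Y' n (((_root_.Ext R (ModuleCat.{u} R) n).obj (op X)).map g e) =
      (extEquiv X Y n e).comp (Ext.mk₀ g) (add_zero n) := by
  obtain ⟨f, hf, rfl⟩ := oldClass_surjective (projRes X) n e
  rw [oldClass_naturality_right, extEquiv_oldClass, extEquiv_oldClass,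
    ProjectiveResolution.extMk_comp_mk₀]

theorem extEquiv_naturality_left (g : X' ⟶ X) (n : ℕ) (e : oldExt X Y n) :
    extEquiv X' Y n (((_root_.Ext R (ModuleCat.{u} R) n).map g.op).app Y e) =
      (Ext.mk₀ g).comp (extEquiv X Y n e) (zero_add n) := by
  obtain ⟨f, hf, rfl⟩ := oldClass_surjective (projRes X) n e
  let φ := ProjectiveResolution.lift g (projRes X') (projRes X)
  have comm := ProjectiveResolution.lift_commutes_zero g (projRes X') (projRes X)
  rw [oldClass_naturality_left g _ (projRes X') φ comm, extEquiv_oldClass, extEquiv_oldClass]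
  let h : ProjectiveResolution.Hom (projRes X') (projRes X) g := ⟨φ, comm⟩
  exact (ProjectiveResolution.mk₀_comp_extMk f (n + 1) rfl hf h).symm

end GrothLib.LC
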