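import Groth.Agent.Lib.LC.RightExact
import Groth.Agent.Lib.LC.Support
import Mathlib.RingTheory.Ideal.Height
import Mathlib.RingTheory.KrullDimension.Basic

/-! Monotonicity of top local cohomology. -/

universe u

open CategoryTheory Limits Opposite Abelian

namespace GrothLib.LC

variable {R : Type u} [CommRing R] [IsNoetherianRing R]

theorem supportDim_localizedModule_lt {d : ℕ} (hd : ringKrullDim R ≤ (d : WithBot ℕ∞))
    (p : Ideal R) [p.IsPrime] {b : R} (hb : b ∈ (⊥ : Ideal R).jacobson) (hbp : b ∉ p)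
    (M : Type u) [AddCommGroup M] [Module R M] :
    Module.supportDim (Localization.AtPrime p) (LocalizedModule p.primeCompl M) <
      (d : WithBot ℕ∞) := by
  obtain ⟨m, hm, hpm⟩ := Ideal.exists_le_maximal p (Ideal.IsPrime.ne_top inferInstance)
  haveI := hm
  have hbm : b ∈ m := Ideal.mem_sInf.1 hb ⟨bot_le, hm⟩
  have hlt : p < m := lt_of_le_of_ne hpm fun h => hbp (h ▸ hbm)
  have h1 : (p.height : WithBot ℕ∞) + 1 ≤ (d : WithBot ℕ∞) :=
    ((WithBot.coe_add p.height 1).symm.le.trans
      (WithBot.coe_le_coe.2 (Ideal.height_add_one_le_of_lt_of_isPrime hlt))).trans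
      ((Ideal.height_le_ringKrullDim_of_ne_top hm.ne_top).trans hd)
  refine (Module.supportDim_le_ringKrullDim _ _).trans_lt ?_
  rw [IsLocalization.AtPrime.ringKrullDim_eq_height p (Localization.AtPrime p)]
  have h2 : p.height + 1 ≤ (d : ℕ∞) := by exact_mod_cast h1
  have h3 : p.height < (d : ℕ∞) := by
    cases hh : p.height using ENat.recTopCoe with
    | top => rw [hh] at h2; simp at h2
    | coe a => rw [hh] at h2; exact_mod_cast (by exact_mod_cast h2 : a + 1 ≤ d)
  exact WithBot.coe_lt_coe.2 h3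

theorem hmap_top_surjective {d : ℕ} (hd : ringKrullDim R ≤ (d : WithBot ℕ∞)) {I I' : Ideal R}
    (h : I ≤ I') (hJ : I' ≤ (⊥ : Ideal R).jacobson) (M : ModuleCat.{u} R) :
    Function.Surjective (hmap h d M).hom := by
  refine hmap_surjective_of_punctual M d I I' h fun p _ hp => ?_
  obtain ⟨b, hb, hbp⟩ := SetLike.not_le_iff_exists.1 hp
  exact subsingleton_of_supportDim_lt d _ _ _
    (supportDim_localizedModule_lt hd p.asIdeal (hJ hb) hbp M)

theorem subsingleton_top_of_le {d : ℕ} (hd : ringKrullDim R ≤ (d : WithBot ℕ∞)) {I I' : Ideal R}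
    (h : I ≤ I') (hJ : I' ≤ (⊥ : Ideal R).jacobson) (M : ModuleCat.{u} R)
    (hs : Subsingleton ((localCohomology I' d).obj M)) :
    Subsingleton ((localCohomology I d).obj M) :=
  (hmap_top_surjective hd h hJ M).subsingleton

theorem exists_prime_dim_quotient_eq_one [IsLocalRing R] (I : Ideal R)
    (h : 0 < ringKrullDim (R ⧸ I)) :
    ∃ p : Ideal R, p.IsPrime ∧ I ≤ p ∧ ringKrullDim (R ⧸ p) = 1 := by
  obtain ⟨P₀, hP₀⟩ : ∃ P : Ideal R, P.IsPrime ∧ I ≤ P ∧ P ≠ IsLocalRing.maximalIdeal R := by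
    by_contra hc
    push Not at hc
    have : Ring.KrullDimLE 0 (R ⧸ I) := Ring.KrullDimLE.mk₀ fun P hP => by
      have h1 : P.comap (Ideal.Quotient.mk I) = IsLocalRing.maximalIdeal R :=
        hc _ (Ideal.IsPrime.comap _) fun x hx => Ideal.mem_comap.2
          (by rw [Ideal.Quotient.eq_zero_iff_mem.2 hx]; exact zero_mem _)
      haveI : (P.comap (Ideal.Quotient.mk I)).IsMaximal :=
        h1 ▸ IsLocalRing.maximalIdeal.isMaximal R
      exact Ideal.isMaximal_of_isIntegral_of_isMaximal_comap' _ (RingHom.IsIntegral.of_finite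
        (RingHom.Finite.of_surjective _ Ideal.Quotient.mk_surjective)) P this
    exact absurd h (not_lt.2 (by simpa using Ring.krullDimLE_iff.1 this))
  obtain ⟨p, ⟨hp, hIp, hpm⟩, hmax⟩ := set_has_maximal_iff_noetherian.2 inferInstance
    {P : Ideal R | P.IsPrime ∧ I ≤ P ∧ P ≠ IsLocalRing.maximalIdeal R} ⟨P₀, hP₀⟩
  refine ⟨p, hp, hIp, le_antisymm ?_ ?_⟩
  · have : Ring.KrullDimLE 1 (R ⧸ p) := Ring.KrullDimLE.mk₁' fun Q hQ0 hQ => by
      have h1 : p < Q.comap (Ideal.Quotient.mk p) := lt_of_le_of_ne (fun x hx => Ideal.mem_comap.2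
        (by rw [Ideal.Quotient.eq_zero_iff_mem.2 hx]; exact zero_mem _)) fun he => hQ0 (by
          rw [← Ideal.map_comap_of_surjective _ Ideal.Quotient.mk_surjective Q, ← he,
            Ideal.map_quotient_self])
      have h2 : Q.comap (Ideal.Quotient.mk p) = IsLocalRing.maximalIdeal R := by
        by_contra hne
        exact hmax _ ⟨Ideal.IsPrime.comap _, hIp.trans h1.le, hne⟩ h1
      haveI : (Q.comap (Ideal.Quotient.mk p)).IsMaximal :=
        h2 ▸ IsLocalRing.maximalIdeal.isMaximal R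
      exact Ideal.isMaximal_of_isIntegral_of_isMaximal_comap' _ (RingHom.IsIntegral.of_finite
        (RingHom.Finite.of_surjective _ Ideal.Quotient.mk_surjective)) Q this
    exact_mod_cast Ring.krullDimLE_iff.1 this
  · by_contra hlt
    rw [not_le] at hlt
    have h0 : Ring.KrullDimLE 0 (R ⧸ p) := Ring.krullDimLE_iff.2 (by
      cases hh : ringKrullDim (R ⧸ p) using WithBot.recBotCoe with
      | bot => exact bot_le
      | coe a =>
        rw [hh] at hlt
        have h1 : a < 1 := by exact_mod_cast hlt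
        rw [ENat.lt_one_iff_eq_zero] at h1
        simp [h1])
    have hm : (⊥ : Ideal (R ⧸ p)).IsMaximal :=
      Ideal.isMaximal_of_isPrime (⊥ : Ideal (R ⧸ p))
    have := Ideal.comap_isMaximal_of_surjective (Ideal.Quotient.mk p) Ideal.Quotient.mk_surjective
      (K := ⊥)
    rw [← RingHom.ker_eq_comap_bot, Ideal.mk_ker] at this
    exact hpm (IsLocalRing.eq_maximalIdeal this)

end GrothLib.LC
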