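import Groth.Agent.Lib.LC.DT
import Groth.Agent.Lib.LC.Torsion

/-! Universal property of the ideal transform and its relation with `H^1`. -/

universe u

open CategoryTheory Limits Opposite Abelian

namespace GrothLib.LC

variable {R : Type u} [CommRing R] (I : Ideal R) {M M' K : ModuleCat.{u} R}

theorem ker_toDT (M : ModuleCat.{u} R) : LinearMap.ker (LocCoh.toDT I M) = DRing.torsionSub I M :=
  SetLike.ext fun m => toDT_eq_zero_iff I m

theorem coker_cond_of_isPowerTorsion {P Q : Type u} [AddCommGroup P] [Module R P] [AddCommGroup Q]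
    [Module R Q] {e : P →ₗ[R] Q} (h : LocCoh.IsPowerTorsion I (Q ⧸ LinearMap.range e)) (y : Q) :
    ∃ k, ∀ a ∈ I ^ k, a • y ∈ LinearMap.range e := by
  obtain ⟨k, hk⟩ := h (Submodule.Quotient.mk y)
  exact ⟨k, fun a ha => (Submodule.Quotient.mk_eq_zero _).1
    ((Submodule.Quotient.mk_smul _ a y).trans (hk a ha))⟩

variable [IsNoetherianRing R]

theorem map_bijective' (e : M ⟶ M') (hker : LinearMap.ker e.hom ≤ DRing.torsionSub I M)
    (hcoker : LocCoh.IsPowerTorsion I (M' ⧸ LinearMap.range e.hom)) :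
    Function.Bijective ((LocCoh.idealTransform I).map e) :=
  map_bijective I e hker (coker_cond_of_isPowerTorsion I hcoker)

theorem map_toDT_bijective (M : ModuleCat.{u} R) :
    Function.Bijective ((LocCoh.idealTransform I).map
      (ModuleCat.ofHom (LocCoh.toDT I M) : M ⟶ (LocCoh.idealTransform I).obj M)) :=
  map_bijective' I _ (ker_toDT I M).le (coker_toDT_isPowerTorsion I M)

/-- Maps into an ideal transform are determined on a submodule with power torsion cokernel. -/
theorem eq_of_comp_eq {e : M →ₗ[R] M'} (hcoker : LocCoh.IsPowerTorsion I (M' ⧸ LinearMap.range e))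
    {f g : M' →ₗ[R] (LocCoh.idealTransform I).obj K} (h : f ∘ₗ e = g ∘ₗ e) : f = g := by
  refine LinearMap.ext fun y => ?_
  obtain ⟨k, hk⟩ := coker_cond_of_isPowerTorsion I hcoker y
  have : f y - g y ∈ DRing.torsionSub I ((LocCoh.idealTransform I).obj K) := ⟨k, fun a ha => by
    obtain ⟨x, hx⟩ := hk a ha
    rw [smul_sub, ← map_smul, ← map_smul, ← hx, sub_eq_zero]
    exact LinearMap.congr_fun h x⟩
  rw [torsionSub_idealTransform, Submodule.mem_bot, sub_eq_zero] at this
  exact this

theorem existsUnique_factor (e : M ⟶ M') (hker : LinearMap.ker e.hom ≤ DRing.torsionSub I M)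
    (hcoker : LocCoh.IsPowerTorsion I (M' ⧸ LinearMap.range e.hom)) (ψ : M ⟶ K) :
    ∃! ψ' : M' →ₗ[R] (LocCoh.idealTransform I).obj K,
      ψ' ∘ₗ e.hom = LocCoh.toDT I K ∘ₗ ψ.hom := by
  let E := LinearEquiv.ofBijective ((LocCoh.idealTransform I).map e).hom
    (map_bijective' I e hker hcoker)
  refine ⟨((LocCoh.idealTransform I).map ψ).hom ∘ₗ E.symm.toLinearMap ∘ₗ LocCoh.toDT I M',
    LinearMap.ext fun x => ?_, fun g hg => eq_of_comp_eq I hcoker (hg.trans ?_)⟩
  · show (LocCoh.idealTransform I).map ψ (E.symm (LocCoh.toDT I M' (e x))) = LocCoh.toDT I K (ψ x)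
    rw [← map_toDT, ← map_toDT]
    exact congrArg _ (E.symm_apply_apply _)
  · refine LinearMap.ext fun x => Eq.symm ?_
    show (LocCoh.idealTransform I).map ψ (E.symm (LocCoh.toDT I M' (e x))) = LocCoh.toDT I K (ψ x)
    rw [← map_toDT, ← map_toDT]
    exact congrArg _ (E.symm_apply_apply _)

theorem toDT_idealTransform_eq (M : ModuleCat.{u} R) :
    LocCoh.toDT I ((LocCoh.idealTransform I).obj M) =
      ((LocCoh.idealTransform I).map
        (ModuleCat.ofHom (LocCoh.toDT I M) : M ⟶ (LocCoh.idealTransform I).obj M)).hom :=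
  eq_of_comp_eq I (coker_toDT_isPowerTorsion I M)
    (LinearMap.ext fun m => (map_toDT I (ModuleCat.ofHom (LocCoh.toDT I M) :
      M ⟶ (LocCoh.idealTransform I).obj M) m).symm)

theorem toDT_idealTransform_bijective (M : ModuleCat.{u} R) :
    Function.Bijective (LocCoh.toDT I ((LocCoh.idealTransform I).obj M)) := by
  rw [toDT_idealTransform_eq]
  exact map_toDT_bijective I M

omit [IsNoetherianRing R] in
theorem injective_toDT_iff (M : ModuleCat.{u} R) :
    Function.Injective (LocCoh.toDT I M) ↔ DRing.torsionSub I M = ⊥ := by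
  rw [← ker_toDT, LinearMap.ker_eq_bot]

end GrothLib.LC
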