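import Groth.Agent.Lib.LC.ExtHom
import Groth.Agent.Lib.LC.Torsion
import Groth.Agent.S5163
import Groth.Agent.S7038

/-! Vanishing of `H^i_J(G)` below `n` versus vanishing of `Ext^i(F, G)`. -/

universe u

open CategoryTheory Limits Opposite Abelian

namespace GrothLib.LC

variable {R : Type u} [CommRing R] [IsNoetherianRing R] (J : Ideal R) {G : ModuleCat.{u} R}

theorem subsingleton_ext_of_H {n : ℕ}
    (h : ∀ i < n, Subsingleton ((localCohomology J i).obj G)) :
    ∀ i < n, ∀ (F : ModuleCat.{u} R), Module.Finite R F →
      (∃ m, J ^ m ≤ Module.annihilator R F) → Subsingleton (Ext F G i) := by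
  intro i
  induction i using Nat.strong_induction_on with
  | _ i ih =>
  intro hi F _ ⟨m, hm⟩
  have hvan : ExtPredVanish J G i := fun F' hF' hm' j hj =>
    ih j (by omega) (by omega) F' hF' hm'
  have := h i hi
  exact (extToHom_injective J hm hvan).subsingleton

theorem subsingleton_H_of_ext {n : ℕ} (F : ModuleCat.{u} R) [Module.Finite R F]
    (hF : Module.support R F = PrimeSpectrum.zeroLocus (J : Set R))
    (h : ∀ i < n, Subsingleton (Ext F G i)) :
    ∀ i < n, Subsingleton ((localCohomology J i).obj G) := by
  intro i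
  induction i using Nat.strong_induction_on with
  | _ i ih =>
  intro hi
  obtain ⟨m, hm⟩ := exists_pow_le_annihilator J hF.subset
  have hvan : ExtPredVanish J G i := fun F' hF' hm' j hj =>
    subsingleton_ext_of_H J (n := i) (fun l hl => ih l hl (hl.trans hi)) j (by omega) F' hF' hm'
  have := h i hi
  have hH : Subsingleton (F →ₗ[R] (localCohomology J i).obj G) :=
    (extToHom_surjective J hm hvan).subsingleton
  refine Groth.Agent.S5163.result R F ((localCohomology J i).obj G) ?_ hH
  exact hF.symm ▸ (Groth.Agent.S7038.result J _).1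
    (isPowerTorsion J i G)

omit [IsNoetherianRing R] in
theorem support_quotient_eq : Module.support R (R ⧸ J) = PrimeSpectrum.zeroLocus (J : Set R) := by
  rw [Module.support_eq_zeroLocus, Ideal.annihilator_quotient]

omit [IsNoetherianRing R] in
theorem pow_le_annihilator_quotient : J ^ 1 ≤ Module.annihilator R (R ⧸ J) := by
  rw [pow_one, Ideal.annihilator_quotient]

theorem forall_subsingleton_H_iff (n : ℕ) :
    (∀ i < n, Subsingleton ((localCohomology J i).obj G)) ↔
      ∀ i < n, Subsingleton (Ext (ModuleCat.of R (R ⧸ J)) G i) :=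
  ⟨fun h i hi => subsingleton_ext_of_H J h i hi _ inferInstance ⟨1, pow_le_annihilator_quotient J⟩,
    fun h => subsingleton_H_of_ext J (ModuleCat.of R (R ⧸ J)) (support_quotient_eq J) h⟩

end GrothLib.LC
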