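import Groth.Agent.Lib.LC.Derived
import Groth.Prelude.Def_DualLC
import Mathlib.Algebra.Homology.HomologySequenceLemmas

/-! The comparison maps `H^i_{I'} → H^i_I` for `I ≤ I'`. -/

universe u

open CategoryTheory Limits Opposite Abelian

namespace GrothLib.LC

variable {R : Type u} [CommRing R] {I I' : Ideal R} (h : I ≤ I')

/-- `R/I^n → R/I'^n`. -/
noncomputable def quotLE (n : ℕ) : quotPow I n ⟶ quotPow I' n :=
  (Dual2.quotMapOfLE h).app (op n)

theorem quotLE_oneQ (n : ℕ) : quotLE h n (oneQ I n) = oneQ I' n := rfl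

/-- The comparison map on `H^i`. -/
noncomputable abbrev hmap (i : ℕ) (M : ModuleCat.{u} R) :
    (localCohomology I' i).obj M ⟶ (localCohomology I i).obj M :=
  (Dual2.HmapOfLE h i).app M

theorem hmap_toH (i n : ℕ) (M : ModuleCat.{u} R) (e : Ext (quotPow I' n) M i) :
    hmap h i M (toH I' i n M e) = toH I i n M ((Ext.mk₀ (quotLE h n)).comp e (zero_add i)) := by
  obtain ⟨a, rfl⟩ := (extEquiv (quotPow I' n) M i).surjective e
  rw [toH_extEquiv, ← extEquiv_naturality_left, toH_extEquiv]
  exact ConcreteCategory.congr_hom (congrArg (fun φ => φ.app M)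
    (Limits.ι_colimMap
      (Functor.whiskerRight (NatTrans.op (Dual2.quotMapOfLE h)) (_root_.Ext R (ModuleCat.{u} R) i) :
        localCohomology.diagram (localCohomology.idealPowersDiagram I') i ⟶
          localCohomology.diagram (localCohomology.idealPowersDiagram I) i)
      (op (op n)))) a

theorem hmap_naturality (i : ℕ) {M M' : ModuleCat.{u} R} (f : M ⟶ M')
    (x : (localCohomology I' i).obj M) :
    hmap h i M' ((localCohomology I' i).map f x) = (localCohomology I i).map f (hmap h i M x) :=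
  ConcreteCategory.congr_hom ((Dual2.HmapOfLE h i).naturality f) x

theorem hmap_δ {S : ShortComplex (ModuleCat.{u} R)} (hS : S.ShortExact) (i : ℕ)
    (x : (localCohomology I' i).obj S.X₃) :
    hmap h (i + 1) S.X₁ (δ I' hS i x) = δ I hS i (hmap h i S.X₃ x) := by
  obtain ⟨n, e, rfl⟩ := exists_toH I' x
  rw [δ_toH, hmap_toH, hmap_toH, δ_toH]
  congr 1
  exact (Ext.comp_assoc _ _ _ (zero_add i) rfl (by simp)).symm

include h in
theorem torsionSub_le (M : Type u) [AddCommGroup M] [Module R M] :
    DRing.torsionSub I' M ≤ DRing.torsionSub I M :=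
  fun _ ⟨n, hn⟩ => ⟨n, fun a ha => hn a (Ideal.pow_right_mono h n ha)⟩

theorem hmap_torsionEquiv (M : ModuleCat.{u} R) (x : DRing.torsionSub I' M) :
    hmap h 0 M (torsionEquiv I' M x) = torsionEquiv I M ⟨x.1, torsionSub_le h M x.2⟩ := by
  obtain ⟨n, hn⟩ := x.2
  have hx : x = ⟨homOfTors I' M hn (oneQ I' n), eval_mem I' M _⟩ :=
    Subtype.ext (homOfTors_oneQ I' M hn).symm
  refine (congrArg (fun t => hmap h 0 M (torsionEquiv I' M t)) hx).trans ?_
  rw [torsionEquiv_eval, hmap_toH, Ext.mk₀_comp_mk₀, ← torsionEquiv_eval]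
  exact congrArg _ (Subtype.ext (homOfTors_oneQ I' M hn))

/-- The inclusion `Γ_{I'} ⊆ Γ_I`. -/
def gammaLE (h : I ≤ I') : DRing.gammaI I' ⟶ DRing.gammaI I where
  app M := ModuleCat.ofHom (Submodule.inclusion (torsionSub_le h M))
  naturality _ _ _ := rfl

theorem gammaLE_injective (M : ModuleCat.{u} R) : Function.Injective ((gammaLE h).app M) :=
  Submodule.inclusion_injective (torsionSub_le h M)

/-- The inclusion of `Γ` complexes. -/
noncomputable abbrev gammaComplexLE {M : ModuleCat.{u} R} (J : InjectiveResolution M) :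
    gammaComplex I' J ⟶ gammaComplex I J :=
  (NatTrans.mapHomologicalComplex (gammaLE h) _).app J.cocomplex

theorem homologyEquiv_le {M : ModuleCat.{u} R} (J : InjectiveResolution M) (i : ℕ)
    (c : (gammaComplex I' J).homology i) :
    homologyEquiv I J i (HomologicalComplex.homologyMap (gammaComplexLE h J) i c) =
      hmap h i M (homologyEquiv I' J i c) := by
  obtain ⟨x, hx, rfl⟩ := classOf_surjective i c
  obtain ⟨n, f, hf, hfx⟩ := exists_cocycle_hom I' J hx
  rw [classOf_map, homologyEquiv_classOf, homologyEquiv_classOf, cocFun_eq I' J x hx f hf hfx,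
    hmap_toH, InjectiveResolution.mk₀_comp_extMk]
  exact cocFun_eq I J _ _ (quotLE h n ≫ f) _ hfx

end GrothLib.LC
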