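import Groth.Agent.Lib.CMFree.Params
import Groth.Prelude.Def_W4bk5brsh16IT
import Mathlib.Algebra.CharP.Lemmas
import Mathlib.RingTheory.Filtration

/-! Tightly closed parameter ideals in Cohen–Macaulay local rings. -/

universe u

open IsLocalRing RingTheory.Sequence

namespace GrothLib.TightSop

variable {R : Type u} [CommRing R]

theorem frobPow_eq_map (p : ℕ) [Fact p.Prime] [CharP R p] (I : Ideal R) (e : ℕ) :
    LocCoh.frobPow I (p ^ e) = I.map (iterateFrobenius R p e) := by
  refine congrArg Ideal.span (Set.ext fun x => ?_)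
  exact ⟨fun ⟨y, hy, h⟩ => ⟨y, hy, h.symm⟩, fun ⟨y, hy, h⟩ => ⟨y, hy, h.symm⟩⟩

theorem frobPow_ofList (p : ℕ) [Fact p.Prime] [CharP R p] (l : List R) (e : ℕ) :
    LocCoh.frobPow (Ideal.ofList l) (p ^ e) = Ideal.ofList (l.map (· ^ p ^ e)) := by
  rw [frobPow_eq_map, Ideal.map_ofList]
  rfl

theorem tightClosure_mono {p : ℕ} {I J : Ideal R} (h : I ≤ J) :
    LocCoh.tightClosure p I ⊆ LocCoh.tightClosure p J := fun r ⟨c, hc, e₀, he⟩ =>
  ⟨c, hc, e₀, fun e h' => Ideal.span_mono (s := {x | ∃ y ∈ I, x = y ^ (p ^ e)}) (t := {x | ∃ y ∈ J, x = y ^ (p ^ e)}) (fun x ⟨y, hy, hx⟩ => ⟨y, h hy, hx⟩) (he e h')⟩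

theorem ofList_perm {l l' : List R} (h : l.Perm l') : Ideal.ofList l = Ideal.ofList l' :=
  congrArg Ideal.span (Set.ext fun _ => h.mem_iff)

variable [IsNoetherianRing R] [IsLocalRing R]

/-- The data of a Cohen–Macaulay local ring of dimension `n`. -/
structure CM (R : Type u) [CommRing R] [IsLocalRing R] (n : ℕ) : Prop where
  dim : ringKrullDim R = n
  depth : (n : ℕ∞) ≤ LocCoh.idealDepth (maximalIdeal R) (R ⧸ (⊥ : Ideal R))

theorem cm_of_inst (n : ℕ) (h : Module.supportDim R R = ((LocCoh.depth R R : ℕ∞) : WithBot ℕ∞))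
    (hd : ringKrullDim R = n) : CM R n := by
  refine ⟨hd, ?_⟩
  rw [Module.supportDim_self_eq_ringKrullDim, hd] at h
  have hn : (n : ℕ∞) = LocCoh.depth R R := WithBot.coe_injective h
  have hm : maximalIdeal R • (⊤ : Submodule R R) ≠ ⊤ := by
    rw [smul_eq_mul, Ideal.mul_top]; exact (maximalIdeal.isMaximal R).ne_top
  let e : (R ⧸ (⊥ : Ideal R)) ≃ₗ[R] R := Submodule.quotEquivOfEqBot ⊥ rfl
  have hm' : maximalIdeal R • (⊤ : Submodule R (R ⧸ (⊥ : Ideal R))) ≠ ⊤ := fun h => hm (by
    have := congrArg (Submodule.map e.toLinearMap) h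
    rwa [Submodule.map_smul'', Submodule.map_top, LinearEquiv.range] at this)
  obtain ⟨l, hl, hlm, hlr⟩ := (GrothLib.Depth.le_idealDepth_iff_exists _ hm n).1 hn.le
  exact (GrothLib.Depth.le_idealDepth_iff_exists _ hm' _).2
    ⟨l, hl, hlm, (e.isWeaklyRegular_congr l).2 hlr⟩

/-- A system of parameters. -/
def IsSop (n : ℕ) (l : List R) : Prop :=
  l.length = n ∧ (Ideal.ofList l).radical = maximalIdeal R

omit [IsNoetherianRing R] in
theorem IsSop.mem {n : ℕ} {l : List R} (h : IsSop n l) {x : R} (hx : x ∈ l) : x ∈ maximalIdeal R :=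
  h.2 ▸ Ideal.le_radical (Ideal.subset_span hx)

omit [IsNoetherianRing R] in
theorem IsSop.perm {n : ℕ} {l l' : List R} (h : IsSop n l) (hp : l.Perm l') : IsSop n l' :=
  ⟨hp.length_eq ▸ h.1, ofList_perm hp ▸ h.2⟩

omit [IsNoetherianRing R] in
theorem ringKrullDim_quotient_le_zero {I : Ideal R} (h : I.radical = maximalIdeal R) :
    ringKrullDim (R ⧸ I) ≤ (0 : WithBot ℕ∞) := by
  have : Ring.KrullDimLE 0 (R ⧸ I) := Ring.KrullDimLE.mk₀ fun P hP => by
    have h1 : P.comap (Ideal.Quotient.mk I) = maximalIdeal R := by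
      refine le_antisymm (le_maximalIdeal (Ideal.IsPrime.comap _).ne_top) ?_
      rw [← h, (Ideal.IsPrime.comap _).radical_le_iff]
      intro x hx
      rw [Ideal.mem_comap, Ideal.Quotient.eq_zero_iff_mem.2 hx]
      exact zero_mem _
    haveI : (P.comap (Ideal.Quotient.mk I)).IsMaximal := h1 ▸ maximalIdeal.isMaximal R
    exact Ideal.isMaximal_of_isIntegral_of_isMaximal_comap' _ (RingHom.IsIntegral.of_finite
      (RingHom.Finite.of_surjective _ Ideal.Quotient.mk_surjective)) P this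
  simpa using Ring.krullDimLE_iff.1 this

theorem isWeaklyRegular_of_sop {n : ℕ} (hR : CM R n) {l : List R} (h : IsSop n l) :
    IsWeaklyRegular R l := by
  let e : (R ⧸ (⊥ : Ideal R)) ≃ₗ[R] R := Submodule.quotEquivOfEqBot ⊥ rfl
  refine (e.isWeaklyRegular_congr l).1 (GrothLib.CMFree.isWeaklyRegular_of_dim l (fun r hr => h.mem hr)
    ⊥ n bot_le hR.depth fun m hm => ?_)
  rw [bot_sup_eq] at hm
  have := hm.trans (add_le_add_left (ringKrullDim_quotient_le_zero h.2) _)
  rw [zero_add, h.1] at this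
  exact_mod_cast this

theorem sop_pow {n : ℕ} {l l' : List R} (h : IsSop n l) (hlen : l'.length = l.length)
    (hle : Ideal.ofList l' ≤ maximalIdeal R) (hmem : ∀ x ∈ l, ∃ k : ℕ, x ^ k ∈ Ideal.ofList l') :
    IsSop n l' := by
  refine ⟨hlen.trans h.1, le_antisymm ?_ ?_⟩
  · exact (maximalIdeal.isMaximal R).isPrime.radical_le_iff.2 hle
  · rw [← h.2]
    refine Ideal.radical_le_radical_iff.2 (Ideal.span_le.2 fun x hx => ?_)
    obtain ⟨k, hk⟩ := hmem x hx
    exact ⟨k, hk⟩

/-- The colon property of a system of parameters. -/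
theorem mem_of_mul_mem {n : ℕ} (hR : CM R n) {y : R} {xs : List R} (h : IsSop n (y :: xs)) {r : R}
    (hr : y * r ∈ Ideal.ofList xs) : r ∈ Ideal.ofList xs := by
  have hreg := isWeaklyRegular_of_sop hR (h.perm (List.perm_append_singleton y xs).symm)
  rw [isWeaklyRegular_append_iff, isWeaklyRegular_singleton_iff] at hreg
  have h1 : ∀ z : R, z ∈ Ideal.ofList xs ↔
      (Submodule.Quotient.mk z : R ⧸ (Ideal.ofList xs • (⊤ : Submodule R R))) = 0 := fun z => by
    rw [Submodule.Quotient.mk_eq_zero, smul_eq_mul, Ideal.mul_top]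
  refine (h1 r).2 (hreg.2 ?_)
  show y • (Submodule.Quotient.mk r : R ⧸ _) = y • 0
  rw [smul_zero, ← Submodule.Quotient.mk_smul, smul_eq_mul]
  exact (h1 _).1 hr

theorem sop_pow_head {n : ℕ} {y : R} {xs : List R} (h : IsSop n (y :: xs)) {t : ℕ} (ht : 0 < t) :
    IsSop n (y ^ t :: xs) := by
  refine sop_pow h (by simp) (Ideal.span_le.2 ?_) fun x hx => ?_
  · intro x hx
    rcases List.mem_cons.1 hx with rfl | hx
    · exact Ideal.pow_mem_of_mem _ (h.mem List.mem_cons_self) t ht
    · exact h.mem (List.mem_cons_of_mem _ hx)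
  · rcases List.mem_cons.1 hx with rfl | hx
    · exact ⟨t, Ideal.subset_span List.mem_cons_self⟩
    · exact ⟨1, by rw [pow_one]; exact Ideal.subset_span (List.mem_cons_of_mem _ hx)⟩

variable (p : ℕ) [Fact p.Prime] [CharP R p]

theorem sop_frob {n : ℕ} {l : List R} (h : IsSop n l) (e : ℕ) :
    IsSop n (l.map (· ^ p ^ e)) := by
  have hq : 0 < p ^ e := pow_pos (Fact.out : p.Prime).pos e
  refine sop_pow h (by simp) (Ideal.span_le.2 ?_) fun x hx =>
    ⟨p ^ e, Ideal.subset_span (List.mem_map.2 ⟨x, hx, rfl⟩)⟩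
  intro x hx
  obtain ⟨z, hz, rfl⟩ := List.mem_map.1 hx
  exact Ideal.pow_mem_of_mem _ (h.mem hz) _ hq

/-- Raising one parameter to a power. -/
theorem isTightlyClosed_pow_head {n : ℕ} (hR : CM R n) {y : R} {xs : List R}
    (h : IsSop n (y :: xs)) (hc : LocCoh.IsTightlyClosed p (Ideal.ofList (y :: xs))) :
    ∀ t : ℕ, 0 < t → LocCoh.IsTightlyClosed p (Ideal.ofList (y ^ t :: xs)) := by
  intro t ht
  induction t with
  | zero => omega
  | succ t ih =>
    rcases Nat.eq_zero_or_pos t with rfl | ht'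
    · simpa using hc
    intro r hr
    have hle : Ideal.ofList (y ^ (t + 1) :: xs) ≤ Ideal.ofList (y ^ t :: xs) := by
      rw [Ideal.ofList_cons, Ideal.ofList_cons]
      refine sup_le_sup_right ((Ideal.span_singleton_le_iff_mem _).2
        (Ideal.mem_span_singleton'.2 ⟨y, by rw [pow_succ, mul_comm]⟩)) _
    have hr' : r ∈ Ideal.ofList (y ^ t :: xs) := ih ht' (tightClosure_mono hle hr)
    rw [Ideal.ofList_cons] at hr'
    obtain ⟨a, ha, j, hj, rfl⟩ := Submodule.mem_sup.1 hr'
    obtain ⟨u, rfl⟩ := Ideal.mem_span_singleton'.1 ha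
    suffices hu : u ∈ Ideal.ofList (y :: xs) by
      rw [Ideal.ofList_cons] at hu ⊢
      obtain ⟨b, hb, k, hk, rfl⟩ := Submodule.mem_sup.1 hu
      obtain ⟨v, rfl⟩ := Ideal.mem_span_singleton'.1 hb
      refine Submodule.mem_sup.2 ⟨v * y ^ (t + 1), Ideal.mem_span_singleton'.2 ⟨v, rfl⟩,
        k * y ^ t + j, add_mem (Ideal.mul_mem_right _ _ hk) hj, by ring⟩
    obtain ⟨c, hc0, e₀, he⟩ := hr
    refine hc ⟨c, hc0, e₀, fun e hee => ?_⟩
    have h1 := he e hee
    rw [frobPow_ofList, List.map_cons, Ideal.ofList_cons] at h1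
    rw [frobPow_ofList, List.map_cons, Ideal.ofList_cons]
    obtain ⟨a, ha, k, hk, hak⟩ := Submodule.mem_sup.1 h1
    obtain ⟨v, rfl⟩ := Ideal.mem_span_singleton'.1 ha
    have hsop : IsSop n ((y ^ p ^ e) ^ t :: xs.map (· ^ p ^ e)) :=
      sop_pow_head (by simpa using sop_frob p h e) ht'
    have hj' : c * j ^ p ^ e ∈ Ideal.ofList (xs.map (· ^ p ^ e)) := by
      refine Ideal.mul_mem_left _ _ ?_
      rw [← frobPow_ofList p xs e]
      exact Ideal.subset_span ⟨j, hj, rfl⟩
    have hmem : (y ^ p ^ e) ^ t * (c * u ^ p ^ e - v * y ^ p ^ e) ∈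
        Ideal.ofList (xs.map (· ^ p ^ e)) := by
      have heq : (y ^ p ^ e) ^ t * (c * u ^ p ^ e - v * y ^ p ^ e) = k - c * j ^ p ^ e := by
        have hexp : c * (u * y ^ t + j) ^ p ^ e =
            c * u ^ p ^ e * (y ^ p ^ e) ^ t + c * j ^ p ^ e := by
          rw [add_pow_char_pow, mul_pow, ← pow_mul, mul_comm t, pow_mul, mul_add, mul_assoc]
        have hy : (y ^ (t + 1)) ^ p ^ e = (y ^ p ^ e) ^ t * y ^ p ^ e := by
          rw [← pow_mul, mul_comm (t + 1), pow_mul, pow_succ]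
        rw [hexp] at hak
        simp only [hy] at hak
        linear_combination -hak
      rw [heq]
      exact sub_mem hk hj'
    exact Submodule.mem_sup.2 ⟨v * y ^ p ^ e, Ideal.mem_span_singleton'.2 ⟨v, rfl⟩, _,
      mem_of_mul_mem hR hsop hmem, by ring⟩

theorem isTightlyClosed_pow_all {n : ℕ} (hR : CM R n) (t : R → ℕ) :
    ∀ (xs done : List R) (ts : List ℕ), ts.length = xs.length → (∀ s ∈ ts, 0 < s) →
      IsSop n (done ++ xs) → LocCoh.IsTightlyClosed p (Ideal.ofList (done ++ xs)) →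
      LocCoh.IsTightlyClosed p (Ideal.ofList (done ++ List.zipWith (fun x s => x ^ s) xs ts)) := by
  intro xs
  induction xs with
  | nil => intro done ts _ _ _ hc; simpa using hc
  | cons x xs ih =>
    intro done ts hlen hpos hsop hc
    cases ts with
    | nil => simp at hlen
    | cons s ts =>
      have hperm : (done ++ x :: xs).Perm (x :: (done ++ xs)) := List.perm_middle
      have h1 := sop_pow_head (hsop.perm hperm) (hpos s List.mem_cons_self)
      have h2 := isTightlyClosed_pow_head p hR (hsop.perm hperm) (by rwa [← ofList_perm hperm]) s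
        (hpos s List.mem_cons_self)
      have hperm' : (x ^ s :: (done ++ xs)).Perm ((done ++ [x ^ s]) ++ xs) := by
        rw [List.append_assoc]; exact List.perm_middle.symm
      have h3 := ih (done ++ [x ^ s]) ts (by simpa using hlen)
        (fun a ha => hpos a (List.mem_cons_of_mem _ ha)) (h1.perm hperm') (by rwa [← ofList_perm hperm'])
      simpa [List.append_assoc] using h3

/-- Exchanging one parameter. -/
theorem isTightlyClosed_exchange {n : ℕ} (hR : CM R n) {y z : R} {xs : List R}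
    (hy : IsSop n (y :: xs)) (hz : IsSop n (z :: xs))
    (hc : LocCoh.IsTightlyClosed p (Ideal.ofList (z :: xs))) :
    LocCoh.IsTightlyClosed p (Ideal.ofList (y :: xs)) := by
  obtain ⟨N, hN⟩ : ∃ N : ℕ, z ^ N ∈ Ideal.ofList (y :: xs) :=
    (show z ∈ (Ideal.ofList (y :: xs)).radical from hy.2 ▸ hz.mem List.mem_cons_self)
  have hN' : z ^ (N + 1) ∈ Ideal.ofList (y :: xs) := by
    rw [pow_succ]; exact Ideal.mul_mem_right _ _ hN
  have hc' := isTightlyClosed_pow_head p hR hz hc (N + 1) N.succ_pos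
  have hsop := sop_pow_head hz N.succ_pos
  generalize z ^ (N + 1) = Z at hN' hc' hsop
  rw [Ideal.ofList_cons] at hN'
  obtain ⟨a, ha, j, hj, hZ⟩ := Submodule.mem_sup.1 hN'
  obtain ⟨w, rfl⟩ := Ideal.mem_span_singleton'.1 ha
  intro r hr
  obtain ⟨c, hc0, e₀, he⟩ := hr
  have hwr : w * r ∈ Ideal.ofList (Z :: xs) := by
    refine hc' ⟨c, hc0, e₀, fun e hee => ?_⟩
    have h1 := he e hee
    rw [frobPow_ofList, List.map_cons, Ideal.ofList_cons] at h1 ⊢
    obtain ⟨a, ha, k, hk, hak⟩ := Submodule.mem_sup.1 h1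
    obtain ⟨v, rfl⟩ := Ideal.mem_span_singleton'.1 ha
    have hj' : j ^ p ^ e ∈ Ideal.ofList (xs.map (· ^ p ^ e)) := by
      rw [← frobPow_ofList p xs e]
      exact Ideal.subset_span ⟨j, hj, rfl⟩
    refine Submodule.mem_sup.2 ⟨v * Z ^ p ^ e, Ideal.mem_span_singleton'.2 ⟨v, rfl⟩,
      w ^ p ^ e * k - v * j ^ p ^ e,
      sub_mem (Ideal.mul_mem_left _ _ hk) (Ideal.mul_mem_left _ _ hj'), ?_⟩
    have hexp : Z ^ p ^ e = w ^ p ^ e * y ^ p ^ e + j ^ p ^ e := by
      rw [← hZ, add_pow_char_pow, mul_pow]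
    rw [mul_pow]
    linear_combination (w ^ p ^ e) * hak + v * hexp
  rw [Ideal.ofList_cons] at hwr ⊢
  obtain ⟨a, ha, k, hk, hak⟩ := Submodule.mem_sup.1 hwr
  obtain ⟨v, rfl⟩ := Ideal.mem_span_singleton'.1 ha
  have hmem : Z * (r - v * y) ∈ Ideal.ofList xs := by
    have heq : Z * (r - v * y) = y * k + j * r := by
      linear_combination (-r) * hZ - y * hak
    rw [heq]
    exact add_mem (Ideal.mul_mem_left _ _ hk) (Ideal.mul_mem_right _ _ hj)
  exact Submodule.mem_sup.2 ⟨v * y, Ideal.mem_span_singleton'.2 ⟨v, rfl⟩, _,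
    mem_of_mul_mem hR hsop hmem, by ring⟩

omit p in
theorem exists_common {n : ℕ} (hR : CM R n) {xs xs' : List R} {a b : R} (ha : IsSop n (a :: xs))
    (hb : IsSop n (b :: xs')) : ∃ z, IsSop n (z :: xs) ∧ IsSop n (z :: xs') := by
  classical
  let S := (Ideal.ofList xs).minimalPrimes ∪ (Ideal.ofList xs').minimalPrimes
  have hfin : S.Finite := (Ideal.finite_minimalPrimes_of_isNoetherianRing R _).union
    (Ideal.finite_minimalPrimes_of_isNoetherianRing R _)
  have hne : ∀ (a : R) (ys : List R), IsSop n (a :: ys) → ∀ q ∈ (Ideal.ofList ys).minimalPrimes,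
      ¬ maximalIdeal R ≤ q := by
    intro a ys hys q hq hle
    haveI := hq.1.1
    have h1 : q.height ≤ (ys.length : ℕ∞) := by
      refine (Ideal.height_le_card_of_mem_minimalPrimes_span_finset (s := ys.toFinset)
        (by rwa [List.coe_toFinset])).trans ?_
      exact_mod_cast List.toFinset_card_le ys
    have h2 : q = maximalIdeal R := le_antisymm (le_maximalIdeal hq.1.1.ne_top) hle
    have h3 : ((q.height : ℕ∞) : WithBot ℕ∞) = ringKrullDim R := by
      rw [h2]; exact IsLocalRing.maximalIdeal_height_eq_ringKrullDim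
    rw [hR.dim] at h3
    have h4 : q.height = (n : ℕ∞) := WithBot.coe_injective h3
    rw [h4, Nat.cast_le] at h1
    have := hys.1
    simp at this
    omega
  have hav : ∀ P ∈ S, ¬ maximalIdeal R ≤ P := fun P hP => hP.elim (hne a xs ha P) (hne b xs' hb P)
  obtain ⟨z, hz, hzav⟩ : ∃ z ∈ maximalIdeal R, ∀ P ∈ S, z ∉ P := by
    by_contra hc
    push Not at hc
    have : (maximalIdeal R : Set R) ⊆ ⋃ P ∈ (hfin.toFinset : Set (Ideal R)), (P : Set R) := fun x hx => by
      obtain ⟨P, hP, hxP⟩ := hc x hx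
      exact Set.mem_biUnion (hfin.mem_toFinset.2 hP) hxP
    obtain ⟨P, hP, hle⟩ := (Ideal.subset_union_prime (f := fun P : Ideal R => P) ⊥ ⊥
      fun P hP _ _ => (hfin.mem_toFinset.1 hP).elim (fun h => h.1.1) (fun h => h.1.1)).1 this
    exact hav P (hfin.mem_toFinset.1 hP) hle
  have key : ∀ (a : R) (ys : List R), IsSop n (a :: ys) →
      (∀ q ∈ (Ideal.ofList ys).minimalPrimes, z ∉ q) → IsSop n (z :: ys) := by
    intro a ys hys hzq
    have hle : Ideal.ofList (z :: ys) ≤ maximalIdeal R := Ideal.span_le.2 fun x hx => by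
      rcases List.mem_cons.1 hx with rfl | hx
      · exact hz
      · exact hys.mem (List.mem_cons_of_mem _ hx)
    refine ⟨by simpa using hys.1, le_antisymm
      ((maximalIdeal.isMaximal R).isPrime.radical_le_iff.2 hle) ?_⟩
    rw [Ideal.radical_eq_sInf]
    refine le_sInf fun P ⟨hP, hPp⟩ => ?_
    haveI := hPp
    rw [Ideal.ofList_cons, sup_le_iff, Ideal.span_singleton_le_iff_mem] at hP
    obtain ⟨q, hq, hqP⟩ := Ideal.exists_minimalPrimes_le hP.2
    haveI := hq.1.1
    have hlt : q < P := lt_of_le_of_ne hqP fun he => hzq q hq (he ▸ hP.1)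
    by_contra hne'
    have hlt' : P < maximalIdeal R := lt_of_le_of_ne (le_maximalIdeal hPp.ne_top) fun he => hne' he.ge
    -- `dim R/(ys) ≤ 1`
    have hdim : ringKrullDim (R ⧸ Ideal.ofList ys) ≤ (1 : WithBot ℕ∞) := by
      let J := Ideal.ofList ys
      have hjac : Ideal.span {Ideal.Quotient.mk J a} ≤ Ring.jacobson (R ⧸ J) := by
        rw [Ideal.span_singleton_le_iff_mem, Ring.jacobson_eq_sInf_isMaximal]
        refine Submodule.mem_sInf.2 fun Q (hQ : Ideal.IsMaximal Q) => ?_
        have hc : (Ideal.comap (Ideal.Quotient.mk J) Q).IsMaximal :=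
          Ideal.comap_isMaximal_of_surjective _ Ideal.Quotient.mk_surjective
        change a ∈ Ideal.comap (Ideal.Quotient.mk J) Q
        rw [IsLocalRing.eq_maximalIdeal hc]
        exact hys.mem List.mem_cons_self
      refine (ringKrullDim_le_ringKrullDim_quotient_add_spanFinrank _ hjac).trans ?_
      have hzero : ringKrullDim ((R ⧸ J) ⧸ Ideal.span {Ideal.Quotient.mk J a}) ≤ (0 : WithBot ℕ∞) := by
        rw [← Set.image_singleton, ← Ideal.map_span]
        rw [ringKrullDim_eq_of_ringEquiv (DoubleQuot.quotQuotEquivQuotSup J (Ideal.span {a})),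
          sup_comm, ← Ideal.ofList_cons]
        exact ringKrullDim_quotient_le_zero hys.2
      refine (add_le_add hzero ?_).trans (le_of_eq (zero_add _))
      have : (Ideal.span {Ideal.Quotient.mk J a}).spanFinrank ≤ 1 :=
        (Submodule.spanFinrank_span_le_ncard_of_finite (Set.finite_singleton _)).trans
          (Set.ncard_singleton _).le
      exact_mod_cast this
    rw [ringKrullDim_quotient] at hdim
    let hm : PrimeSpectrum R := ⟨maximalIdeal R, inferInstance⟩
    let l : LTSeries (PrimeSpectrum.zeroLocus (R := R) (Ideal.ofList ys : Set R)) :=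
      ((RelSeries.singleton _ ⟨⟨q, inferInstance⟩, hq.1.2⟩).snoc ⟨⟨P, inferInstance⟩, hP.2⟩
        (show (⟨q, inferInstance⟩ : PrimeSpectrum R) < ⟨P, inferInstance⟩ from hlt)).snoc
        ⟨hm, hP.2.trans hlt'.le⟩ (by simpa using (show (⟨P, inferInstance⟩ : PrimeSpectrum R) < hm from hlt'))
    have h5 : (l.length : WithBot ℕ∞) ≤ 1 := (Order.LTSeries.length_le_krullDim l).trans hdim
    have h6 : l.length ≤ 1 := by exact_mod_cast h5
    simp [l] at h6
  exact ⟨z, key a xs ha (fun q hq => hzav q (Or.inl hq)), key b xs' hb (fun q hq => hzav q (Or.inr hq))⟩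

theorem isTightlyClosed_of_one {n : ℕ} (hR : CM R n) : ∀ (m : ℕ) (zs as bs : List R),
    as.length = m → bs.length = m → IsSop n (zs ++ as) → IsSop n (zs ++ bs) →
    LocCoh.IsTightlyClosed p (Ideal.ofList (zs ++ as)) →
    LocCoh.IsTightlyClosed p (Ideal.ofList (zs ++ bs)) := by
  intro m
  induction m with
  | zero =>
    intro zs as bs ha hb _ _ hc
    rw [List.length_eq_zero_iff] at ha hb
    rwa [hb, ← ha]
  | succ m ih =>
    intro zs as bs ha hb hsa hsb hc
    obtain ⟨a, as, rfl⟩ := List.exists_cons_of_length_eq_add_one ha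
    obtain ⟨b, bs, rfl⟩ := List.exists_cons_of_length_eq_add_one hb
    have hpa : (zs ++ a :: as).Perm (a :: (zs ++ as)) := List.perm_middle
    have hpb : (zs ++ b :: bs).Perm (b :: (zs ++ bs)) := List.perm_middle
    obtain ⟨z, hza, hzb⟩ := exists_common hR (hsa.perm hpa) (hsb.perm hpb)
    have h1 := isTightlyClosed_exchange p hR hza (hsa.perm hpa) (by rwa [← ofList_perm hpa])
    have hpz : ∀ ys : List R, (z :: (zs ++ ys)).Perm ((zs ++ [z]) ++ ys) := fun ys => by
      rw [List.append_assoc]; exact List.perm_middle.symm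
    have h2 := ih (zs ++ [z]) as bs (by simpa using ha) (by simpa using hb) (hza.perm (hpz as))
      (hzb.perm (hpz bs)) (by rwa [← ofList_perm (hpz as)])
    rw [ofList_perm hpb]
    exact isTightlyClosed_exchange p hR (hsb.perm hpb) hzb (by rwa [ofList_perm (hpz bs)])

end GrothLib.TightSop
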