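import Groth.Agent.Lib.LC.Basic
import Groth.Prelude.Def_W4bk5brsh16IT
import Mathlib.RingTheory.Filtration

/-! Elements of ideal transforms `D_I(M) = colim Hom(I^n, M)`. -/

universe u

open CategoryTheory Limits Opposite

namespace GrothLib.LC

variable {R : Type u} [CommRing R] (I : Ideal R) {M M' : ModuleCat.{u} R}

/-- `I^n` as an object of `ModuleCat R`. -/
noncomputable abbrev powI (n : ℕ) : ModuleCat.{u} R := ModuleCat.of R ↥(I ^ n)

/-- The inclusion `I^m ⟶ I^n` for `n ≤ m`. -/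
noncomputable def inclI {n m : ℕ} (h : n ≤ m) : powI I m ⟶ powI I n :=
  (localCohomology.idealPowersDiagram I ⋙ LocCoh.idealModFunctor).map (homOfLE h).op

/-- The canonical map `Hom(I^n, M) → D_I(M)`. -/
noncomputable def toD (n : ℕ) (M : ModuleCat.{u} R) :
    (powI I n ⟶ M) →ₗ[R] (LocCoh.idealTransform I).obj M :=
  ((colimit.ι (LocCoh.transformDiagram I) (op (op n))).app M).hom

/-- The cocone exhibiting `D_I(M)` as a filtered colimit. -/
noncomputable def isColimitEvalD (M : ModuleCat.{u} R) :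
    IsColimit (((evaluation _ _).obj M).mapCocone (colimit.cocone (LocCoh.transformDiagram I))) :=
  isColimitOfPreserves _ (colimit.isColimit _)

theorem exists_toD (x : (LocCoh.idealTransform I).obj M) :
    ∃ (n : ℕ) (f : powI I n ⟶ M), toD I n M f = x := by
  obtain ⟨j, y, hy⟩ := Concrete.isColimit_exists_rep _ (isColimitEvalD I M) x
  exact ⟨j.unop.unop, y, hy⟩

theorem toD_eq_toD_iff {n m : ℕ} (f : powI I n ⟶ M) (g : powI I m ⟶ M) :
    toD I n M f = toD I m M g ↔
      ∃ (k : ℕ) (hn : n ≤ k) (hm : m ≤ k), inclI I hn ≫ f = inclI I hm ≫ g := by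
  refine (Concrete.isColimit_rep_eq_iff_exists _ (i := op (op n)) (j := op (op m))
    (isColimitEvalD I M) f g).trans ?_
  constructor
  · rintro ⟨k, a, b, h⟩
    exact ⟨k.unop.unop, leOfHom a.unop.unop, leOfHom b.unop.unop, h⟩
  · rintro ⟨k, hn, hm, h⟩
    exact ⟨op (op k), (homOfLE hn).op.op, (homOfLE hm).op.op, h⟩

theorem toD_restrict {n m : ℕ} (h : n ≤ m) (f : powI I n ⟶ M) :
    toD I m M (inclI I h ≫ f) = toD I n M f :=
  (toD_eq_toD_iff I _ _).2 ⟨m, le_rfl, h, ModuleCat.hom_ext (LinearMap.ext fun _ => rfl)⟩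

theorem exists_toD_ge (x : (LocCoh.idealTransform I).obj M) (N : ℕ) :
    ∃ (n : ℕ) (_ : N ≤ n) (f : powI I n ⟶ M), toD I n M f = x := by
  obtain ⟨n, f, rfl⟩ := exists_toD I x
  exact ⟨max n N, le_max_right _ _, _, toD_restrict I (le_max_left n N) f⟩

theorem toD_eq_zero_iff {n : ℕ} (f : powI I n ⟶ M) :
    toD I n M f = 0 ↔ ∃ m, n ≤ m ∧ ∀ (a : R) (ha : a ∈ I ^ n), a ∈ I ^ m → f ⟨a, ha⟩ = 0 := by
  rw [← map_zero (toD I n M), toD_eq_toD_iff]
  constructor
  · rintro ⟨k, hn, _, h⟩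
    exact ⟨k, hn, fun a ha hak => ConcreteCategory.congr_hom h ⟨a, hak⟩⟩
  · rintro ⟨m, hm, h⟩
    exact ⟨m, hm, hm, ModuleCat.hom_ext (LinearMap.ext fun a => h _ _ a.2)⟩

theorem map_toD (g : M ⟶ M') {n : ℕ} (f : powI I n ⟶ M) :
    (LocCoh.idealTransform I).map g (toD I n M f) = toD I n M' (f ≫ g) :=
  (ConcreteCategory.congr_hom ((colimit.ι (LocCoh.transformDiagram I) (op (op n))).naturality g) f).symm

theorem toDT_apply (m : M) :
    LocCoh.toDT I M m = toD I 0 M (LocCoh.smulHom (I ^ 0) M m) := rfl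

theorem smulHom_apply (J : Ideal R) (m : M) (a : J) : (LocCoh.smulHom J M m).hom a = (a : R) • m :=
  rfl

theorem toDT_eq_toD (n : ℕ) (m : M) :
    LocCoh.toDT I M m = toD I n M (LocCoh.smulHom (I ^ n) M m) := by
  rw [toDT_apply, ← toD_restrict I (Nat.zero_le n)]
  rfl

theorem toD_eq_toDT {n : ℕ} (f : powI I n ⟶ M) (m : M)
    (h : ∀ a : ↥(I ^ n), f a = (a : R) • m) : toD I n M f = LocCoh.toDT I M m := by
  rw [toDT_eq_toD I n]
  exact congrArg _ (ModuleCat.hom_ext (LinearMap.ext h))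

theorem map_toDT (g : M ⟶ M') (m : M) :
    (LocCoh.idealTransform I).map g (LocCoh.toDT I M m) = LocCoh.toDT I M' (g m) := by
  rw [toDT_apply, map_toD]
  exact toD_eq_toDT I _ _ fun a => map_smul g.hom (a : R) m

theorem toDT_eq_zero_iff (m : M) : LocCoh.toDT I M m = 0 ↔ m ∈ DRing.torsionSub I M := by
  rw [toDT_apply, toD_eq_zero_iff]
  constructor
  · rintro ⟨k, -, h⟩
    exact ⟨k, fun a ha => h a (by simp) ha⟩
  · rintro ⟨k, hk⟩
    exact ⟨k, Nat.zero_le k, fun a _ ha => hk a ha⟩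

theorem smul_toD {n : ℕ} (f : powI I n ⟶ M) {a : R} (ha : a ∈ I ^ n) :
    a • toD I n M f = LocCoh.toDT I M (f ⟨a, ha⟩) := by
  rw [← map_smul]
  refine toD_eq_toDT I _ _ fun b => ?_
  show a • f b = (b : R) • f ⟨a, ha⟩
  rw [← map_smul, ← map_smul]
  exact congrArg f (Subtype.ext (mul_comm a b))

theorem coker_toDT_isPowerTorsion (M : ModuleCat.{u} R) :
    LocCoh.IsPowerTorsion I ((LocCoh.idealTransform I).obj M ⧸ LinearMap.range (LocCoh.toDT I M)) := by
  intro x
  obtain ⟨x, rfl⟩ := Submodule.Quotient.mk_surjective _ x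
  obtain ⟨n, f, rfl⟩ := exists_toD I x
  refine ⟨n, fun a ha => ?_⟩
  rw [← Submodule.Quotient.mk_smul, smul_toD I f ha, Submodule.Quotient.mk_eq_zero]
  exact LinearMap.mem_range_self _ _

variable [IsNoetherianRing R]

omit [IsNoetherianRing R] in
theorem exists_pow_smul_eq_zero {N : Type u} [AddCommGroup N] [Module R N] (P : Submodule R N)
    (hP : P.FG) (h : P ≤ DRing.torsionSub I N) : ∃ k, ∀ a ∈ I ^ k, ∀ x ∈ P, a • x = 0 := by
  classical
  obtain ⟨s, rfl⟩ := hP
  choose e he using fun x : s => h (Submodule.subset_span x.2)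
  refine ⟨Finset.univ.sup e, fun a ha x hx => ?_⟩
  induction hx using Submodule.span_induction with
  | mem x hx => exact he ⟨x, hx⟩ a (Ideal.pow_le_pow_right (Finset.le_sup (Finset.mem_univ _)) ha)
  | zero => exact smul_zero a
  | add x y _ _ hx hy => rw [smul_add, hx, hy, add_zero]
  | smul r x _ hx => rw [smul_comm, hx, smul_zero]

omit [IsNoetherianRing R] in
theorem map_mem_of_mem_mul {N : Type u} [AddCommGroup N] [Module R N] {J K : Ideal R}
    (f : ↥J →ₗ[R] N) (P : Submodule R N) (h : ∀ p ∈ K, ∀ q : J, p • f q ∈ P) {x : R}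
    (hx : x ∈ K * J) (hx' : x ∈ J) : f ⟨x, hx'⟩ ∈ P := by
  revert hx'
  induction hx using Submodule.mul_induction_on' with
  | mem_mul_mem p hp q hq =>
    intro hpq
    have : (⟨p * q, hpq⟩ : J) = p • (⟨q, hq⟩ : J) := Subtype.ext rfl
    rw [this, map_smul]
    exact h p hp _
  | add x hx y hy ihx ihy =>
    intro hxy
    have : (⟨x + y, hxy⟩ : J) = (⟨x, (Ideal.mul_le_right : K * J ≤ J) hx⟩ : J) +
        ⟨y, (Ideal.mul_le_right : K * J ≤ J) hy⟩ :=
      Subtype.ext rfl
    rw [this, map_add]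
    exact P.add_mem (ihx _) (ihy _)

omit [IsNoetherianRing R] in
theorem toD_eq_zero_of_pow_smul {n k : ℕ} (f : powI I n ⟶ M)
    (h : ∀ a ∈ I ^ k, ∀ b, a • f b = 0) : toD I n M f = 0 := by
  rw [toD_eq_zero_iff]
  refine ⟨k + n, Nat.le_add_left n k, fun a _ ha => ?_⟩
  rw [pow_add] at ha
  exact (Submodule.mem_bot R).1 (map_mem_of_mem_mul f.hom ⊥
    (fun p hp q => (Submodule.mem_bot R).2 (h p hp q)) ha _)

theorem toD_eq_zero_of_range_le {n : ℕ} (f : powI I n ⟶ M)
    (h : ∀ b, f b ∈ DRing.torsionSub I M) : toD I n M f = 0 := by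
  obtain ⟨k, hk⟩ := exists_pow_smul_eq_zero I (LinearMap.range f.hom)
    (Submodule.map_top f.hom ▸ (IsNoetherian.noetherian (⊤ : Submodule R ↥(I ^ n))).map f.hom)
    (by rintro _ ⟨b, rfl⟩; exact h b)
  exact toD_eq_zero_of_pow_smul I f fun a ha b => hk a ha _ (LinearMap.mem_range_self _ b)

theorem torsionSub_idealTransform (M : ModuleCat.{u} R) :
    DRing.torsionSub I ((LocCoh.idealTransform I).obj M) = ⊥ := by
  rw [eq_bot_iff]
  rintro x ⟨k, hk⟩
  obtain ⟨n, hn, f, rfl⟩ := exists_toD_ge I x k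
  refine toD_eq_zero_of_range_le I f fun b => ?_
  have hb : (b : R) ∈ I ^ k := Ideal.pow_le_pow_right hn b.2
  rw [← toDT_eq_zero_iff, ← smul_toD I f b.2, hk _ hb]

theorem exists_lift {N : Type u} [AddCommGroup N] [Module R N] [Module.Finite R N]
    (e : M →ₗ[R] M') (hker : LinearMap.ker e ≤ DRing.torsionSub I M) (f : N →ₗ[R] M')
    (hf : ∀ x, f x ∈ LinearMap.range e) :
    ∃ (j : ℕ) (h : ↥(I ^ j • ⊤ : Submodule R N) →ₗ[R] M), ∀ x, e (h x) = f (x : N) := by
  classical
  obtain ⟨r, π, hπ⟩ := Module.Finite.exists_fin' R N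
  obtain ⟨g, hg⟩ := Module.projective_lifting_property (LinearMap.rangeRestrict e)
    (LinearMap.codRestrict _ f hf ∘ₗ π) e.surjective_rangeRestrict
  have hge : ∀ y, e (g y) = f (π y) := fun y => congrArg Subtype.val (LinearMap.congr_fun hg y)
  obtain ⟨l, hl⟩ := exists_pow_smul_eq_zero I (Submodule.map g (LinearMap.ker π))
    ((IsNoetherian.noetherian _).map g) (by
      rintro _ ⟨y, hy, rfl⟩
      exact hker (by rw [LinearMap.mem_ker, hge, LinearMap.mem_ker.1 hy, map_zero]))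
  obtain ⟨k, hk⟩ := I.exists_pow_inf_eq_pow_smul (LinearMap.ker π)
  let P : Submodule R (Fin r → R) := I ^ (l + k) • ⊤
  have hmap : Submodule.map π P = (I ^ (l + k) • ⊤ : Submodule R N) := by
    rw [Submodule.map_smul'', Submodule.map_top, LinearMap.range_eq_top.2 hπ]
  have hvan : ∀ y : P, π y = 0 → g y = 0 := by
    rintro ⟨y, hy⟩ h0
    have hyk : y ∈ I ^ (l + k) • ⊤ ⊓ LinearMap.ker π := ⟨hy, h0⟩
    rw [hk (l + k) (Nat.le_add_left k l), Nat.add_sub_cancel] at hyk
    have hyl : y ∈ I ^ l • LinearMap.ker π :=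
      Submodule.smul_mono le_rfl inf_le_right hyk
    show g y = 0
    refine Submodule.smul_induction_on hyl (fun a ha z hz => ?_) (fun z w hz hw => ?_)
    · rw [map_smul]; exact hl a ha _ ⟨z, hz, rfl⟩
    · rw [map_add, hz, hw, add_zero]
  let p : P →ₗ[R] ↥(I ^ (l + k) • ⊤ : Submodule R N) :=
    LinearMap.codRestrict _ (π ∘ₗ P.subtype) fun y => hmap ▸ Submodule.mem_map_of_mem y.2
  have hp : Function.Surjective p := fun x => by
    obtain ⟨y, hy, hyx⟩ := Submodule.mem_map.1 (hmap.symm ▸ x.2 : (x : N) ∈ Submodule.map π P)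
    exact ⟨⟨y, hy⟩, Subtype.ext hyx⟩
  refine ⟨l + k, (LinearMap.ker p).liftQ (g ∘ₗ P.subtype) (fun y hy => hvan y
    (congrArg Subtype.val (LinearMap.mem_ker.1 hy))) ∘ₗ
      (p.quotKerEquivOfSurjective hp).symm.toLinearMap, fun x => ?_⟩
  obtain ⟨y, rfl⟩ := hp x
  have : (p.quotKerEquivOfSurjective hp).symm (p y) = Submodule.Quotient.mk y := by
    rw [LinearEquiv.symm_apply_eq]; rfl
  simp only [LinearMap.comp_apply, LinearEquiv.coe_coe, this]
  exact hge y

theorem map_bijective (e : M ⟶ M') (hker : LinearMap.ker e.hom ≤ DRing.torsionSub I M)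
    (hcoker : ∀ y : M', ∃ k, ∀ a ∈ I ^ k, a • y ∈ LinearMap.range e.hom) :
    Function.Bijective ((LocCoh.idealTransform I).map e) := by
  constructor
  · rw [injective_iff_map_eq_zero]
    intro x hx
    obtain ⟨n, f, rfl⟩ := exists_toD I x
    rw [map_toD, toD_eq_zero_iff] at hx
    obtain ⟨m, hm, h⟩ := hx
    rw [← toD_restrict I hm f]
    exact toD_eq_zero_of_range_le I _ fun b => hker (h b (Ideal.pow_le_pow_right hm b.2) b.2)
  · intro x
    obtain ⟨n, f, rfl⟩ := exists_toD I x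
    obtain ⟨s, hs⟩ := IsNoetherian.noetherian (⊤ : Submodule R ↥(I ^ n))
    choose k hk using fun b : s => hcoker (f b.1)
    let K := Finset.univ.sup k
    have hK : ∀ a ∈ I ^ K, ∀ b, a • f b ∈ LinearMap.range e.hom := by
      intro a ha b
      have hb : b ∈ Submodule.span R (s : Set ↥(I ^ n)) := hs ▸ Submodule.mem_top
      induction hb using Submodule.span_induction with
      | mem b hb => exact hk ⟨b, hb⟩ a (Ideal.pow_le_pow_right (Finset.le_sup (Finset.mem_univ _)) ha)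
      | zero => rw [map_zero, smul_zero]; exact Submodule.zero_mem _
      | add b c _ _ hb hc => rw [map_add, smul_add]; exact Submodule.add_mem _ hb hc
      | smul r b _ hb => rw [map_smul, smul_comm]; exact Submodule.smul_mem _ r hb
    have hrange : ∀ b : ↥(I ^ (K + n)), f (inclI I (Nat.le_add_left n K) b) ∈ LinearMap.range e.hom := by
      rintro ⟨b, hb⟩
      rw [pow_add] at hb
      exact map_mem_of_mem_mul f.hom _ hK hb _
    have : Module.Finite R ↥(I ^ (K + n)) := Module.Finite.iff_fg.2 (IsNoetherian.noetherian _)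
    obtain ⟨j, h, hh⟩ := exists_lift I e.hom hker (inclI I (Nat.le_add_left n K) ≫ f).hom hrange
    have hmem : ∀ c : ↥(I ^ (j + (K + n))), inclI I (Nat.le_add_left (K + n) j) c ∈
        (I ^ j • ⊤ : Submodule R ↥(I ^ (K + n))) := by
      rintro ⟨c, hc⟩
      rw [← (Submodule.map_le_map_iff_of_injective (I ^ (K + n)).injective_subtype
        (Submodule.span R {inclI I (Nat.le_add_left (K + n) j) ⟨c, hc⟩}) (I ^ j • ⊤)).trans
          (Submodule.span_singleton_le_iff_mem _ _), Submodule.map_smul'', Submodule.map_subtype_top,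
        Submodule.map_span, Set.image_singleton, Submodule.span_singleton_le_iff_mem,
        Ideal.smul_eq_mul, ← pow_add]
      exact hc
    refine ⟨toD I (j + (K + n)) M (ModuleCat.ofHom (h ∘ₗ LinearMap.codRestrict _
      (inclI I (Nat.le_add_left (K + n) j)).hom hmem)), ?_⟩
    rw [map_toD, ← toD_restrict I ((Nat.le_add_left n K).trans (Nat.le_add_left (K + n) j)) f]
    exact congrArg _ (ModuleCat.hom_ext (LinearMap.ext fun c => hh _))

end GrothLib.LC
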