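import Groth.Agent.Lib.LC.Seq
import Mathlib.RingTheory.Support
import Mathlib.RingTheory.Noetherian.Basic
import Mathlib.RingTheory.Ideal.Quotient.Noetherian

/-! `Ext^n(F, G) ≅ Hom(F, H^n_J(G))` when `Ext^(n-1)(-, G)` vanishes on `J`-supported modules. -/

universe u

open CategoryTheory Limits Opposite Abelian

namespace GrothLib.LC

variable {R : Type u} [CommRing R] (J : Ideal R) {F G : ModuleCat.{u} R} {n : ℕ}

theorem exists_pow_le_annihilator [IsNoetherianRing R] {F : Type u} [AddCommGroup F] [Module R F]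
    [Module.Finite R F] (hF : Module.support R F ⊆ PrimeSpectrum.zeroLocus (J : Set R)) :
    ∃ k, J ^ k ≤ Module.annihilator R F := by
  rw [Module.support_eq_zeroLocus, PrimeSpectrum.zeroLocus_subset_zeroLocus_iff] at hF
  exact Ideal.exists_pow_le_of_le_radical_of_fg hF (IsNoetherian.noetherian J)

theorem support_subset_of_pow_le_annihilator {F : Type u} [AddCommGroup F] [Module R F] {k : ℕ}
    (h : J ^ k ≤ Module.annihilator R F) :
    Module.support R F ⊆ PrimeSpectrum.zeroLocus (J : Set R) := by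
  intro p hp r hr
  exact p.2.mem_of_pow_mem k (Module.annihilator_le_of_mem_support hp (h (Ideal.pow_mem_pow hr k)))

variable {k : ℕ} (hk : J ^ k ≤ Module.annihilator R F)

include hk in
theorem smul_eq_zero_of_mem {a : R} (ha : a ∈ J ^ k) (x : F) : a • x = 0 :=
  Module.mem_annihilator.1 (hk ha) x

/-- The map `R/J^k → F` given by an element. -/
noncomputable def elemHom (x : F) : quotPow J k ⟶ F :=
  ModuleCat.ofHom (Submodule.liftQ (J ^ k) (LinearMap.toSpanSingleton R F x)
    fun a ha => smul_eq_zero_of_mem J hk ha x)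

theorem elemHom_mk (x : F) (r : R) : elemHom J hk x (Ideal.Quotient.mk (J ^ k) r) = r • x := rfl

theorem quotPow_hom_ext {X : ModuleCat.{u} R} {f g : quotPow J k ⟶ X}
    (h : ∀ r : R, f (Ideal.Quotient.mk (J ^ k) r) = g (Ideal.Quotient.mk (J ^ k) r)) : f = g :=
  ModuleCat.hom_ext (Submodule.linearMap_qext _ (LinearMap.ext h))

/-- `Ext^n(F, G) → Hom(F, H^n_J(G))`. -/
noncomputable def extToHom (G : ModuleCat.{u} R) (n : ℕ) :
    Ext F G n →ₗ[R] (F →ₗ[R] (localCohomology J n).obj G) where
  toFun e :=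
    { toFun := fun x => toH J n k G ((Ext.mk₀ (elemHom J hk x)).comp e (zero_add n))
      map_add' := fun x y => by
        rw [← map_add, ← Ext.add_comp, ← Ext.mk₀_add]
        exact congrArg (fun f => toH J n k G ((Ext.mk₀ f).comp e (zero_add n)))
          (quotPow_hom_ext J fun r => smul_add r x y)
      map_smul' := fun c x => by
        rw [RingHom.id_apply, ← map_smul, ← Ext.smul_comp, ← Ext.mk₀_smul]
        exact congrArg (fun f => toH J n k G ((Ext.mk₀ f).comp e (zero_add n)))
          (quotPow_hom_ext J fun r => smul_comm r c x) }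
  map_add' e e' := LinearMap.ext fun x => by
    show toH J n k G _ = toH J n k G _ + toH J n k G _
    rw [← map_add, Ext.comp_add]
  map_smul' c e := LinearMap.ext fun x => by
    show toH J n k G _ = c • toH J n k G _
    rw [← map_smul, Ext.comp_smul]

theorem extToHom_apply (e : Ext F G n) (x : F) :
    extToHom J hk G n e x = toH J n k G ((Ext.mk₀ (elemHom J hk x)).comp e (zero_add n)) := rfl

/-- Hypothesis: `Ext^(n-1)` vanishes on finite `J`-supported modules. -/
def ExtPredVanish (G : ModuleCat.{u} R) (n : ℕ) : Prop :=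
  ∀ (F' : ModuleCat.{u} R), Module.Finite R F' → (∃ m, J ^ m ≤ Module.annihilator R F') →
    ∀ i, i + 1 = n → Subsingleton (Ext F' G i)

theorem precomp_injective_of_surjective (hvan : ExtPredVanish J G n) {X Y : ModuleCat.{u} R}
    (f : X ⟶ Y) (hf : Function.Surjective f) [Module.Finite R X] [IsNoetherianRing R]
    (hX : ∃ m, J ^ m ≤ Module.annihilator R X)
    (e : Ext Y G n) (he : (Ext.mk₀ f).comp e (zero_add n) = 0) : e = 0 := by
  let S : ShortComplex (ModuleCat.{u} R) := ShortComplex.mk
    (X₁ := ModuleCat.of R (LinearMap.ker f.hom)) (ModuleCat.ofHom (LinearMap.ker f.hom).subtype) f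
    (ModuleCat.hom_ext (LinearMap.ext fun x => x.2))
  have hS : S.ShortExact :=
    { exact := (ShortComplex.moduleCat_exact_iff _).2 fun x hx => ⟨⟨x, hx⟩, rfl⟩
      mono_f := (ModuleCat.mono_iff_injective _).2 (LinearMap.ker f.hom).injective_subtype
      epi_g := (ModuleCat.epi_iff_surjective _).2 hf }
  rcases n with - | i
  · have : Epi f := (ModuleCat.epi_iff_surjective _).2 hf
    rw [← Ext.mk₀_addEquiv₀_apply e, Ext.mk₀_comp_mk₀, Ext.mk₀_eq_zero_iff] at he
    rw [← Ext.mk₀_addEquiv₀_apply e, Ext.mk₀_eq_zero_iff, ← cancel_epi f, comp_zero, he]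
  · obtain ⟨y, rfl⟩ := Ext.contravariant_sequence_exact₃ hS G e he (Nat.add_comm 1 i)
    obtain ⟨m, hm⟩ := hX
    have := hvan S.X₁ (inferInstanceAs (Module.Finite R (LinearMap.ker f.hom)))
      ⟨m, hm.trans (LinearMap.annihilator_le_of_injective _ (LinearMap.ker f.hom).injective_subtype)⟩ i rfl
    rw [Subsingleton.elim y 0, Ext.comp_zero]

theorem sum_proj_comp_single {r : ℕ} (X : ModuleCat.{u} R) :
    (∑ j : Fin r, (ModuleCat.ofHom (LinearMap.proj j) : ModuleCat.of R (Fin r → X) ⟶ X) ≫
      ModuleCat.ofHom (LinearMap.single R (fun _ : Fin r => X) j)) = 𝟙 _ := by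
  refine ModuleCat.hom_ext (LinearMap.ext fun v => ?_)
  rw [ModuleCat.hom_sum, LinearMap.sum_apply]
  exact Finset.univ_sum_single v

/-- The map `(R/J^m)^r → F` given by elements `x j`. -/
noncomputable def presHom {m r : ℕ} (hm : k ≤ m) (x : Fin r → F) :
    ModuleCat.of R (Fin r → quotPow J m) ⟶ F :=
  ModuleCat.ofHom (∑ j, (quotMap J hm ≫ elemHom J hk (x j)).hom ∘ₗ LinearMap.proj j)

theorem presHom_single_apply {m r : ℕ} (hm : k ≤ m) (x : Fin r → F) (j : Fin r) (q : quotPow J m) :
    presHom J hk hm x (Pi.single j q) = elemHom J hk (x j) (quotMap J hm q) := by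
  show (∑ i, (quotMap J hm ≫ elemHom J hk (x i)).hom ∘ₗ LinearMap.proj i) (Pi.single j q) = _
  rw [LinearMap.sum_apply, Finset.sum_eq_single j]
  · exact congrArg (quotMap J hm ≫ elemHom J hk (x j)).hom
      (Pi.single_eq_same (M := fun _ => quotPow J m) j q)
  · intro i _ hij
    rw [LinearMap.comp_apply, LinearMap.proj_apply, Pi.single_eq_of_ne hij, map_zero]
  · simp

theorem single_presHom {m r : ℕ} (hm : k ≤ m) (x : Fin r → F) (j : Fin r) :
    ModuleCat.ofHom (LinearMap.single R (fun _ : Fin r => quotPow J m) j) ≫ presHom J hk hm x =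
      quotMap J hm ≫ elemHom J hk (x j) :=
  ModuleCat.hom_ext (LinearMap.ext fun q => presHom_single_apply J hk hm x j q)

theorem presHom_surjective {m r : ℕ} (hm : k ≤ m) (x : Fin r → F)
    (hx : Submodule.span R (Set.range x) = ⊤) : Function.Surjective (presHom J hk hm x) := by
  intro z
  have hz : z ∈ LinearMap.range (presHom J hk hm x).hom := by
    refine (Submodule.span_le.2 ?_ : Submodule.span R (Set.range x) ≤ _) (hx ▸ Submodule.mem_top)
    rintro _ ⟨j, rfl⟩
    exact ⟨Pi.single j (Ideal.Quotient.mk (J ^ m) 1),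
      (presHom_single_apply J hk hm x j _).trans (one_smul R (x j))⟩
  exact hz

omit F in
theorem pow_le_annihilator_quotPow (m : ℕ) : J ^ m ≤ Module.annihilator R (quotPow J m) :=
  fun a ha => Module.mem_annihilator.2 fun v => by
    obtain ⟨c, rfl⟩ := Ideal.Quotient.mk_surjective v
    exact (Submodule.Quotient.mk_eq_zero _).2 (Ideal.mul_mem_right c _ ha)

omit F in
theorem pow_le_annihilator_pi (m r : ℕ) :
    J ^ m ≤ Module.annihilator R (Fin r → quotPow J m) :=
  fun a ha => Module.mem_annihilator.2 fun v => funext fun j =>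
    Module.mem_annihilator.1 (pow_le_annihilator_quotPow J m ha) (v j)

theorem toH_injective [IsNoetherianRing R] (hvan : ExtPredVanish J G n) {m : ℕ}
    (e : Ext (quotPow J m) G n) (he : toH J n m G e = 0) : e = 0 := by
  obtain ⟨l, hl, h⟩ := (toH_eq_zero_iff J e).1 he
  refine precomp_injective_of_surjective J hvan (quotMap J hl) (fun z => ?_)
    ⟨l, pow_le_annihilator_quotPow J l⟩ e h
  obtain ⟨c, rfl⟩ := Ideal.Quotient.mk_surjective z
  exact ⟨Ideal.Quotient.mk (J ^ l) c, rfl⟩

theorem extToHom_injective [IsNoetherianRing R] [Module.Finite R F] (hvan : ExtPredVanish J G n) :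
    Function.Injective (extToHom J hk G n) := by
  rw [injective_iff_map_eq_zero]
  intro e he
  obtain ⟨r, x, hx⟩ := Module.Finite.exists_fin (R := R) (M := F)
  refine precomp_injective_of_surjective J hvan (presHom J hk (le_refl k) x)
    (presHom_surjective J hk _ x hx) ⟨k, pow_le_annihilator_pi J k r⟩ e ?_
  rw [← Ext.mk₀_id_comp ((Ext.mk₀ (presHom J hk (le_refl k) x)).comp e (zero_add n)),
    ← sum_proj_comp_single (quotPow J k), Ext.mk₀_sum, Ext.sum_comp]
  refine Finset.sum_eq_zero fun j _ => ?_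
  rw [Ext.mk₀_comp_mk₀_assoc, Category.assoc, single_presHom, quotMap_refl, Category.id_comp,
    ← Ext.mk₀_comp_mk₀_assoc]
  have h1 := toH_injective J hvan ((Ext.mk₀ (elemHom J hk (x j))).comp e (zero_add n))
    (LinearMap.congr_fun he (x j))
  rw [h1, Ext.comp_zero]

theorem extToHom_surjective [IsNoetherianRing R] [Module.Finite R F] (hvan : ExtPredVanish J G n) :
    Function.Surjective (extToHom J hk G n) := by
  classical
  intro h
  obtain ⟨r, x, hx⟩ := Module.Finite.exists_fin (R := R) (M := F)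
  choose d _ e he using fun j => exists_toH_ge J (h (x j)) k
  let m := max k (Finset.univ.sup d)
  have hd : ∀ j, d j ≤ m := fun j => (Finset.le_sup (Finset.mem_univ j)).trans (le_max_right _ _)
  have hm : k ≤ m := le_max_left _ _
  let e' : Fin r → Ext (quotPow J m) G n := fun j => (Ext.mk₀ (quotMap J (hd j))).comp (e j) (zero_add n)
  have he' : ∀ j, toH J n m G (e' j) = h (x j) := fun j => (toH_restrict J (hd j) (e j)).trans (he j)
  let X : ModuleCat.{u} R := ModuleCat.of R (Fin r → quotPow J m)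
  let pr : Fin r → (X ⟶ quotPow J m) := fun j => ModuleCat.ofHom (LinearMap.proj j)
  let E : Ext X G n := ∑ j, (Ext.mk₀ (pr j)).comp (e' j) (zero_add n)
  let p : X ⟶ F := presHom J hk hm x
  let S : ShortComplex (ModuleCat.{u} R) := ShortComplex.mk
    (X₁ := ModuleCat.of R (LinearMap.ker p.hom)) (ModuleCat.ofHom (LinearMap.ker p.hom).subtype) p
    (ModuleCat.hom_ext (LinearMap.ext fun z => z.2))
  have hS : S.ShortExact :=
    { exact := (ShortComplex.moduleCat_exact_iff _).2 fun z hz => ⟨⟨z, hz⟩, rfl⟩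
      mono_f := (ModuleCat.mono_iff_injective _).2 (LinearMap.ker p.hom).injective_subtype
      epi_g := (ModuleCat.epi_iff_surjective _).2 (presHom_surjective J hk hm x hx) }
  have hK : J ^ m ≤ Module.annihilator R S.X₁ := (pow_le_annihilator_pi J m r).trans
    (LinearMap.annihilator_le_of_injective _ (LinearMap.ker p.hom).injective_subtype)
  have : Module.Finite R S.X₁ := inferInstanceAs (Module.Finite R (LinearMap.ker p.hom))
  have hE : (Ext.mk₀ S.f).comp E (zero_add n) = 0 := by
    apply extToHom_injective J hK hvan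
    rw [map_zero]
    refine LinearMap.ext fun z => ?_
    rw [extToHom_apply, Ext.mk₀_comp_mk₀_assoc, Ext.comp_sum, map_sum, LinearMap.zero_apply]
    choose c hc using fun j => Ideal.Quotient.mk_surjective (z.1 j)
    have hterm : ∀ j, toH J n m G ((Ext.mk₀ (elemHom J hK z ≫ S.f)).comp
        ((Ext.mk₀ (pr j)).comp (e' j) (zero_add n)) (zero_add n)) = c j • h (x j) := fun j => by
      have : (elemHom J hK z ≫ S.f) ≫ pr j = c j • 𝟙 _ := quotPow_hom_ext J fun a => by
        show a • z.1 j = c j • (Ideal.Quotient.mk (J ^ m) a : quotPow J m)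
        rw [← hc j]
        exact congrArg (Ideal.Quotient.mk (J ^ m)) (mul_comm a (c j))
      rw [Ext.mk₀_comp_mk₀_assoc, this, ← smul_eq_mk₀_comp, map_smul, he']
    rw [Finset.sum_congr rfl fun j _ => hterm j]
    simp only [← map_smul, ← map_sum]
    have hpz : p z.1 = ∑ j, c j • x j := by
      show (∑ i, (quotMap J hm ≫ elemHom J hk (x i)).hom ∘ₗ LinearMap.proj i) z.1 = _
      rw [LinearMap.sum_apply]
      refine Finset.sum_congr rfl fun i _ => ?_
      rw [LinearMap.comp_apply, LinearMap.proj_apply, ← hc i]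
      rfl
    rw [← hpz, show p z.1 = 0 from z.2, map_zero]
  obtain ⟨f, hf⟩ := Ext.contravariant_sequence_exact₂ hS G E hE
  refine ⟨f, LinearMap.ext_on_range hx fun j => ?_⟩
  rw [extToHom_apply, ← toH_restrict J hm, Ext.mk₀_comp_mk₀_assoc, ← single_presHom J hk hm x j,
    ← Ext.mk₀_comp_mk₀_assoc, hf, Ext.comp_sum, map_sum, Finset.sum_eq_single j]
  · rw [Ext.mk₀_comp_mk₀_assoc]
    have : ModuleCat.ofHom (LinearMap.single R (fun _ : Fin r => quotPow J m) j) ≫ pr j = 𝟙 _ :=
      ModuleCat.hom_ext (LinearMap.ext fun q =>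
        Pi.single_eq_same (M := fun _ => quotPow J m) j q)
    rw [this, Ext.mk₀_id_comp, he']
  · intro i _ hij
    have : ModuleCat.ofHom (LinearMap.single R (fun _ : Fin r => quotPow J m) j) ≫ pr i = 0 :=
      ModuleCat.hom_ext (LinearMap.ext fun q =>
        Pi.single_eq_of_ne (M := fun _ => quotPow J m) hij q)
    rw [Ext.mk₀_comp_mk₀_assoc, this, Ext.mk₀_zero, Ext.zero_comp, map_zero]
  · simp

/-- `Ext^n(F, G) ≅ Hom(F, H^n_J(G))`. -/
noncomputable def extHomEquiv [IsNoetherianRing R] [Module.Finite R F]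
    (hvan : ExtPredVanish J G n) : Ext F G n ≃ₗ[R] (F →ₗ[R] (localCohomology J n).obj G) :=
  LinearEquiv.ofBijective (extToHom J hk G n)
    ⟨extToHom_injective J hk hvan, extToHom_surjective J hk hvan⟩

end GrothLib.LC
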