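import Mathlib.Algebra.Category.ModuleCat.Abelian
import Mathlib.Algebra.Category.ModuleCat.Ext.HasExt
import Mathlib.Algebra.Category.ModuleCat.Projective
import Mathlib.Algebra.Homology.ConcreteCategory
import Mathlib.Algebra.Homology.ShortComplex.ModuleCat
import Mathlib.CategoryTheory.Abelian.Ext
import Mathlib.CategoryTheory.Abelian.Projective.Ext
import Mathlib.Algebra.Homology.DerivedCategory.Ext.Linear

/-! Comparison between `Ext R (ModuleCat R) n` (left derived `Hom`) and `Abelian.Ext`. -/

universe u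

open CategoryTheory Limits Opposite

namespace GrothLib.LC

variable {R : Type u} [CommRing R]

section Classes

variable {K L : CochainComplex (ModuleCat.{u} R) ℕ}

theorem cycle_hom_ext (n : ℕ) {z z' : K.cycles n} (h : K.iCycles n z = K.iCycles n z') : z = z' :=
  (ModuleCat.mono_iff_injective (K.iCycles n)).1 inferInstance h

theorem exists_cycle {n : ℕ} {x : K.X n} (hx : K.d n (n + 1) x = 0) :
    ∃ z : K.cycles n, K.iCycles n z = x :=
  ⟨K.cyclesMk (show (forget₂ (ModuleCat.{u} R) Ab).obj (K.X n) from x) (n + 1) (by simp) hx,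
    K.i_cyclesMk _ _ _ _⟩

theorem iCycles_d_apply (n : ℕ) (z : K.cycles n) : K.d n (n + 1) (K.iCycles n z) = 0 := by
  rw [← ConcreteCategory.comp_apply, HomologicalComplex.iCycles_d]
  rfl

theorem homologyπ_surjective (n : ℕ) : Function.Surjective (K.homologyπ n) :=
  (ModuleCat.epi_iff_surjective (K.homologyπ n)).1 inferInstance

theorem homologyπ_zero_injective : Function.Injective (K.homologyπ 0) := by
  intro a b h
  exact (ModuleCat.mono_iff_injective (K.isoHomologyπ₀.hom)).1 inferInstance h

theorem homologyπ_eq_zero_iff (p : ℕ) (z : K.cycles (p + 1)) :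
    K.homologyπ (p + 1) z = 0 ↔ ∃ w : K.X p, K.d p (p + 1) w = K.iCycles (p + 1) z := by
  have hex : (ShortComplex.mk (K.toCycles p (p + 1)) (K.homologyπ (p + 1))
      (K.toCycles_comp_homologyπ p (p + 1))).Exact :=
    ShortComplex.exact_of_g_is_cokernel _ (K.homologyIsCokernel p (p + 1) (by simp))
  constructor
  · intro h
    obtain ⟨w, hw⟩ := (ShortComplex.moduleCat_exact_iff _).1 hex z h
    exact ⟨w, by rw [← hw, ← ConcreteCategory.comp_apply, HomologicalComplex.toCycles_i]⟩
  · rintro ⟨w, hw⟩
    have : K.toCycles p (p + 1) w = z := cycle_hom_ext _ (by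
      rw [← ConcreteCategory.comp_apply, HomologicalComplex.toCycles_i, hw])
    rw [← this, ← ConcreteCategory.comp_apply, HomologicalComplex.toCycles_comp_homologyπ]
    rfl

theorem iCycles_cyclesMap (φ : K ⟶ L) (n : ℕ) (z : K.cycles n) :
    L.iCycles n (HomologicalComplex.cyclesMap φ n z) = φ.f n (K.iCycles n z) := by
  rw [← ConcreteCategory.comp_apply, HomologicalComplex.cyclesMap_i, ConcreteCategory.comp_apply]

theorem homologyMap_π (φ : K ⟶ L) (n : ℕ) (z : K.cycles n) :
    HomologicalComplex.homologyMap φ n (K.homologyπ n z) =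
      L.homologyπ n (HomologicalComplex.cyclesMap φ n z) := by
  rw [← ConcreteCategory.comp_apply, HomologicalComplex.homologyπ_naturality,
    ConcreteCategory.comp_apply]

/-- The cycle class of a cocycle, as a linear map. -/
noncomputable def classOf (n : ℕ) (x : K.X n) (hx : K.d n (n + 1) x = 0) : K.homology n :=
  K.homologyπ n (exists_cycle hx).choose

theorem classOf_surjective (n : ℕ) (h : K.homology n) :
    ∃ x hx, classOf (K := K) n x hx = h := by
  obtain ⟨z, rfl⟩ := homologyπ_surjective n h
  refine ⟨K.iCycles n z, iCycles_d_apply n z, congrArg _ (cycle_hom_ext n ?_)⟩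
  exact (exists_cycle (iCycles_d_apply n z)).choose_spec

theorem classOf_zero_eq_zero_iff (x : K.X 0) (hx : K.d 0 1 x = 0) :
    classOf 0 x hx = 0 ↔ x = 0 := by
  constructor
  · intro h
    have := homologyπ_zero_injective (h.trans (map_zero (K.homologyπ 0).hom).symm)
    rw [← (exists_cycle (n := 0) hx).choose_spec, this, map_zero]
  · intro h
    have : (exists_cycle (n := 0) hx).choose = 0 :=
      cycle_hom_ext _ (by rw [(exists_cycle (n := 0) hx).choose_spec, map_zero, h])
    rw [classOf, this, map_zero]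

theorem classOf_succ_eq_zero_iff (p : ℕ) (x : K.X (p + 1)) (hx : K.d (p + 1) (p + 2) x = 0) :
    classOf (p + 1) x hx = 0 ↔ ∃ w : K.X p, K.d p (p + 1) w = x := by
  rw [classOf, homologyπ_eq_zero_iff, (exists_cycle (n := p + 1) hx).choose_spec]

theorem map_cocycle (φ : K ⟶ L) {n : ℕ} {x : K.X n} (hx : K.d n (n + 1) x = 0) :
    L.d n (n + 1) (φ.f n x) = 0 := by
  have h : (φ.f n ≫ L.d n (n + 1)) x = (K.d n (n + 1) ≫ φ.f (n + 1)) x := by rw [φ.comm]
  rw [ConcreteCategory.comp_apply, ConcreteCategory.comp_apply, hx, map_zero] at h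
  exact h

theorem classOf_map (φ : K ⟶ L) (n : ℕ) (x : K.X n) (hx : K.d n (n + 1) x = 0) :
    HomologicalComplex.homologyMap φ n (classOf n x hx) =
      classOf n (φ.f n x) (map_cocycle φ hx) := by
  rw [classOf, homologyMap_π]
  refine congrArg _ (cycle_hom_ext n ?_)
  rw [iCycles_cyclesMap, (exists_cycle hx).choose_spec, (exists_cycle (map_cocycle φ hx)).choose_spec]

theorem classOf_add (n : ℕ) (x y : K.X n) (hx : K.d n (n + 1) x = 0) (hy : K.d n (n + 1) y = 0) :
    classOf n (x + y) (by rw [map_add, hx, hy, add_zero]) = classOf n x hx + classOf n y hy := by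
  refine (congrArg (K.homologyπ n) (cycle_hom_ext n ?_)).trans (map_add (K.homologyπ n).hom _ _)
  exact (exists_cycle (show K.d n (n + 1) (x + y) = 0 by
    rw [map_add, hx, hy, add_zero])).choose_spec.trans ((congrArg₂ (· + ·) (exists_cycle hx).choose_spec
    (exists_cycle hy).choose_spec).symm.trans (map_add (K.iCycles n).hom _ _).symm)

theorem classOf_smul (n : ℕ) (r : R) (x : K.X n) (hx : K.d n (n + 1) x = 0) :
    classOf n (r • x) (by rw [map_smul, hx, smul_zero]) = r • classOf n x hx := by
  refine (congrArg (K.homologyπ n) (cycle_hom_ext n ?_)).trans (map_smul (K.homologyπ n).hom _ _)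
  exact (exists_cycle (show K.d n (n + 1) (r • x) = 0 by
    rw [map_smul, hx, smul_zero])).choose_spec.trans ((congrArg (r • ·) (exists_cycle hx).choose_spec).symm.trans
    (map_smul (K.iCycles n).hom r _).symm)

end Classes

section OldExt

variable {X X' Y Y' : ModuleCat.{u} R}

/-- The old `Ext` functor evaluated at a pair of modules. -/
noncomputable abbrev oldExt (X Y : ModuleCat.{u} R) (n : ℕ) : ModuleCat.{u} R :=
  ((Ext R (ModuleCat.{u} R) n).obj (op X)).obj Y

/-- The class in the old `Ext` of a cocycle on a projective resolution. -/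
noncomputable def oldClass (P : ProjectiveResolution X) (n : ℕ) (f : P.complex.X n ⟶ Y)
    (hf : P.complex.d (n + 1) n ≫ f = 0) : oldExt X Y n :=
  (P.isoExt n Y).inv (classOf (K := P.complex.linearYonedaObj R Y) n f hf)

theorem oldClass_surjective (P : ProjectiveResolution X) (n : ℕ) (e : oldExt X Y n) :
    ∃ f hf, oldClass P n f hf = e := by
  obtain ⟨x, hx, h⟩ := classOf_surjective (K := P.complex.linearYonedaObj R Y) n ((P.isoExt n Y).hom e)
  exact ⟨x, hx, by rw [oldClass, h, Iso.hom_inv_id_apply]⟩

theorem isoExt_inv_injective (P : ProjectiveResolution X) (n : ℕ) :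
    Function.Injective (P.isoExt (R := R) n Y).inv :=
  (ModuleCat.mono_iff_injective _).1 inferInstance

theorem oldClass_zero_eq_zero_iff (P : ProjectiveResolution X) (f : P.complex.X 0 ⟶ Y)
    (hf : P.complex.d 1 0 ≫ f = 0) : oldClass P 0 f hf = 0 ↔ f = 0 := by
  rw [oldClass, ← map_zero (P.isoExt (R := R) 0 Y).inv.hom, (isoExt_inv_injective P 0).eq_iff]
  exact classOf_zero_eq_zero_iff (K := P.complex.linearYonedaObj R Y) f hf

theorem oldClass_succ_eq_zero_iff (P : ProjectiveResolution X) (p : ℕ)
    (f : P.complex.X (p + 1) ⟶ Y) (hf : P.complex.d (p + 2) (p + 1) ≫ f = 0) :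
    oldClass P (p + 1) f hf = 0 ↔ ∃ g : P.complex.X p ⟶ Y, P.complex.d (p + 1) p ≫ g = f := by
  rw [oldClass, ← map_zero (P.isoExt (R := R) (p + 1) Y).inv.hom,
    (isoExt_inv_injective P (p + 1)).eq_iff]
  exact classOf_succ_eq_zero_iff (K := P.complex.linearYonedaObj R Y) p f hf

theorem oldClass_add (P : ProjectiveResolution X) (n : ℕ) (f g : P.complex.X n ⟶ Y)
    (hf : P.complex.d (n + 1) n ≫ f = 0) (hg : P.complex.d (n + 1) n ≫ g = 0) :
    oldClass P n (f + g) (by rw [Preadditive.comp_add, hf, hg, add_zero]) =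
      oldClass P n f hf + oldClass P n g hg := by
  rw [oldClass, oldClass, oldClass, ← map_add]
  exact congrArg _ (classOf_add (K := P.complex.linearYonedaObj R Y) n f g hf hg)

theorem oldClass_smul (P : ProjectiveResolution X) (n : ℕ) (r : R) (f : P.complex.X n ⟶ Y)
    (hf : P.complex.d (n + 1) n ≫ f = 0) :
    oldClass P n (r • f) (by rw [Linear.comp_smul, hf, smul_zero]) = r • oldClass P n f hf := by
  rw [oldClass, oldClass, ← map_smul]
  exact congrArg _ (classOf_smul (K := P.complex.linearYonedaObj R Y) n r f hf)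

/-- Precomposition with a chain map, on `Hom(-, Y)` complexes. -/
noncomputable def yonedaMapLeft {P Q : ChainComplex (ModuleCat.{u} R) ℕ} (φ : P ⟶ Q)
    (Y : ModuleCat.{u} R) : Q.linearYonedaObj R Y ⟶ P.linearYonedaObj R Y :=
  (HomologicalComplex.unopFunctor _ _).map
    (((((linearYoneda R (ModuleCat.{u} R)).obj Y).rightOp).mapHomologicalComplex _).map φ).op

/-- Postcomposition, on `Hom(P, -)` complexes. -/
noncomputable def yonedaMapRight (P : ChainComplex (ModuleCat.{u} R) ℕ) (g : Y ⟶ Y') :
    P.linearYonedaObj R Y ⟶ P.linearYonedaObj R Y' :=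
  (HomologicalComplex.unopFunctor _ _).map
    ((NatTrans.mapHomologicalComplex (NatTrans.rightOp ((linearYoneda R (ModuleCat.{u} R)).map g))
      _).app P).op

theorem homologyUnop_naturality {K L : ChainComplex (ModuleCat.{u} R)ᵒᵖ ℕ} (ψ : K ⟶ L) (n : ℕ) :
    (HomologicalComplex.homologyMap ψ n).unop ≫ (K.homologyUnop n).inv =
      (L.homologyUnop n).inv ≫
        HomologicalComplex.homologyMap ((HomologicalComplex.unopFunctor _ _).map ψ.op) n := by
  have h := HomologicalComplex.homologyOp_hom_naturality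
    ((HomologicalComplex.unopFunctor _ _).map ψ.op) n
  exact (Iso.eq_inv_comp _).2 ((Category.assoc _ _ _).symm.trans
    ((Iso.comp_inv_eq _).2 (congrArg Quiver.Hom.unop h)))

theorem oldClass_naturality_left (g : X' ⟶ X) (P : ProjectiveResolution X)
    (P' : ProjectiveResolution X') (φ : P'.complex ⟶ P.complex)
    (comm : φ.f 0 ≫ P.π.f 0 = P'.π.f 0 ≫ g) (n : ℕ) (f : P.complex.X n ⟶ Y)
    (hf : P.complex.d (n + 1) n ≫ f = 0) :
    ((Ext R (ModuleCat.{u} R) n).map g.op).app Y (oldClass P n f hf) =
      oldClass P' n (φ.f n ≫ f) (by rw [← φ.comm_assoc, hf, comp_zero]) := by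
  have key : ((Ext R (ModuleCat.{u} R) n).map g.op).app Y ≫ (P'.isoExt n Y).hom =
      (P.isoExt n Y).hom ≫ HomologicalComplex.homologyMap (yonedaMapLeft φ Y) n := by
    have h := ProjectiveResolution.isoLeftDerivedObj_hom_naturality g P' P φ comm
      ((linearYoneda R (ModuleCat.{u} R)).obj Y).rightOp n
    have h' := congrArg Quiver.Hom.unop h
    rw [unop_comp, unop_comp] at h'
    have h2 := homologyUnop_naturality
      (((((linearYoneda R (ModuleCat.{u} R)).obj Y).rightOp).mapHomologicalComplex _).map φ) n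
    change ((((linearYoneda R (ModuleCat.{u} R)).obj Y).rightOp.leftDerived n).map g).unop ≫
      (P'.isoLeftDerivedObj _ n).inv.unop ≫ (HomologicalComplex.homologyUnop _ n).inv =
      ((P.isoLeftDerivedObj _ n).inv.unop ≫ (HomologicalComplex.homologyUnop _ n).inv) ≫ _
    have h3 : ((((linearYoneda R (ModuleCat.{u} R)).obj Y).rightOp.leftDerived n).map g).unop ≫
        (P'.isoLeftDerivedObj _ n).inv.unop = (P.isoLeftDerivedObj
          ((linearYoneda R (ModuleCat.{u} R)).obj Y).rightOp n).inv.unop ≫
        ((((linearYoneda R (ModuleCat.{u} R)).obj Y).rightOp.mapHomologicalComplex _ ⋙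
          HomologicalComplex.homologyFunctor _ _ n).map φ).unop := by
      rw [← unop_comp, ← unop_comp]
      exact congrArg Quiver.Hom.unop
        (ProjectiveResolution.isoLeftDerivedObj_inv_naturality g P' P φ comm _ n)
    exact (Category.assoc _ _ _).symm.trans ((congrArg (· ≫ _) h3).trans
      ((Category.assoc _ _ _).trans ((congrArg _ h2).trans (Category.assoc _ _ _).symm)))
  apply (ModuleCat.mono_iff_injective (P'.isoExt (R := R) n Y).hom).1 inferInstance
  rw [← ConcreteCategory.comp_apply, key, ConcreteCategory.comp_apply, oldClass, oldClass,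
    Iso.inv_hom_id_apply, Iso.inv_hom_id_apply]
  exact classOf_map (yonedaMapLeft φ Y) n f hf

theorem oldClass_naturality_right (P : ProjectiveResolution X) (g : Y ⟶ Y') (n : ℕ)
    (f : P.complex.X n ⟶ Y) (hf : P.complex.d (n + 1) n ≫ f = 0) :
    ((Ext R (ModuleCat.{u} R) n).obj (op X)).map g (oldClass P n f hf) =
      oldClass P n (f ≫ g) (by rw [reassoc_of% hf, zero_comp]) := by
  let α : ((linearYoneda R (ModuleCat.{u} R)).obj Y').rightOp ⟶
      ((linearYoneda R (ModuleCat.{u} R)).obj Y).rightOp :=
    NatTrans.rightOp ((linearYoneda R (ModuleCat.{u} R)).map g)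
  have key : ((Ext R (ModuleCat.{u} R) n).obj (op X)).map g ≫ (P.isoExt n Y').hom =
      (P.isoExt n Y).hom ≫ HomologicalComplex.homologyMap (yonedaMapRight P.complex g) n := by
    have h2 := homologyUnop_naturality ((NatTrans.mapHomologicalComplex α _).app P.complex) n
    change ((NatTrans.leftDerived α n).app X).unop ≫
      (P.isoLeftDerivedObj _ n).inv.unop ≫ (HomologicalComplex.homologyUnop _ n).inv =
      ((P.isoLeftDerivedObj _ n).inv.unop ≫ (HomologicalComplex.homologyUnop _ n).inv) ≫ _
    have h3 : ((NatTrans.leftDerived α n).app X).unop ≫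
        (P.isoLeftDerivedObj ((linearYoneda R (ModuleCat.{u} R)).obj Y').rightOp n).inv.unop =
        (P.isoLeftDerivedObj ((linearYoneda R (ModuleCat.{u} R)).obj Y).rightOp n).inv.unop ≫
        ((HomologicalComplex.homologyFunctor _ _ n).map
          ((NatTrans.mapHomologicalComplex α _).app P.complex)).unop := by
      rw [← unop_comp, ← unop_comp, ProjectiveResolution.leftDerived_app_eq, Iso.inv_hom_id_assoc]
    exact (Category.assoc _ _ _).symm.trans ((congrArg (· ≫ _) h3).trans
      ((Category.assoc _ _ _).trans ((congrArg _ h2).trans (Category.assoc _ _ _).symm)))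
  apply (ModuleCat.mono_iff_injective (P.isoExt (R := R) n Y').hom).1 inferInstance
  rw [← ConcreteCategory.comp_apply, key, ConcreteCategory.comp_apply, oldClass, oldClass,
    Iso.inv_hom_id_apply, Iso.inv_hom_id_apply]
  exact classOf_map (yonedaMapRight P.complex g) n f hf

end OldExt

end GrothLib.LC
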